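import Groth.Agent.ModEtQcLib.Coherent
import Mathlib.Algebra.Module.FinitePresentation
import Mathlib.Algebra.Category.ModuleCat.Kernels
import Mathlib.RingTheory.Flat.Basic

/-!
# Finite type and finite presentation of quasi-coherent modules, read on affine objects
-/

set_option autoImplicit false
set_option backward.isDefEq.respectTransparency false
set_option backward.isDefEq.respectTransparency.types false
universe u
open CategoryTheory CategoryTheory.Limits AlgebraicGeometry Opposite AlgSp TopologicalSpace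
open scoped TensorProduct

noncomputable section

namespace ModEtQc

variable {S : Scheme.{u}} {X : Sp S}

/-- A module is finite if it is so after a faithful family of base changes. -/
theorem finite_of_family {A : Type (u + 1)} [CommRing A] {κ : Type} [Finite κ] (B : κ → Type (u + 1))
    [∀ k, CommRing (B k)] [∀ k, Algebra A (B k)] (hB : FaithfulFamily A B) (N : Type (u + 1)) [AddCommGroup N]
    [Module A N] (hf : ∀ k, Module.Finite (B k) (B k ⊗[A] N)) : Module.Finite A N := by
  classical
  have hN : ∀ k, ∃ P : Submodule A N, P.FG ∧ ∀ x : B k ⊗[A] N, P.mkQ.lTensor (B k) x = 0 := fun k => by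
    obtain ⟨m, s, hs⟩ := (hf k).exists_fin
    choose P hP hPx using fun l => exists_fg_mem_range (s l)
    refine ⟨⨆ l, P l, Submodule.fg_iSup _ hP, fun y => ?_⟩
    let q : B k ⊗[A] N →ₗ[B k] B k ⊗[A] (N ⧸ ⨆ l, P l) :=
      TensorProduct.AlgebraTensorModule.lTensor (B k) (B k) (⨆ l, P l).mkQ
    have hy : y ∈ LinearMap.ker q := by
      have : (⊤ : Submodule (B k) (B k ⊗[A] N)) ≤ LinearMap.ker q := by
        rw [← hs, Submodule.span_le]
        rintro _ ⟨l, rfl⟩
        exact mkQ_lTensor_mono (le_iSup P l) (hPx l)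
      exact this trivial
    exact hy
  choose P hP hPx using hN
  refine Module.finite_def.2 (?_ : (⊤ : Submodule A N).FG)
  rw [show (⊤ : Submodule A N) = ⨆ k, P k from (eq_top_iff.2 fun m _ => ?_).symm]
  · exact Submodule.fg_iSup _ hP
  · rw [← Submodule.Quotient.mk_eq_zero]
    refine hB _ _ fun k => ?_
    exact mkQ_lTensor_mono (le_iSup P k) (hPx k ((1 : B k) ⊗ₜ[A] m))

/-- A module is finitely presented if it is so after a faithful family of flat base changes. -/
theorem finitePresentation_of_family {A : Type (u + 1)} [CommRing A] {κ : Type} [Finite κ] (B : κ → Type (u + 1))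
    [∀ k, CommRing (B k)] [∀ k, Algebra A (B k)] [∀ k, Module.Flat A (B k)] (hB : FaithfulFamily A B)
    (N : Type (u + 1)) [AddCommGroup N] [Module A N] [Module.Finite A N]
    (hf : ∀ k, Module.FinitePresentation (B k) (B k ⊗[A] N)) : Module.FinitePresentation A N := by
  obtain ⟨r, π, hπ⟩ := Module.Finite.exists_fin' A N
  refine Module.finitePresentation_of_surjective π hπ (Module.Finite.iff_fg.1 ?_)
  let K := LinearMap.ker π
  refine finite_of_family B hB K fun k => ?_
  haveI := hf k
  have hfg : (LinearMap.ker (π.baseChange (B k))).FG :=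
    Module.FinitePresentation.fg_ker (π.baseChange (B k)) (LinearMap.lTensor_surjective (B k) hπ)
  have hinj : Function.Injective (K.subtype.baseChange (B k)) :=
    Module.Flat.lTensor_preserves_injective_linearMap (M := B k) K.subtype K.injective_subtype
  have hex : Function.Exact (K.subtype.baseChange (B k)) (π.baseChange (B k)) :=
    lTensor_exact (B k) π.exact_subtype_ker_map hπ
  rw [LinearMap.exact_iff] at hex
  rw [hex] at hfg
  haveI : Module.Finite (B k) (LinearMap.range (K.subtype.baseChange (B k))) := Module.Finite.iff_fg.2 hfg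
  exact Module.Finite.equiv (LinearEquiv.ofInjective _ hinj).symm

theorem fp_of_cokernel {R : Type (u + 1)} [CommRing R] {C : Type*} [Category C] [HasZeroMorphisms C]
    {L : ModuleCat.{u + 1} R ⥤ C} {Γ' : C ⥤ ModuleCat.{u + 1} R} (adj : L ⊣ Γ') [IsIso adj.unit]
    [L.PreservesZeroMorphisms] {A B : ModuleCat.{u + 1} R} [Module.Finite R A] [Module.FinitePresentation R B]
    {A' B' : C} (i : L.obj A ≅ A') (j : L.obj B ≅ B') (f : A' ⟶ B') (c : CokernelCofork f) (hc : IsColimit c) :
    Module.FinitePresentation R (Γ'.obj c.pt) := by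
  haveI : PreservesColimitsOfSize.{0, 0} L := adj.leftAdjoint_preservesColimits
  let hF := adj.fullyFaithfulLOfIsIsoUnit
  let a : A ⟶ B := hF.preimage (i.hom ≫ f ≫ j.inv)
  have ha : L.map a = i.hom ≫ f ≫ j.inv := hF.map_preimage _
  let c₀ := CokernelCofork.mapIsColimit _ (cokernelIsCokernel a) L
  let e' : L.obj (cokernel a) ≅ c.pt :=
    c₀.coconePointsIsoOfNatIso hc (parallelPair.ext i j (by simp [ha]) (by simp))
  let l : cokernel a ≅ Γ'.obj c.pt := asIso (adj.unit.app (cokernel a)) ≪≫ Γ'.mapIso e'
  refine (LinearEquiv.finitePresentation_iff ((ModuleCat.cokernelIsoRangeQuotient a).symm ≪≫ l).toLinearEquiv).1 ?_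
  refine Module.finitePresentation_of_surjective (LinearMap.range a.hom).mkQ (Submodule.mkQ_surjective _) ?_
  rw [Submodule.ker_mkQ, ← Submodule.map_top]
  exact Module.Finite.fg_top.map _

section Slice

variable {E₀ : EtOver X}

theorem fp_coprod (I : Type (u + 1)) [Finite I] :
    Module.FinitePresentation (Ring E₀) (∐ fun _ : I => ringMod E₀ : ModuleCat.{u + 1} (Ring E₀)) := by
  classical
  haveI := Fintype.ofFinite I
  let M : ModuleCat.{u + 1} (Ring E₀) := ∐ fun _ : I => ringMod E₀
  let d : (I → Ring E₀) →ₗ[Ring E₀] M :=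
    Fintype.linearCombination (Ring E₀) (fun i => Sigma.ι (fun _ : I => ringMod E₀) i (1 : Ring E₀))
  let c : M ⟶ ModuleCat.of (Ring E₀) (I → Ring E₀) :=
    Sigma.desc fun i => ModuleCat.ofHom (LinearMap.single (Ring E₀) (fun _ : I => Ring E₀) i)
  have hc : ∀ v, c.hom (d v) = v := fun v => by
    rw [Fintype.linearCombination_apply, map_sum]
    refine Eq.trans (Finset.sum_congr rfl fun i _ => ?_) (Finset.univ_sum_single v)
    rw [map_smul]
    have h := congrArg (fun q : ringMod E₀ ⟶ ModuleCat.of (Ring E₀) (I → Ring E₀) => q (1 : Ring E₀))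
      (Sigma.ι_desc (fun i => ModuleCat.ofHom (LinearMap.single (Ring E₀) (fun _ : I => Ring E₀) i)) i)
    refine (congrArg (v i • ·) h).trans ?_
    change v i • Pi.single i (1 : Ring E₀) = Pi.single i (v i)
    rw [← Pi.single_smul, smul_eq_mul, mul_one]
  have hd : Function.Surjective d := by
    intro m
    have hq : ModuleCat.ofHom (LinearMap.range d).mkQ = 0 := by
      refine Sigma.hom_ext _ _ fun i => ModuleCat.hom_ext (LinearMap.ext fun a => ?_)
      rw [comp_zero]
      change (LinearMap.range d).mkQ (Sigma.ι (fun _ : I => ringMod E₀) i a) = 0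
      rw [Submodule.mkQ_apply, Submodule.Quotient.mk_eq_zero]
      refine ⟨Pi.single i (show Ring E₀ from a), ?_⟩
      rw [Fintype.linearCombination_apply_single]
      exact (map_smul (Sigma.ι (fun _ : I => ringMod E₀) i).hom _ _).symm.trans (congrArg _ (mul_one _))
    exact (Submodule.Quotient.mk_eq_zero _).1 (congrArg (fun φ => φ m) hq)
  exact Module.FinitePresentation.of_equiv
    (LinearEquiv.ofBijective d ⟨Function.LeftInverse.injective (g := c.hom) hc, hd⟩)

theorem fp_of_presentation [IsAffine E₀.obj.left.left] {G : ModEtOn E₀} (P : G.Presentation) [P.IsFinite] :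
    Module.FinitePresentation (Ring E₀) ((Γt E₀).obj G) := by
  haveI := isIso_unit (E₀ := E₀)
  haveI := fp_coprod (E₀ := E₀) P.generators.I
  haveI := finite_coprod (E₀ := E₀) P.relations.I
  obtain ⟨e⟩ := isIso_tilde_ring (E₀ := E₀)
  let i : ∀ J : Type (u + 1), (tildeF E₀).obj (∐ fun _ : J => ringMod E₀) ≅ SheafOfModules.free (R := OEtOn E₀) J :=
    fun J => PreservesCoproduct.iso (tildeF E₀) _ ≪≫ Sigma.mapIso fun _ => e
  exact fp_of_cokernel (tildeAdj E₀) (i P.relations.I) (i P.generators.I)
    ((SheafOfModules.freeHomEquiv _).symm P.relations.s ≫ kernel.ι P.generators.π) _ P.isColimit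

theorem exists_generators_of_isTilde {M : ModEtOn E₀} (h : IsTilde M) [Module.Finite (Ring E₀) ((Γt E₀).obj M)] :
    ∃ σ : M.GeneratingSections, σ.IsFiniteType := by
  haveI := isIso_counit_of_isTilde h
  obtain ⟨e⟩ := isIso_tilde_ring (E₀ := E₀)
  let N : ModuleCat.{u + 1} (Ring E₀) := (Γt E₀).obj M
  obtain ⟨n, s, hs⟩ := Module.Finite.exists_fin (R := Ring E₀) (M := N)
  let J : Type (u + 1) := ULift.{u + 1} (Fin n)
  let π : (∐ fun _ : J => ringMod E₀) ⟶ N :=
    Sigma.desc fun j => ModuleCat.ofHom (LinearMap.toSpanSingleton (Ring E₀) N (s j.down))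
  haveI : Epi π := by
    refine (ModuleCat.epi_iff_surjective π).2 (LinearMap.range_eq_top.1 (eq_top_iff.2 (hs.symm.le.trans ?_)))
    rw [Submodule.span_le]
    rintro _ ⟨j, rfl⟩
    refine ⟨Sigma.ι (fun _ : J => ringMod E₀) ⟨j⟩ (1 : Ring E₀), ?_⟩
    have := congrArg (fun q : ringMod E₀ ⟶ N => q (1 : Ring E₀))
      (Sigma.ι_desc (fun j => ModuleCat.ofHom (LinearMap.toSpanSingleton (Ring E₀) N (s j.down))) (⟨j⟩ : J))
    exact this.trans (one_smul _ _)
  let p : SheafOfModules.free (R := OEtOn E₀) J ⟶ M :=
    (PreservesCoproduct.iso (tildeF E₀) _ ≪≫ Sigma.mapIso fun _ => e).inv ≫ (tildeF E₀).map π ≫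
      (tildeAdj E₀).counit.app M
  haveI : Epi p := inferInstance
  have hp : Epi ((SheafOfModules.freeHomEquiv M).symm (SheafOfModules.freeHomEquiv M p)) := by
    rw [Equiv.symm_apply_apply]
    infer_instance
  let σ : M.GeneratingSections := { I := J, s := SheafOfModules.freeHomEquiv M p, epi := hp }
  exact ⟨σ, ⟨(inferInstance : Finite J)⟩⟩

theorem exists_presentation_of_fp {M : ModEtOn E₀} (h : IsTilde M)
    [Module.FinitePresentation (Ring E₀) ((Γt E₀).obj M)] : ∃ P : M.Presentation, P.IsFinite := by
  haveI := isIso_counit_of_isTilde h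
  obtain ⟨e⟩ := isIso_tilde_ring (E₀ := E₀)
  let A := ringMod E₀
  let N : ModuleCat.{u + 1} (Ring E₀) := (Γt E₀).obj M
  obtain ⟨n, s, hs⟩ := Module.Finite.exists_fin (R := Ring E₀) (M := N)
  let J : Type (u + 1) := ULift.{u + 1} (Fin n)
  let π : (∐ fun _ : J => A) ⟶ N := Sigma.desc fun j => ModuleCat.ofHom (LinearMap.toSpanSingleton (Ring E₀) N (s j.down))
  have hπ : Function.Surjective π := by
    refine LinearMap.range_eq_top.1 (eq_top_iff.2 (hs.symm.le.trans ?_))
    rw [Submodule.span_le]
    rintro _ ⟨j, rfl⟩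
    refine ⟨Sigma.ι (fun _ : J => A) ⟨j⟩ (1 : Ring E₀), ?_⟩
    have := congrArg (fun q : A ⟶ N => q (1 : Ring E₀))
      (Sigma.ι_desc (fun j => ModuleCat.ofHom (LinearMap.toSpanSingleton (Ring E₀) N (s j.down))) (⟨j⟩ : J))
    exact this.trans (one_smul _ _)
  haveI : Epi π := (ModuleCat.epi_iff_surjective π).2 hπ
  let K : ModuleCat.{u + 1} (Ring E₀) := kernel π
  haveI := finite_coprod (E₀ := E₀) J
  haveI : Module.Finite (Ring E₀) (LinearMap.ker π.hom) :=
    Module.Finite.iff_fg.2 (Module.FinitePresentation.fg_ker π.hom hπ)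
  haveI : Module.Finite (Ring E₀) K := Module.Finite.equiv (ModuleCat.kernelIsoKer π).toLinearEquiv.symm
  obtain ⟨m, t, htk⟩ := Module.Finite.exists_fin (R := Ring E₀) (M := K)
  let I : Type (u + 1) := ULift.{u + 1} (Fin m)
  let κ : (∐ fun _ : I => A) ⟶ K := Sigma.desc fun j => ModuleCat.ofHom (LinearMap.toSpanSingleton (Ring E₀) K (t j.down))
  haveI : Epi κ := by
    refine (ModuleCat.epi_iff_surjective κ).2 (LinearMap.range_eq_top.1 (eq_top_iff.2 (htk.symm.le.trans ?_)))
    rw [Submodule.span_le]
    rintro _ ⟨j, rfl⟩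
    refine ⟨Sigma.ι (fun _ : I => A) ⟨j⟩ (1 : Ring E₀), ?_⟩
    have := congrArg (fun q : A ⟶ K => q (1 : Ring E₀))
      (Sigma.ι_desc (fun j => ModuleCat.ofHom (LinearMap.toSpanSingleton (Ring E₀) K (t j.down))) (⟨j⟩ : I))
    exact this.trans (one_smul _ _)
  have hz : (κ ≫ kernel.ι π) ≫ π = 0 := by rw [Category.assoc, kernel.condition, comp_zero]
  have hc : IsColimit (CokernelCofork.ofπ π hz) :=
    isCokernelEpiComp (c := CokernelCofork.ofπ _ (kernel.condition π))
      (Abelian.epiIsCokernelOfKernel _ (limit.isLimit _)) _ rfl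
  let i : ∀ J : Type (u + 1), (tildeF E₀).obj (∐ fun _ : J => A) ≅ SheafOfModules.free (R := OEtOn E₀) J := fun J =>
    PreservesCoproduct.iso (tildeF E₀) _ ≪≫ Sigma.mapIso fun _ => e
  let f := (i I).inv ≫ (tildeF E₀).map (κ ≫ kernel.ι π) ≫ (i J).hom
  let g := (i J).inv ≫ (tildeF E₀).map π ≫ (tildeAdj E₀).counit.app M
  have hfg : f ≫ g = 0 := by
    simp only [f, g, Category.assoc, Iso.hom_inv_id_assoc, ← Functor.map_comp_assoc, hz]
    simp
  refine ⟨SheafOfModules.presentationOfIsCokernelFree f g hfg
    (IsColimit.equivOfNatIsoOfIso (parallelPair.ext (i I) (i J) (by simp [f]) (by simp)) _ _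
      (Cofork.ext (asIso ((tildeAdj E₀).counit.app M)) (Category.assoc _ _ _))
      (isColimitOfPreserves (tildeF E₀) hc)), ?_⟩
  exact { isFiniteType_generators := ⟨inferInstanceAs (Finite J)⟩
          isFiniteType_relations := ⟨inferInstanceAs (Finite I)⟩ }

end Slice

/-- Finite type from a covering family of affine objects. -/
theorem isFiniteType_of_cover (M : ModEt X) (h : BC M) {I : Type (u + 1)} (W : I → EtOver X)
    (hW : ∀ i, IsAffine (W i).obj.left.left) (hc : (etTop X).CoversTop W)
    (hf : ∀ i, Module.Finite (Ring (W i)) (sec M (W i))) : M.IsFiniteType := by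
  have hp : ∀ i, ∃ σ : (M.over (W i)).GeneratingSections, σ.IsFiniteType := fun i => by
    haveI : Module.Finite (Ring (W i)) ((Γt (W i)).obj (M.over (W i))) := hf i
    exact exists_generators_of_isTilde (h (W i) (hW i))
  choose G hG using hp
  let σ : SheafOfModules.LocalGeneratorsData (J := etTop X) (R := OEtRing X) M :=
    { I := I, X := W, coversTop := hc, generators := G }
  haveI : σ.IsFiniteType := { isFiniteType := fun i => hG i }
  exact { exists_localGeneratorsData := ⟨σ, this⟩ }

/-- Finite presentation from a covering family of affine objects. -/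
theorem isFinitePresentation_of_cover (M : ModEt X) (h : BC M) {I : Type (u + 1)} (W : I → EtOver X)
    (hW : ∀ i, IsAffine (W i).obj.left.left) (hc : (etTop X).CoversTop W)
    (hf : ∀ i, Module.FinitePresentation (Ring (W i)) (sec M (W i))) : M.IsFinitePresentation := by
  have hp : ∀ i, ∃ P : (M.over (W i)).Presentation, P.IsFinite := fun i => by
    haveI : Module.FinitePresentation (Ring (W i)) ((Γt (W i)).obj (M.over (W i))) := hf i
    exact exists_presentation_of_fp (h (W i) (hW i))
  choose P hP using hp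
  let σ : SheafOfModules.QuasicoherentData (J := etTop X) (R := OEtRing X) M :=
    { I := I, X := W, coversTop := hc, presentation := P }
  haveI : σ.IsFinitePresentation := { isFinite_presentation := fun i => hP i }
  exact { exists_quasicoherentData := ⟨σ, this⟩ }

theorem coversTop_affine : (etTop X).CoversTop (fun E : {E : EtOver X // IsAffine E.obj.left.left} => E.1) := by
  intro E
  obtain ⟨ι, Y, g, hY, hc⟩ := exists_affine_cover E
  refine (etTop X).superset_covering ?_ (ofArrows_mem_etTop Y g hc)
  rw [Sieve.generate_le_iff]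
  intro Y' q hq
  obtain ⟨i⟩ := hq
  exact ⟨⟨_, hY i⟩, ⟨𝟙 _⟩⟩

/-- The sections over affine objects of a module of finite presentation. -/
theorem fp_sec (M : ModEt X) [hM : M.IsFinitePresentation] (E : EtOver X) [IsAffine E.obj.left.left] :
    Module.FinitePresentation (Ring E) (sec M E) := by
  classical
  have h : BC M := bc_of_isQuasicoherent M
  haveI := finite_sec M h E
  obtain ⟨σ, hσ⟩ := hM.exists_quasicoherentData
  obtain ⟨n, Y₀, g₀, hY, hg, hcov⟩ := exists_finite_affine_refinement (σ.coversTop E)
  let Y : Fin n → Over E := fun i => Over.mk (g₀ i)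
  haveI : ∀ i, IsAffine (Y i).left.obj.left.left := hY
  haveI : ∀ i, Module.Flat (Ring E) (Ring (Y i).left) := fun i => RingHom.flat_algebraMap_iff.1 (flat_rho (Y i).hom)
  have hfam : FaithfulFamily (Ring E) (fun i => Ring (Y i).left) :=
    faithfulFamily_of_flat _ inferInstance (surjective_comap (fun i => (Y i).left) (fun i => (Y i).hom) hcov)
  refine finitePresentation_of_family (fun i => Ring (Y i).left) hfam (sec M E) fun i => ?_
  obtain ⟨j, ⟨a⟩⟩ := hg i
  haveI : (SheafOfModules.overMap.{u + 1} (OEtRing X) a).IsLeftAdjoint :=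
    (SheafOfModules.overMapPushforwardAdj (OEtRing X) a).isLeftAdjoint
  haveI := hσ.isFinite_presentation j
  let P := ((σ.presentation j).map (SheafOfModules.overMap (OEtRing X) a)
    (SheafOfModules.overMapUnitIso a).symm).ofIsIso ((SheafOfModules.overFunctorMap (OEtRing X) a).app M).hom
  haveI : ((σ.presentation j).map (SheafOfModules.overMap (OEtRing X) a)
      (SheafOfModules.overMapUnitIso a).symm).IsFinite :=
    { isFiniteType_generators := ⟨inferInstanceAs (Finite (σ.presentation j).generators.I)⟩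
      isFiniteType_relations := ⟨inferInstanceAs (Finite (σ.presentation j).relations.I)⟩ }
  haveI : P.IsFinite := inferInstance
  haveI : Module.FinitePresentation (Ring (Y i).left) (sec M (Y i).left) := fp_of_presentation P
  exact Module.FinitePresentation.of_equiv
    (LinearEquiv.ofBijective
      ({ toFun := evS M (Y i), map_add' := map_add _, map_smul' := fun b x => evS_smul M (Y i) b x } :
        Ring (Y i).left ⊗[Ring E] sec M E →ₗ[Ring (Y i).left] sec M (Y i).left)
      ((isTilde_iff_evS M E).1 (h E ‹_›) (Y i) (hY i))).symm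

end ModEtQc
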