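import Groth.Agent.ModEtQcLib.Coherent
import Groth.Agent.AlgSpLib.Qc
import Groth.Prelude.Def_AlgSpOX2
import Groth.Prelude.Def_AlgSp4
import Mathlib.AlgebraicGeometry.Morphisms.QuasiSeparated

/-!
# The direct image of a quasi-coherent module along a quasi-compact quasi-separated morphism
-/

set_option autoImplicit false
set_option backward.isDefEq.respectTransparency false
set_option backward.isDefEq.respectTransparency.types false
universe u
open CategoryTheory CategoryTheory.Limits AlgebraicGeometry Opposite AlgSp TopologicalSpace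
open scoped TensorProduct

noncomputable section

namespace ModEtQc

variable {S : Scheme.{u}} {X Y : Sp S} {f : X ⟶ Y} (hf : Representable f)

/-- Pullback of functions to the base change. -/
def bcRho (E : EtOver Y) : Ring E →+* Ring (EtOver.bcObj hf E) := ((bcRingHom hf).hom.app (op E)).hom

theorem bcRho_eq (E : EtOver Y) :
    bcRho hf E = (ULift.ringEquiv (R := Γ((EtOver.bcObj hf E).obj.left.left, ⊤))).symm.toRingHom.comp
      ((hf.snd E.obj.hom).left.appTop.hom.comp (ULift.ringEquiv (R := Γ(E.obj.left.left, ⊤))).toRingHom) :=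
  RingHom.ext fun _ => rfl

theorem bcRho_natural {E E' : EtOver Y} (g : E' ⟶ E) (r : Ring E) :
    bcRho hf E' (rho g r) = rho (EtOver.bcMap hf g) (bcRho hf E r) :=
  congrArg (fun φ => φ r) ((bcRingHom hf).hom.naturality g.op)

theorem push_smul (F : ModEt X) {E : EtOver Y} (r : Ring E) (m : sec F (EtOver.bcObj hf E)) :
    (r • (show sec ((pushModEt hf).obj F) E from m) : sec ((pushModEt hf).obj F) E) =
      (show sec ((pushModEt hf).obj F) E from bcRho hf E r • m) := rfl

theorem push_res (F : ModEt X) {E E' : EtOver Y} (g : E' ⟶ E) (m : sec F (EtOver.bcObj hf E)) :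
    res ((pushModEt hf).obj F) g (show sec ((pushModEt hf).obj F) E from m) =
      (show sec ((pushModEt hf).obj F) E' from res F (EtOver.bcMap hf g) m) := rfl

theorem exists_finite_cover (E : EtOver X) [CompactSpace ↥E.obj.left.left] :
    ∃ (n : ℕ) (U : Fin n → EtOver X) (g : ∀ i, U i ⟶ E), (∀ i, IsAffine (U i).obj.left.left) ∧
      ∀ x, ∃ i, x ∈ Set.range (g i).hom.left.left := by
  obtain ⟨ι, U, g, hU, hc⟩ := exists_affine_cover E
  have hop : ∀ i, IsOpen (Set.range (g i).hom.left.left) := fun i => by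
    haveI := EtOver.etale_left (g i)
    exact (g i).hom.left.left.isOpenMap.isOpen_range
  obtain ⟨t, ht⟩ := CompactSpace.isCompact_univ.elim_finite_subcover _ hop fun x _ => Set.mem_iUnion.2 (hc x)
  let e := t.equivFin.symm
  refine ⟨t.card, fun i => U (e i).1, fun i => g (e i).1, fun i => hU _, fun x => ?_⟩
  obtain ⟨a, ha, hx⟩ := Set.mem_iUnion₂.1 (ht (Set.mem_univ x))
  obtain ⟨i, hi⟩ := e.surjective ⟨a, ha⟩
  obtain rfl : (e i).1 = a := congrArg Subtype.val hi
  exact ⟨i, hx⟩

section Pieces

variable {E : EtOver Y} [IsAffine E.obj.left.left] (Z : Over E) [IsAffine Z.left.obj.left.left]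
  {U : EtOver X} [IsAffine U.obj.left.left] (g : U ⟶ EtOver.bcObj hf E)

/-- A piece of a base change. -/
abbrev piece : EtOver X := EtOver.pullbackObj g (EtOver.bcMap hf Z.hom)

/-- Sections over a piece as a module over the ring of the base. -/
@[reducible] def pieceModule (F : ModEt X) (g : U ⟶ EtOver.bcObj hf E) : Module (Ring E) (sec F U) :=
  Module.compHom _ ((rho g).comp (bcRho hf E))

theorem isPushout_piece : IsAffine (piece hf Z g).obj.left.left ∧
    IsPushout ((OEt Y).obj.map Z.hom.op) (CommRingCat.ofHom ((rho g).comp (bcRho hf E)))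
      (CommRingCat.ofHom ((rho (EtOver.pullbackSnd g (EtOver.bcMap hf Z.hom))).comp (bcRho hf Z.left)))
      ((OEt X).obj.map (EtOver.pullbackFst g (EtOver.bcMap hf Z.hom)).op) := by
  have h1 : IsPullback (EtOver.pullbackFst g (EtOver.bcMap hf Z.hom)).hom.left.left
      (EtOver.pullbackSnd g (EtOver.bcMap hf Z.hom)).hom.left.left
      g.hom.left.left (EtOver.bcMap hf Z.hom).hom.left.left :=
    (EtOver.isPullback g (EtOver.bcMap hf Z.hom)).map (EtOver.toScheme X)
  have h2 := (EtOver.isPullback_bcMap_left hf Z.hom).flip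
  have sq := (h1.paste_vert h2.flip).flip
  haveI : IsAffine (piece hf Z g).obj.left.left := IsAffine.of_isIso sq.isoPullback.hom
  refine ⟨inferInstance, ?_⟩
  exact isPushout_ul (isPushout_appTop_of_isPullback sq.flip).flip

theorem exists_psiPush (F : ModEt X) (hF : BC F) : letI := pieceModule hf F g
    ∃ ψ : Ring Z.left ⊗[Ring E] sec F U →+ sec F (piece hf Z g),
      Function.Bijective ψ ∧ ∀ r m, ψ (r ⊗ₜ[Ring E] m) =
        rho (EtOver.pullbackSnd g (EtOver.bcMap hf Z.hom)) (bcRho hf Z.left r) •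
          res F (EtOver.pullbackFst g (EtOver.bcMap hf Z.hom)) m := by
  letI := pieceModule hf F g
  obtain ⟨hW, hpo⟩ := isPushout_piece hf Z g
  let W := piece hf Z g
  let a := EtOver.pullbackFst g (EtOver.bcMap hf Z.hom)
  let b := (rho (EtOver.pullbackSnd g (EtOver.bcMap hf Z.hom))).comp (bcRho hf Z.left)
  letI : Algebra (Ring Z.left) (Ring W) := b.toAlgebra
  letI : Algebra (Ring U) (Ring W) := (rho a).toAlgebra
  letI : Algebra (Ring E) (Ring U) := ((rho g).comp (bcRho hf E)).toAlgebra
  letI : Algebra (Ring E) (Ring W) := (b.comp (rho Z.hom)).toAlgebra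
  haveI : IsScalarTower (Ring E) (Ring Z.left) (Ring W) := IsScalarTower.of_algebraMap_eq' rfl
  haveI : IsScalarTower (Ring E) (Ring U) (Ring W) := IsScalarTower.of_algebraMap_eq'
    (congrArg CommRingCat.Hom.hom hpo.w)
  haveI : IsScalarTower (Ring E) (Ring U) (sec F U) := IsScalarTower.of_algebraMap_smul fun _ _ => rfl
  haveI : Algebra.IsPushout (Ring E) (Ring Z.left) (Ring U) (Ring W) :=
    CommRingCat.isPushout_iff_isPushout.1 hpo
  let c := (Algebra.IsPushout.cancelBaseChangeAux (Ring E) (Ring Z.left) (Ring U) (Ring W) (sec F U)).symm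
  let W' : Over U := Over.mk a
  let d : Ring W ⊗[Ring U] sec F U →+ sec F W :=
    AddMonoidHom.mk' (fun t => ev F W' t) (fun x y => map_add ((evalMap (F.over U)).app (op W')).hom x y)
  have hd : Function.Bijective d := hF U ‹_› W' hW
  refine ⟨d.comp c.toAddMonoidHom, hd.comp c.bijective, fun r m => ?_⟩
  change d (c (r ⊗ₜ[Ring E] m)) = _
  rw [Algebra.IsPushout.cancelBaseChangeAux_symm_tmul]
  rfl

end Pieces

theorem bc_push (F : ModEt X) (hF : BC F)
    (hW : ∀ E : EtOver Y, IsAffine E.obj.left.left →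
      CompactSpace ↥(EtOver.bcObj hf E).obj.left.left ∧ QuasiSeparatedSpace ↥(EtOver.bcObj hf E).obj.left.left) :
    BC ((pushModEt hf).obj F) := by
  classical
  intro E hE
  haveI := hE
  haveI := (hW E hE).1
  haveI := (hW E hE).2
  obtain ⟨n, U, g, hU, hc⟩ := exists_finite_cover (EtOver.bcObj hf E)
  haveI := hU
  have hP : ∀ p : Fin n × Fin n, CompactSpace ↥(EtOver.pullbackObj (g p.1) (g p.2)).obj.left.left := fun p => by
    haveI : QuasiCompact (g p.1).hom.left.left := inferInstance
    have sq : IsPullback (EtOver.pullbackFst (g p.1) (g p.2)).hom.left.left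
        (EtOver.pullbackSnd (g p.1) (g p.2)).hom.left.left (g p.1).hom.left.left (g p.2).hom.left.left :=
      (EtOver.isPullback (g p.1) (g p.2)).map (EtOver.toScheme X)
    haveI : QuasiCompact (EtOver.pullbackSnd (g p.1) (g p.2)).hom.left.left :=
      MorphismProperty.of_isPullback (P := @QuasiCompact) sq inferInstance
    exact QuasiCompact.compactSpace_of_compactSpace (EtOver.pullbackSnd (g p.1) (g p.2)).hom.left.left
  choose m V h hV hcV using fun p => haveI := hP p; exists_finite_cover (EtOver.pullbackObj (g p.1) (g p.2))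
  let B : Type := Σ p : Fin n × Fin n, Fin (m p)
  let v : B → EtOver X := fun q => V q.1 q.2
  haveI hv : ∀ q, IsAffine (v q).obj.left.left := fun q => hV q.1 q.2
  let q₁ : ∀ q : B, v q ⟶ U q.1.1 := fun q => h q.1 q.2 ≫ EtOver.pullbackFst _ _
  let q₂ : ∀ q : B, v q ⟶ U q.1.2 := fun q => h q.1 q.2 ≫ EtOver.pullbackSnd _ _
  let gv : ∀ q : B, v q ⟶ EtOver.bcObj hf E := fun q => q₁ q ≫ g q.1.1
  have hq₂ : ∀ q, q₂ q ≫ g q.1.2 = gv q := fun q => by
    simp only [q₂, gv, q₁, Category.assoc, EtOver.pullback_condition]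
  rw [isTilde_iff_evS]
  intro Z hZ
  haveI : IsAffine Z.left.obj.left.left := hZ
  haveI : Module.Flat (Ring E) (Ring Z.left) := RingHom.flat_algebraMap_iff.1 (flat_rho Z.hom)
  letI := fun i => pieceModule hf F (g i)
  letI := fun q => pieceModule hf F (gv q)
  let d₀ : sec ((pushModEt hf).obj F) E →ₗ[Ring E] ∀ i, sec F (U i) :=
    { toFun := fun x i => res F (g i) (show sec F (EtOver.bcObj hf E) from x)
      map_add' := fun x y => funext fun i => map_add (res F (g i)) _ _
      map_smul' := fun r x => funext fun i => res_smul F (g i) (bcRho hf E r) _ }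
  let l₁ : ∀ q : B, sec F (U q.1.1) →ₗ[Ring E] sec F (v q) := fun q =>
    { toFun := fun x => res F (q₁ q) x
      map_add' := map_add _
      map_smul' := fun r x => by
        change res F (q₁ q) (rho (g q.1.1) (bcRho hf E r) • x) = rho (gv q) (bcRho hf E r) • res F (q₁ q) x
        rw [res_smul, show gv q = q₁ q ≫ g q.1.1 from rfl, rho_comp]
        rfl }
  let l₂ : ∀ q : B, sec F (U q.1.2) →ₗ[Ring E] sec F (v q) := fun q =>
    { toFun := fun x => res F (q₂ q) x
      map_add' := map_add _
      map_smul' := fun r x => by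
        change res F (q₂ q) (rho (g q.1.2) (bcRho hf E r) • x) = rho (gv q) (bcRho hf E r) • res F (q₂ q) x
        rw [res_smul, ← hq₂ q, rho_comp]
        rfl }
  let d₁ : (∀ i, sec F (U i)) →ₗ[Ring E] ∀ q : B, sec F (v q) :=
    LinearMap.pi fun q => l₁ q ∘ₗ LinearMap.proj q.1.1 - l₂ q ∘ₗ LinearMap.proj q.1.2
  have hinj : Function.Injective d₀ := fun x y hxy => eq_of_cover F U g hc _ _ (congrFun hxy)
  have hex : Function.Exact d₀ d₁ := fun w => by
    refine ⟨fun hw => ?_, ?_⟩
    · obtain ⟨x, hx⟩ := exists_glue_sec F U g hc w fun i j =>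
        eq_of_cover F (V (i, j)) (h (i, j)) (hcV (i, j)) _ _ fun k => by
          rw [← res_comp, ← res_comp]
          exact sub_eq_zero.1 (congrFun hw ⟨(i, j), k⟩)
      exact ⟨x, funext hx⟩
    · rintro ⟨x, rfl⟩
      funext q
      change res F (q₁ q) (res F (g q.1.1) _) - res F (q₂ q) (res F (g q.1.2) _) = 0
      rw [← res_comp, ← res_comp, hq₂]
      exact sub_self _
  have hinjT := Module.Flat.lTensor_preserves_injective_linearMap (M := Ring Z.left) d₀ hinj
  have hexT := Module.Flat.lTensor_exact (Ring Z.left) hex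
  choose ψ hψ hψt using fun i => exists_psiPush hf Z (g i) F hF
  choose ψ2 hψ2 hψ2t using fun q => exists_psiPush hf Z (gv q) F hF
  let b : ∀ i, piece hf Z (g i) ⟶ EtOver.bcObj hf Z.left := fun i => EtOver.pullbackSnd _ _
  have hcb : ∀ x, ∃ i, x ∈ Set.range (b i).hom.left.left := by
    intro x
    obtain ⟨i, y, hy⟩ := hc ((EtOver.bcMap hf Z.hom).hom.left.left x)
    obtain ⟨w, -, hw⟩ := Scheme.Pullback.exists_preimage_pullback y x (f := (g i).hom.left.left)
      (g := (EtOver.bcMap hf Z.hom).hom.left.left) hy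
    have sq : IsPullback (EtOver.pullbackFst (g i) (EtOver.bcMap hf Z.hom)).hom.left.left (b i).hom.left.left
        (g i).hom.left.left (EtOver.bcMap hf Z.hom).hom.left.left :=
      (EtOver.isPullback _ _).map (EtOver.toScheme X)
    exact ⟨i, sq.isoPullback.inv w, by rw [← Scheme.Hom.comp_apply, sq.isoPullback_inv_snd, hw]⟩
  let eZ : Ring Z.left ⊗[Ring E] sec ((pushModEt hf).obj F) E →+ sec F (EtOver.bcObj hf Z.left) :=
    AddMonoidHom.mk' (fun t => evS ((pushModEt hf).obj F) Z t) (map_add _)
  have key : ∀ i x, ψ i ((LinearMap.proj i).lTensor (Ring Z.left) (d₀.lTensor (Ring Z.left) x)) =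
      res F (b i) (eZ x) := by
    intro i x
    induction x using TensorProduct.induction_on with
    | zero => simp
    | tmul r x =>
      rw [LinearMap.lTensor_tmul, LinearMap.lTensor_tmul]
      refine (hψt i r _).trans ?_
      change _ = res F (b i) (bcRho hf Z.left r • res F (EtOver.bcMap hf Z.hom) (show sec F (EtOver.bcObj hf E) from x))
      rw [res_smul, ← res_comp]
      refine congrArg _ ?_
      change res F (EtOver.pullbackFst (g i) (EtOver.bcMap hf Z.hom)) (res F (g i) _) = _
      rw [← res_comp]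
      exact res_congr F (EtOver.pullback_condition _ _) _
    | add x y hx hy => simp only [map_add, hx, hy]
  change Function.Bijective eZ
  refine ⟨(injective_iff_map_eq_zero eZ).2 fun x hx => hinjT ?_, fun s => ?_⟩
  · rw [map_zero]
    refine (TensorProduct.piRight (Ring E) (Ring E) (Ring Z.left) fun i => sec F (U i)).injective
      (funext fun i => (hψ i).1 ?_)
    rw [piRight_proj, key, hx, map_zero, map_zero, Pi.zero_apply, map_zero]
  · choose y hy using fun i => (hψ i).2 (res F (b i) s)
    let z := (TensorProduct.piRight (Ring E) (Ring E) (Ring Z.left) fun i => sec F (U i)).symm y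
    have hz : ∀ i, (LinearMap.proj i).lTensor (Ring Z.left) z = y i := fun i => by
      rw [← piRight_proj, LinearEquiv.apply_symm_apply]
    have hz0 : d₁.lTensor (Ring Z.left) z = 0 := by
      refine (TensorProduct.piRight (Ring E) (Ring E) (Ring Z.left) fun q : B => sec F (v q)).injective
        (funext fun q => (hψ2 q).1 ?_)
      rw [piRight_proj, map_zero, Pi.zero_apply, map_zero]
      let W₂ := piece hf Z (gv q)
      let a₂ : W₂ ⟶ v q := EtOver.pullbackFst _ _
      let b₂ : W₂ ⟶ EtOver.bcObj hf Z.left := EtOver.pullbackSnd _ _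
      obtain ⟨u₁, hu₁, hu₁'⟩ : ∃ k : W₂ ⟶ piece hf Z (g q.1.1),
          k ≫ b q.1.1 = b₂ ∧ k ≫ EtOver.pullbackFst _ _ = a₂ ≫ q₁ q := by
        obtain ⟨l, h1, h2⟩ := PullbackCone.IsLimit.lift' (EtOver.pullbackIsLimit (g q.1.1) (EtOver.bcMap hf Z.hom))
          (a₂ ≫ q₁ q) b₂ (by rw [Category.assoc]; exact EtOver.pullback_condition _ _)
        exact ⟨l, h2, h1⟩
      obtain ⟨u₂, hu₂, hu₂'⟩ : ∃ k : W₂ ⟶ piece hf Z (g q.1.2),
          k ≫ b q.1.2 = b₂ ∧ k ≫ EtOver.pullbackFst _ _ = a₂ ≫ q₂ q := by
        obtain ⟨l, h1, h2⟩ := PullbackCone.IsLimit.lift' (EtOver.pullbackIsLimit (g q.1.2) (EtOver.bcMap hf Z.hom))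
          (a₂ ≫ q₂ q) b₂ (by rw [Category.assoc, hq₂]; exact EtOver.pullback_condition _ _)
        exact ⟨l, h2, h1⟩
      have h1 : ∀ t, ψ2 q ((l₁ q).lTensor (Ring Z.left) t) = res F u₁ (ψ q.1.1 t) := fun t => by
        induction t using TensorProduct.induction_on with
        | zero => simp
        | tmul r x =>
          rw [LinearMap.lTensor_tmul, hψ2t, hψt, res_smul, ← res_comp, res_congr F hu₁', res_comp]
          refine congrArg₂ (· • ·) ?_ rfl
          exact (RingHom.congr_fun (congrArg rho hu₁) _).symm.trans (RingHom.congr_fun (rho_comp (b q.1.1) u₁) _)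
        | add x y hx hy => simp only [map_add, hx, hy]
      have h2 : ∀ t, ψ2 q ((l₂ q).lTensor (Ring Z.left) t) = res F u₂ (ψ q.1.2 t) := fun t => by
        induction t using TensorProduct.induction_on with
        | zero => simp
        | tmul r x =>
          rw [LinearMap.lTensor_tmul, hψ2t, hψt, res_smul, ← res_comp, res_congr F hu₂', res_comp]
          refine congrArg₂ (· • ·) ?_ rfl
          exact (RingHom.congr_fun (congrArg rho hu₂) _).symm.trans (RingHom.congr_fun (rho_comp (b q.1.2) u₂) _)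
        | add x y hx hy => simp only [map_add, hx, hy]
      have e : (LinearMap.proj q).lTensor (Ring Z.left) (d₁.lTensor (Ring Z.left) z) =
          (l₁ q).lTensor (Ring Z.left) ((LinearMap.proj q.1.1).lTensor (Ring Z.left) z) -
            (l₂ q).lTensor (Ring Z.left) ((LinearMap.proj q.1.2).lTensor (Ring Z.left) z) := by
        simp only [← LinearMap.comp_apply, ← LinearMap.lTensor_comp]
        rw [← LinearMap.sub_apply, ← LinearMap.lTensor_sub]
        rfl
      rw [e, map_sub, h1, h2, hz, hz, hy, hy, sub_eq_zero, ← res_comp, ← res_comp, hu₁, hu₂]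
    obtain ⟨x, hx⟩ := (hexT z).1 hz0
    refine ⟨x, eq_of_cover F (fun i => piece hf Z (g i)) b hcb _ _ fun i => ?_⟩
    rw [← key, hx, hz, hy]

theorem qcqs_bcObj (hqc : IsQuasiCompactMor f) (hqs : IsQuasiSeparatedMor f) (E : EtOver Y)
    [IsAffine E.obj.left.left] :
    CompactSpace ↥(EtOver.bcObj hf E).obj.left.left ∧ QuasiSeparatedSpace ↥(EtOver.bcObj hf E).obj.left.left := by
  have sq := hf.isPullback E.obj.hom
  refine ⟨?_, ?_⟩
  · have hc : IsQuasiCompactSp ((yon S).obj (hf.pullback E.obj.hom)) :=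
      hqc (IsAlgSpace.yon_obj E.obj.left) (AlgSpLib.isQuasiCompactSp_yon E.obj.left) E.obj.hom _ _ sq
    haveI := (AlgSpLib.isQuasiCompactSp_iff (IsAlgSpace.yon_obj _)).1 hc
    exact (Points.schemeHomeo (hf.pullback E.obj.hom)).symm.compactSpace
  · haveI : (RepWith (S := S) @QuasiCompact).IsStableUnderBaseChange := repWith_isStableUnderBaseChange _
    have h : (RepWith (S := S) @QuasiCompact).diagonal ((yon S).map (hf.snd E.obj.hom)) :=
      MorphismProperty.of_isPullback (P := (RepWith (S := S) @QuasiCompact).diagonal) sq hqs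
    haveI : QuasiSeparated (hf.snd E.obj.hom).left := ⟨(repWith_diagonal_yon_map_iff _ _).1 h⟩
    exact quasiSeparatedSpace_of_quasiSeparated (hf.snd E.obj.hom).left

end ModEtQc
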