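import Groth.Agent.ModEtQcLib.Exact
import Groth.Agent.ModEtInjLib.Basic
import Mathlib.CategoryTheory.Subobject.Basic
import Mathlib.CategoryTheory.Abelian.GrothendieckCategory.Basic

/-!
# Quasi-coherent submodules
-/

set_option autoImplicit false
set_option backward.isDefEq.respectTransparency false
set_option backward.isDefEq.respectTransparency.types false
universe u
open CategoryTheory CategoryTheory.Limits AlgebraicGeometry Opposite AlgSp TopologicalSpace

noncomputable section

namespace ModEtQc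

variable {S : Scheme.{u}} {X : Sp S}

theorem isGrothendieckAbelian_modEt : IsGrothendieckAbelian.{u + 1} (ModEt X) := by
  have := ModEtInjLib.hasSeparator_sheaf (OEtRing X)
  have : ReflectsFiniteLimits (PresheafOfModules.toPresheaf.{u + 1} (OEtRing X).obj) :=
    ⟨fun K _ _ => reflectsLimitsOfShape_of_reflectsIsomorphisms⟩
  have : AB5OfSize.{u + 1, u + 1} (PresheafOfModules.{u + 1} (OEtRing X).obj) :=
    ⟨fun K _ _ => HasExactColimitsOfShape.domain_of_functor K (PresheafOfModules.toPresheaf (OEtRing X).obj)⟩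
  have : AB5OfSize.{u + 1, u + 1} (ModEt X) :=
    ⟨fun K _ _ => (PresheafOfModules.sheafificationAdjunction.{u + 1} (𝟙 (OEtRing X).obj)).hasExactColimitsOfShape K⟩
  exact { }

/-- The image in a module inside a quasi-coherent one of a quasi-coherent module. -/
theorem bc_image {F G H : ModEt X} (ι : G ⟶ F) [Mono ι] (φ : H ⟶ G) (hF : BC F) (hH : BC H) :
    BC (Abelian.coimage φ) := by
  have hK : BC (kernel φ) := bc_left (T := ShortComplex.mk (kernel.ι φ) (φ ≫ ι) (by rw [← Category.assoc, kernel.condition, zero_comp]))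
    (ShortComplex.exact_of_f_is_kernel _ (isKernelCompMono (limit.isLimit (parallelPair φ 0)) ι rfl)) hH hF
  refine bc_colimit (parallelPair (kernel.ι φ) 0) ?_
  rintro (_ | _)
  · exact hK
  · exact hH

/-- The largest quasi-coherent submodule. -/
theorem exists_largest {F G : ModEt X} (ι : G ⟶ F) [Mono ι] (hF : BC F) :
    ∃ (G' : ModEt X) (κ : G' ⟶ G), Mono κ ∧ BC G' ∧ ∀ H : ModEt X, BC H → ∀ φ : H ⟶ G, ∃ ψ : H ⟶ G', ψ ≫ κ = φ := by
  haveI := isGrothendieckAbelian_modEt (X := X)
  haveI : Small.{u + 1} (Subobject G) := inferInstance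
  haveI : Small.{u + 1} {P : Subobject G // BC (P : ModEt X)} := inferInstance
  let e := equivShrink.{u + 1} {P : Subobject G // BC (P : ModEt X)}
  haveI : HasCoproduct fun i => ((e.symm i).1 : ModEt X) := inferInstance
  let D : ModEt X := ∐ fun i => ((e.symm i).1 : ModEt X)
  let d : D ⟶ G := Sigma.desc fun i => (e.symm i).1.arrow
  have hD : BC D := bc_colimit _ fun i => (e.symm i.as).2
  refine ⟨Abelian.coimage d, Abelian.factorThruCoimage d, inferInstance, bc_image ι d hF hD, fun H hH φ => ?_⟩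
  let P := Subobject.mk (Abelian.factorThruCoimage φ)
  have hP : BC (P : ModEt X) := by
    have h := isQuasicoherent_of_bc _ (bc_image ι φ hF hH)
    exact (isQuasicoherent_iff_bc _).1 (ObjectProperty.prop_of_iso (SheafOfModules.isQuasicoherent (OEtRing X))
      (Subobject.underlyingIso (Abelian.factorThruCoimage φ)).symm h)
  refine ⟨Abelian.coimage.π φ ≫ (Subobject.underlyingIso _).inv ≫
    eqToHom (congrArg (fun Q : {P : Subobject G // BC (P : ModEt X)} => (Q.1 : ModEt X)) (e.symm_apply_apply ⟨P, hP⟩).symm) ≫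
    Sigma.ι (fun i => ((e.symm i).1 : ModEt X)) (e ⟨P, hP⟩) ≫ Abelian.coimage.π d, ?_⟩
  simp only [Category.assoc]
  rw [Abelian.coimage.fac d, Sigma.ι_desc]
  have h : ∀ (Q Q' : {P : Subobject G // BC (P : ModEt X)}) (h : Q = Q'),
      eqToHom (congrArg (fun Q : {P : Subobject G // BC (P : ModEt X)} => (Q.1 : ModEt X)) h) ≫ Q'.1.arrow = Q.1.arrow := by
    rintro Q _ rfl
    simp
  erw [h ⟨P, hP⟩ _ (e.symm_apply_apply _).symm]
  erw [Subobject.underlyingIso_arrow, Abelian.coimage.fac]

theorem isIso_of_locally_surjective {A B : ModEt X} (φ : A ⟶ B) [Mono φ]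
    (h : ∀ (E : EtOver X) (s : sec B E), ∃ (ι : Type (u + 1)) (Y : ι → EtOver X) (g : ∀ i, Y i ⟶ E),
      (∀ x, ∃ i, x ∈ Set.range (g i).hom.left.left) ∧ ∀ i, ∃ t, appS φ (Y i) t = res B (g i) s) : IsIso φ := by
  let ψ := (SheafOfModules.toSheaf.{u + 1} (OEtRing X)).map φ
  haveI : Mono ψ := by
    haveI : ∀ Z, Mono (ψ.hom.app Z) := fun Z => (AddCommGrpCat.mono_iff_injective _).2 (injective_appS φ Z.unop)
    exact (sheafToPresheaf _ _).mono_of_mono_map (f := ψ) (NatTrans.mono_of_mono_app ψ.hom)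
  haveI : Epi ψ := by
    rw [← Sheaf.isLocallySurjective_iff_epi']
    refine ⟨fun {Z} s => ?_⟩
    obtain ⟨ι, Y, g, hc, hl⟩ := h Z s
    refine (etTop X).superset_covering ?_ (ofArrows_mem_etTop Y g hc)
    rw [Sieve.generate_le_iff]
    intro P q hq
    obtain ⟨i⟩ := hq
    exact hl i
  haveI : IsIso ψ := isIso_of_mono_of_epi ψ
  exact isIso_of_reflects_iso φ (SheafOfModules.toSheaf (OEtRing X))

end ModEtQc
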