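import Groth.Agent.ModEtQcLib.Submod
import Groth.Agent.ModEtQcLib.FP
import Groth.Agent.ModEtQcLib.Sub
import Groth.Agent.ModEtQcLib.PushQc
import Groth.Agent.AlgSpLib.QcQs
import Mathlib.CategoryTheory.Abelian.GrothendieckCategory.Subobject
import Mathlib.CategoryTheory.Subobject.WellPowered

/-!
# A quasi-coherent module on a Noetherian space is the union of its coherent submodules
-/

set_option autoImplicit false
set_option backward.isDefEq.respectTransparency false
set_option backward.isDefEq.respectTransparency.types false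
universe u
open CategoryTheory CategoryTheory.Limits AlgebraicGeometry Opposite AlgSp TopologicalSpace
open scoped TensorProduct

noncomputable section

namespace ModEtQc

variable {S : Scheme.{u}} {X : Sp S}

theorem exists_lift_of_range_le {F G H : ModEt X} (ι : G ⟶ F) [Mono ι] (φ : H ⟶ F)
    (h : ∀ E : EtOver X, IsAffine E.obj.left.left → Set.range (appS φ E) ⊆ Set.range (appS ι E)) :
    ∃ l : H ⟶ G, l ≫ ι = φ := by
  have hz : φ ≫ cokernel.π ι = 0 := by
    refine SheafOfModules.hom_ext (PresheafOfModules.hom_ext fun Z => ModuleCat.hom_ext (LinearMap.ext fun (x : sec H Z.unop) => ?_))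
    obtain ⟨κ, Y, g, hY, hc⟩ := exists_affine_cover Z.unop
    refine eq_of_cover (cokernel ι) Y g hc _ _ fun i => ?_
    change res (cokernel ι) (g i) (appS (cokernel.π ι) _ (appS φ _ x)) = res (cokernel ι) (g i) 0
    rw [map_zero, ← appS_res, ← appS_res]
    obtain ⟨y, hy⟩ := h (Y i) (hY i) ⟨res H (g i) x, rfl⟩
    rw [← hy]
    exact congrArg (fun ψ => appS ψ (Y i) y) (cokernel.condition ι)
  exact ⟨Abelian.monoLift ι φ hz, Abelian.monoLift_comp ι φ hz⟩

theorem compactSpace_prodObj [QuasiSeparatedSpace ↥S] (hX : IsAlgSpace X) (hqs : IsQuasiSeparatedSp X)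
    (E V : EtOver X) [IsAffine E.obj.left.left] [IsAffine V.obj.left.left] :
    CompactSpace ↥(EtOver.prodObj E V).obj.left.left := by
  have sq := V.property.1.isPullback E.obj.hom
  have hqc : IsQuasiCompactMor V.obj.hom :=
    AlgSpLib.isQuasiCompactMor_of_qcSp_qsSp (IsAlgSpace.yon_obj V.obj.left) hX V.obj.hom
      (AlgSpLib.isQuasiCompactSp_yon V.obj.left) hqs
  have hc : IsQuasiCompactSp ((yon S).obj (V.property.1.pullback E.obj.hom)) :=
    hqc (IsAlgSpace.yon_obj E.obj.left) (AlgSpLib.isQuasiCompactSp_yon E.obj.left) E.obj.hom _ _ sq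
  haveI := (AlgSpLib.isQuasiCompactSp_iff (IsAlgSpace.yon_obj _)).1 hc
  exact (Points.schemeHomeo (V.property.1.pullback E.obj.hom)).symm.compactSpace

section Data

variable (M : ModEt X) {V : EtOver X} (N : Submodule (Ring V) (sec M V))

/-- The span of the pullbacks of given sections. -/
abbrev spanPull {Z : EtOver X} (b : Z ⟶ V) : Submodule (Ring Z) (sec M Z) :=
  Submodule.span (Ring Z) (res M b '' (N : Set (sec M V)))

theorem res_mem_spanPull {Z Z' : EtOver X} (h : Z' ⟶ Z) (b : Z ⟶ V) {s : sec M Z} (hs : s ∈ spanPull M N b) :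
    res M h s ∈ spanPull M N (h ≫ b) := by
  induction hs using Submodule.span_induction with
  | mem x hx =>
    obtain ⟨n, hn, rfl⟩ := hx
    rw [← res_comp]
    exact Submodule.subset_span ⟨n, hn, rfl⟩
  | zero => rw [map_zero]; exact Submodule.zero_mem _
  | add x y _ _ hx hy => rw [map_add]; exact Submodule.add_mem _ hx hy
  | smul c x _ hx => rw [res_smul]; exact Submodule.smul_mem _ _ hx

theorem spanPull_fg {Z : EtOver X} (b : Z ⟶ V) (hN : N.FG) : (spanPull M N b).FG := by
  classical
  obtain ⟨s, hs⟩ := hN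
  refine ⟨s.image (res M b), le_antisymm (Submodule.span_mono ?_) (Submodule.span_le.2 ?_)⟩
  · rw [Finset.coe_image, ← hs]
    exact Set.image_mono Submodule.subset_span
  · rintro _ ⟨n, hn, rfl⟩
    rw [← hs] at hn
    induction hn using Submodule.span_induction with
    | mem x hx => exact Submodule.subset_span (by simpa using ⟨x, hx, rfl⟩)
    | zero => rw [map_zero]; exact Submodule.zero_mem _
    | add x y _ _ hx hy => rw [map_add]; exact Submodule.add_mem _ hx hy
    | smul c x _ hx => rw [res_smul]; exact Submodule.smul_mem _ _ hx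

theorem mem_spanPull_of_cover (hM : BC M) {Z : EtOver X} [IsAffine Z.obj.left.left] {n : ℕ} (Y : Fin n → EtOver X)
    (g : ∀ i, Y i ⟶ Z) (hY : ∀ i, IsAffine (Y i).obj.left.left)
    (hcov : ∀ x, ∃ i, x ∈ Set.range (g i).hom.left.left) (b : Z ⟶ V) (s : sec M Z)
    (hs : ∀ i, res M (g i) s ∈ spanPull M N (g i ≫ b)) : s ∈ spanPull M N b := by
  let W : Fin n → Over Z := fun i => Over.mk (g i)
  haveI : ∀ i, IsAffine (W i).left.obj.left.left := hY
  haveI : ∀ i, Module.Flat (Ring Z) (Ring (W i).left) := fun i => RingHom.flat_algebraMap_iff.1 (flat_rho (W i).hom)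
  have hfam : FaithfulFamily (Ring Z) (fun i => Ring (W i).left) :=
    faithfulFamily_of_flat _ inferInstance (surjective_comap (fun i => (W i).left) (fun i => (W i).hom) hcov)
  let Q := spanPull M N b
  rw [← Submodule.Quotient.mk_eq_zero]
  refine hfam _ _ fun i => ?_
  have e := (isTilde_iff_evS M Z).1 (hM Z ‹_›) (W i) (hY i)
  have key : ∀ t ∈ spanPull M N (g i ≫ b), ∃ q, evS M (W i) (Q.subtype.lTensor (Ring (W i).left) q) = t := by
    intro t ht
    induction ht using Submodule.span_induction with
    | mem x hx =>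
      obtain ⟨m, hm, rfl⟩ := hx
      refine ⟨(1 : Ring (W i).left) ⊗ₜ[Ring Z] ⟨res M b m, Submodule.subset_span ⟨m, hm, rfl⟩⟩, ?_⟩
      rw [LinearMap.lTensor_tmul, evS_tmul, one_smul, res_comp]
      rfl
    | zero => exact ⟨0, by rw [map_zero, map_zero]⟩
    | add x y _ _ hx hy =>
      obtain ⟨p, rfl⟩ := hx
      obtain ⟨q, rfl⟩ := hy
      exact ⟨p + q, by rw [map_add, map_add]⟩
    | smul c x _ hx =>
      obtain ⟨p, rfl⟩ := hx
      refine ⟨(show Ring (W i).left from c) • p, ?_⟩
      refine (congrArg (evS M (W i)) ((Q.subtype.baseChange (Ring (W i).left)).map_smul _ p)).trans ?_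
      exact evS_smul M (W i) _ _
  obtain ⟨q, hq⟩ := key _ (hs i)
  have hq' : Q.subtype.lTensor (Ring (W i).left) q = (1 : Ring (W i).left) ⊗ₜ[Ring Z] s := e.1 (by
    rw [hq, evS_tmul, one_smul]
    rfl)
  have := congrArg (Q.mkQ.lTensor (Ring (W i).left)) hq'
  rw [← LinearMap.comp_apply, ← LinearMap.lTensor_comp, (LinearMap.exact_subtype_mkQ Q).linearMap_comp_eq_zero,
    LinearMap.lTensor_zero, LinearMap.zero_apply, LinearMap.lTensor_tmul] at this
  exact this.symm

/-- Sections lying in the spans of the pullbacks on all common refinements with the chart. -/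
def pullData (E : EtOver X) (_ : IsAffine E.obj.left.left) : Submodule (Ring E) (sec M E) where
  carrier := {s | ∀ (Z : EtOver X) (_ : IsAffine Z.obj.left.left) (a : Z ⟶ E) (b : Z ⟶ V), res M a s ∈ spanPull M N b}
  add_mem' {s t} hs ht Z hZ a b := by
    rw [map_add]
    exact Submodule.add_mem _ (hs Z hZ a b) (ht Z hZ a b)
  zero_mem' Z hZ a b := by
    rw [map_zero]
    exact Submodule.zero_mem _
  smul_mem' c s hs Z hZ a b := by
    rw [res_smul]
    exact Submodule.smul_mem _ _ (hs Z hZ a b)

end Data

variable (hX : IsAlgSpace X) (hqs : IsQuasiSeparatedSp X) {V : EtOver X} [IsAffine V.obj.left.left]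
  (hV : Function.Surjective (Points.ofPt V.obj.hom)) (M : ModEt X) (hM : BC M)

include hX hqs hV in
theorem exists_pieces [QuasiSeparatedSpace ↥S] (E : EtOver X) [IsAffine E.obj.left.left] :
    ∃ (n : ℕ) (Z : Fin n → EtOver X) (a : ∀ i, Z i ⟶ E) (b : ∀ i, Z i ⟶ V),
      (∀ i, IsAffine (Z i).obj.left.left) ∧ (∀ x, ∃ i, x ∈ Set.range (a i).hom.left.left) ∧
      (∀ (T : EtOver X) (p : T ⟶ E) (q : T ⟶ V), ∃ l : T ⟶ EtOver.prodObj E V,
          l ≫ EtOver.prodFst E V = p ∧ l ≫ EtOver.prodSnd E V = q) ∧
      ∃ g : ∀ i, Z i ⟶ EtOver.prodObj E V, (∀ w, ∃ i, w ∈ Set.range (g i).hom.left.left) ∧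
        (∀ i, g i ≫ EtOver.prodFst E V = a i) ∧ ∀ i, g i ≫ EtOver.prodSnd E V = b i := by
  haveI := compactSpace_prodObj hX hqs E V
  obtain ⟨n, Z, g, hZ, hc⟩ := exists_finite_cover (EtOver.prodObj E V)
  refine ⟨n, Z, fun i => g i ≫ EtOver.prodFst E V, fun i => g i ≫ EtOver.prodSnd E V, hZ, fun x => ?_,
    fun T p q => ⟨(EtOver.prodIsLimit E V).lift (BinaryFan.mk p q), (EtOver.prodIsLimit E V).fac _ ⟨.left⟩,
      (EtOver.prodIsLimit E V).fac _ ⟨.right⟩⟩, g, hc, fun _ => rfl, fun _ => rfl⟩
  obtain ⟨v, hv⟩ := hV (Points.ofPt E.obj.hom x)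
  have sq : IsPullback ((yon S).map (EtOver.prodFst E V).hom.left) ((yon S).map (EtOver.prodSnd E V).hom.left)
      E.obj.hom V.obj.hom := by
    change IsPullback ((yon S).map (V.property.1.snd E.obj.hom)) ((yon S).map (V.property.1.fst' E.obj.hom)) _ _
    rw [Functor.relativelyRepresentable.map_fst']
    exact (V.property.1.isPullback E.obj.hom).flip
  obtain ⟨w, hw, -⟩ := (AlgSpLib.ofPt_eq_ofPt_iff sq x v).1 hv.symm
  obtain ⟨i, z, rfl⟩ := hc w
  exact ⟨i, z, hw⟩

include hM in
/-- Membership may be tested on the pieces. -/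
theorem mem_pullData_of_pieces (N : Submodule (Ring V) (sec M V)) {E : EtOver X} (hE : IsAffine E.obj.left.left) {n : ℕ}
    {Z : Fin n → EtOver X} {a : ∀ i, Z i ⟶ E} {b : ∀ i, Z i ⟶ V}
    (hl : ∀ (T : EtOver X) (p : T ⟶ E) (q : T ⟶ V), ∃ l : T ⟶ EtOver.prodObj E V,
      l ≫ EtOver.prodFst E V = p ∧ l ≫ EtOver.prodSnd E V = q)
    {g : ∀ i, Z i ⟶ EtOver.prodObj E V} (hg : ∀ w, ∃ i, w ∈ Set.range (g i).hom.left.left)
    (ha : ∀ i, g i ≫ EtOver.prodFst E V = a i) (hb : ∀ i, g i ≫ EtOver.prodSnd E V = b i)
    {s : sec M E} (hs : ∀ i, res M (a i) s ∈ spanPull M N (b i)) : s ∈ pullData M N E hE := by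
  intro T hT p q
  haveI := hT
  obtain ⟨l, rfl, rfl⟩ := hl T p q
  obtain ⟨m, Y, k, hY, hk, hcov⟩ := exists_finite_affine_refinement
    ((etTop X).pullback_stable l (ofArrows_mem_etTop Z g hg : Sieve.ofArrows Z g ∈ etTop X _))
  refine mem_spanPull_of_cover M N hM Y k hY hcov _ _ fun j => ?_
  obtain ⟨W, c, _, ⟨i⟩, hc⟩ := hk j
  rw [← res_comp, ← Category.assoc, ← Category.assoc, ← hc, Category.assoc, Category.assoc, ha, hb, res_comp]
  exact res_mem_spanPull M N c (b i) (hs i)

include hX hqs hV hM in
theorem exists_coherent_submodule [QuasiSeparatedSpace ↥S] (hN : IsLocNoethSp X)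
    (N : Submodule (Ring V) (sec M V)) (hfg : N.FG) :
    ∃ (F' : ModEt X) (ι : F' ⟶ M), Mono ι ∧ F'.IsFinitePresentation ∧
      ∀ (E : EtOver X) (hE : IsAffine E.obj.left.left), Set.range (appS ι E) = (pullData M N E hE : Set (sec M E)) := by
  classical
  obtain ⟨F', ι, hι, hF', hr⟩ := exists_submodule M (pullData M N)
    (fun E hE m Y g hY hcov s hs T hT p q => by
      haveI := hT
      obtain ⟨m', Y', k, hY', hk, hcov'⟩ := exists_finite_affine_refinement
        ((etTop X).pullback_stable p (ofArrows_mem_etTop Y g hcov : Sieve.ofArrows Y g ∈ etTop X _))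
      refine mem_spanPull_of_cover M N hM Y' k hY' hcov' q _ fun j => ?_
      obtain ⟨W, c, _, ⟨i⟩, hc⟩ := hk j
      rw [← res_comp, ← hc, res_comp]
      exact hs i (Y' j) (hY' j) c (k j ≫ q))
    (fun {E E'} g hE hE' s hs T hT p q => by
      rw [← res_comp]
      exact hs T hT (p ≫ g) q)
    hM
    (fun {E E'} g hE hE' t ht => by
      haveI := hE
      haveI := hE'
      obtain ⟨n, Z, a, b, hZ, -, hl, k, hk, ha, hb⟩ := exists_pieces hX hqs hV E
      haveI := hZ
      let G : Over E := Over.mk g
      let Y : Fin n → Over E := fun i => Over.mk (a i)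
      haveI : IsAffine G.left.obj.left.left := hE'
      haveI : ∀ i, IsAffine (Y i).left.obj.left.left := hZ
      haveI : Module.Flat (Ring E) (Ring G.left) := RingHom.flat_algebraMap_iff.1 (flat_rho G.hom)
      letI := fun i => secModuleBase M (Y i).hom
      haveI : ∀ i, IsScalarTower (Ring E) (Ring (Y i).left) (sec M (Y i).left) := fun i =>
        letI : Algebra (Ring E) (Ring (Y i).left) := (rho (Y i).hom).toAlgebra
        IsScalarTower.of_algebraMap_smul fun _ _ => rfl
      let Q : ∀ i, Submodule (Ring E) (sec M (Y i).left) := fun i =>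
        (spanPull M N (Z := (Y i).left) (b i)).restrictScalars (Ring E)
      let r : ∀ i, sec M E →ₗ[Ring E] sec M (Y i).left := fun i =>
        { toFun := res M (a i), map_add' := map_add _, map_smul' := fun c x => res_smul M (a i) c x }
      let φ : sec M E →ₗ[Ring E] ∀ i, sec M (Y i).left ⧸ Q i := LinearMap.pi fun i => (Q i).mkQ ∘ₗ r i
      have eG := (isTilde_iff_evS M E).1 (hM E hE) G hE'
      obtain ⟨x, rfl⟩ := eG.2 t
      have hx : φ.lTensor (Ring G.left) x = 0 := by
        refine (TensorProduct.piRight (Ring E) (Ring E) (Ring G.left) fun i => sec M (Y i).left ⧸ Q i).injective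
          (funext fun i => ?_)
        rw [piRight_proj, map_zero, Pi.zero_apply, ← LinearMap.comp_apply, ← LinearMap.lTensor_comp,
          show LinearMap.proj i ∘ₗ φ = (Q i).mkQ ∘ₗ r i from rfl, LinearMap.lTensor_comp, LinearMap.comp_apply]
        obtain ⟨ψ, hψ, hψt⟩ := exists_psi M G (Y i) (hM _ (hZ i))
        let W := EtOver.pullbackObj G.hom (Y i).hom
        let p₁ := EtOver.pullbackFst G.hom (Y i).hom
        let p₂ := EtOver.pullbackSnd G.hom (Y i).hom
        haveI hW : IsAffine W.obj.left.left := (isPushout_rho G.hom (Y i).hom).1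
        have hnat : ∀ y, ψ ((r i).lTensor (Ring G.left) y) = res M p₁ (evS M G y) := fun y => by
          induction y using TensorProduct.induction_on with
          | zero => rw [map_zero, map_zero, map_zero, map_zero]
          | tmul c m =>
            rw [LinearMap.lTensor_tmul, hψt, evS_tmul, res_smul]
            refine congrArg _ ?_
            refine (res_comp M (a i) p₂ m).symm.trans ((res_congr M ?_ m).trans (res_comp M g p₁ m))
            exact (EtOver.pullback_condition G.hom (Y i).hom).symm
          | add y z hy hz => rw [map_add, map_add, map_add, map_add, hy, hz]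
        have hgen : ∀ (c : Ring W) (m : sec M V), m ∈ N →
            ∃ q, ψ ((Q i).subtype.lTensor (Ring G.left) q) = c • res M p₂ (res M (b i) m) := by
          intro c m hm
          obtain ⟨-, hpo⟩ := isPushout_rho G.hom (Y i).hom
          letI : Algebra (Ring G.left) (Ring W) := (rho p₁).toAlgebra
          letI : Algebra (Ring (Y i).left) (Ring W) := (rho p₂).toAlgebra
          letI : Algebra (Ring E) (Ring W) := (rho (p₁ ≫ G.hom)).toAlgebra
          letI : Algebra (Ring E) (Ring (Y i).left) := (rho (Y i).hom).toAlgebra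
          haveI : IsScalarTower (Ring E) (Ring G.left) (Ring W) := IsScalarTower.of_algebraMap_eq' (rho_comp G.hom p₁)
          haveI : IsScalarTower (Ring E) (Ring (Y i).left) (Ring W) := IsScalarTower.of_algebraMap_eq'
            ((congrArg rho (EtOver.pullback_condition G.hom (Y i).hom)).trans (rho_comp (Y i).hom p₂))
          haveI : Algebra.IsPushout (Ring E) (Ring G.left) (Ring (Y i).left) (Ring W) :=
            CommRingCat.isPushout_iff_isPushout.1 hpo
          obtain ⟨d, rfl⟩ := (Algebra.IsPushout.equiv (Ring E) (Ring G.left) (Ring (Y i).left) (Ring W)).surjective c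
          induction d using TensorProduct.induction_on with
          | zero => exact ⟨0, by rw [map_zero, map_zero, map_zero, zero_smul]⟩
          | tmul p q =>
            refine ⟨p ⊗ₜ[Ring E] ⟨q • res M (b i) m, Submodule.smul_mem (spanPull M N (b i)) q
              (Submodule.subset_span ⟨m, hm, rfl⟩)⟩, ?_⟩
            rw [LinearMap.lTensor_tmul, hψt, Algebra.IsPushout.equiv_tmul, mul_smul]
            exact congrArg (rho p₁ p • ·) (res_smul M p₂ q _)
          | add p q hp hq =>
            obtain ⟨u₁, hu₁⟩ := hp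
            obtain ⟨u₂, hu₂⟩ := hq
            exact ⟨u₁ + u₂, by rw [map_add, map_add, hu₁, hu₂, map_add, add_smul]⟩
        have hmem : ∀ w ∈ spanPull M N (p₂ ≫ b i), ∃ q, ψ ((Q i).subtype.lTensor (Ring G.left) q) = w := by
          intro w hw
          suffices h : ∀ c : Ring W, ∃ q, ψ ((Q i).subtype.lTensor (Ring G.left) q) = c • w by
            obtain ⟨q, hq⟩ := h 1
            exact ⟨q, hq.trans (one_smul _ _)⟩
          induction hw using Submodule.span_induction with
          | mem w hw =>
            intro c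
            obtain ⟨m, hm, rfl⟩ := hw
            rw [res_comp]
            exact hgen c m hm
          | zero => exact fun c => ⟨0, by rw [map_zero, map_zero, smul_zero]⟩
          | add v w _ _ hv hw =>
            intro c
            obtain ⟨u₁, hu₁⟩ := hv c
            obtain ⟨u₂, hu₂⟩ := hw c
            exact ⟨u₁ + u₂, by rw [map_add, map_add, hu₁, hu₂, smul_add]⟩
          | smul d v _ hv =>
            intro c
            obtain ⟨u₁, hu₁⟩ := hv (c * d)
            exact ⟨u₁, hu₁.trans (mul_smul c d v)⟩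
        obtain ⟨q, hq⟩ := hmem _ (ht W hW p₁ (p₂ ≫ b i))
        rw [show (r i).lTensor (Ring G.left) x = (Q i).subtype.lTensor (Ring G.left) q from
          hψ.1 ((hnat x).trans hq.symm), ← LinearMap.comp_apply, ← LinearMap.lTensor_comp,
          (LinearMap.exact_subtype_mkQ (Q i)).linearMap_comp_eq_zero, LinearMap.lTensor_zero, LinearMap.zero_apply]
      obtain ⟨y, hy⟩ := ((Module.Flat.lTensor_exact (Ring G.left) (LinearMap.exact_subtype_ker_map φ)) x).1 hx
      rw [← hy]
      clear hy hx ht
      induction y using TensorProduct.induction_on with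
      | zero => rw [map_zero, map_zero]; exact Submodule.zero_mem _
      | tmul c s =>
        rw [LinearMap.lTensor_tmul, evS_tmul]
        refine Submodule.smul_mem _ _ (Submodule.subset_span ⟨s.1, ?_, rfl⟩)
        refine mem_pullData_of_pieces M hM N hE hl hk ha hb fun i => ?_
        exact (Submodule.Quotient.mk_eq_zero (Q i)).1 (congrFun (LinearMap.mem_ker.1 s.2) i)
      | add p q hp hq => rw [map_add, map_add]; exact Submodule.add_mem _ hp hq)
  haveI := hι
  refine ⟨F', ι, hι, ?_, hr⟩
  refine isFinitePresentation_of_cover F' hF' _ (fun E => E.2) coversTop_affine fun E => ?_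
  haveI := E.2
  haveI := isNoetherianRing_ring hN E.1
  suffices Module.Finite (Ring E.1) (sec F' E.1) from Module.finitePresentation_of_finite _ _
  obtain ⟨n, Z, a, b, hZ, hc, -⟩ := exists_pieces hX hqs hV E.1
  let Y : Fin n → Over E.1 := fun i => Over.mk (a i)
  haveI : ∀ i, IsAffine (Y i).left.obj.left.left := hZ
  haveI : ∀ i, Module.Flat (Ring E.1) (Ring (Y i).left) := fun i => RingHom.flat_algebraMap_iff.1 (flat_rho (Y i).hom)
  have hfam : FaithfulFamily (Ring E.1) (fun i => Ring (Y i).left) :=
    faithfulFamily_of_flat _ inferInstance (surjective_comap (fun i => (Y i).left) (fun i => (Y i).hom) hc)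
  refine finite_of_family (fun i => Ring (Y i).left) hfam _ fun i => ?_
  haveI := isNoetherianRing_ring hN (Y i).left
  haveI : Module.Finite (Ring (Y i).left) (spanPull M N (Z := (Y i).left) (b i)) :=
    Module.Finite.iff_fg.2 (spanPull_fg M N (b i) hfg)
  haveI : _root_.IsNoetherian (Ring (Y i).left) (spanPull M N (Z := (Y i).left) (b i)) :=
    isNoetherian_of_isNoetherianRing_of_finite _ _
  have hmem : ∀ y, appS ι (Y i).left y ∈ spanPull M N (Z := (Y i).left) (b i) := fun y => by
    have h' : appS ι (Y i).left y ∈ pullData M N (Y i).left (hZ i) := (hr _ (hZ i)).le ⟨y, rfl⟩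
    have h'' := h' _ (hZ i) (𝟙 _) (b i)
    have e : res M (𝟙 (Y i).left) (appS ι (Y i).left y) = appS ι (Y i).left y :=
      congrArg (fun q => q (appS ι (Y i).left y)) (M.val.presheaf.map_id _)
    exact (congrArg (· ∈ spanPull M N (Z := (Y i).left) (b i)) e).mp h''
  haveI : Module.Finite (Ring (Y i).left) (sec F' (Y i).left) :=
    Module.Finite.of_injective ((appS ι (Y i).left).codRestrict _ hmem)
      ((LinearMap.injective_codRestrict_iff _).2 (injective_appS ι _))
  exact Module.Finite.equiv (LinearEquiv.ofBijective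
    ({ toFun := evS F' (Y i), map_add' := map_add _, map_smul' := fun c x => evS_smul F' (Y i) c x } :
      Ring (Y i).left ⊗[Ring E.1] sec F' E.1 →ₗ[Ring (Y i).left] sec F' (Y i).left)
    ((isTilde_iff_evS F' E.1).1 (hF' E.1 E.2) (Y i) (hZ i))).symm

include hM in
theorem range_le_pullData {H : ModEt X} (hH : BC H) (φ : H ⟶ M) (N : Submodule (Ring V) (sec M V))
    (h : LinearMap.range (appS φ V) ≤ N) {E : EtOver X} (hE : IsAffine E.obj.left.left) (x : sec H E) :
    appS φ E x ∈ pullData M N E hE := by
  intro Z hZ a b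
  rw [← appS_res]
  obtain ⟨y, hy⟩ := ((isTilde_iff_evS H V).1 (hH V ‹_›) (Over.mk b) hZ).2 (res H a x)
  rw [← hy]
  clear hy
  induction y using TensorProduct.induction_on with
  | zero => rw [map_zero, map_zero]; exact Submodule.zero_mem _
  | tmul c m =>
    rw [evS_tmul, map_smul]
    exact Submodule.smul_mem _ _ (Submodule.subset_span ⟨appS φ V m, h ⟨m, rfl⟩, (appS_res φ b m).symm⟩)
  | add p q hp hq => rw [map_add, map_add]; exact Submodule.add_mem _ hp hq

theorem exists_fg_mem_spanPull {Z : EtOver X} (b : Z ⟶ V) {t : sec M Z} (ht : t ∈ spanPull M ⊤ b) :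
    ∃ N : Submodule (Ring V) (sec M V), N.FG ∧ t ∈ spanPull M N b := by
  classical
  obtain ⟨T, hT, ht⟩ := Submodule.mem_span_finite_of_mem_span ht
  choose m hm hmt using fun x : T => hT x.2
  refine ⟨Submodule.span _ (Set.range m), Submodule.fg_span (Set.finite_range m), ?_⟩
  refine Submodule.span_mono ?_ ht
  intro x hx
  exact ⟨m ⟨x, hx⟩, Submodule.subset_span ⟨_, rfl⟩, hmt ⟨x, hx⟩⟩

include hX hqs hV hM in
theorem exists_fg_mem_pullData [QuasiSeparatedSpace ↥S] {E : EtOver X} (hE : IsAffine E.obj.left.left) (s : sec M E) :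
    ∃ N : Submodule (Ring V) (sec M V), N.FG ∧ s ∈ pullData M N E hE := by
  haveI := hE
  obtain ⟨n, Z, a, b, hZ, -, hl, k, hk, ha, hb⟩ := exists_pieces hX hqs hV E
  have h : ∀ i, ∃ N : Submodule (Ring V) (sec M V), N.FG ∧ res M (a i) s ∈ spanPull M N (b i) := fun i => by
    refine exists_fg_mem_spanPull M (b i) ?_
    obtain ⟨y, hy⟩ := ((isTilde_iff_evS M V).1 (hM V ‹_›) (Over.mk (b i)) (hZ i)).2 (res M (a i) s)
    rw [← hy]
    clear hy
    induction y using TensorProduct.induction_on with
    | zero => rw [map_zero]; exact Submodule.zero_mem _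
    | tmul c m =>
      rw [evS_tmul]
      exact Submodule.smul_mem _ _ (Submodule.subset_span ⟨m, trivial, rfl⟩)
    | add p q hp hq => rw [map_add]; exact Submodule.add_mem _ hp hq
  choose N hN hs using h
  exact ⟨⨆ i, N i, Submodule.fg_iSup _ hN, mem_pullData_of_pieces M hM _ hE hl hk ha hb fun i =>
    Submodule.span_mono (Set.image_mono (SetLike.coe_subset_coe.2 (le_iSup N i))) (hs i)⟩

include hX hqs hV hM in
theorem isColimit_coherent [QuasiSeparatedSpace ↥S] (hN : IsLocNoethSp X) :
    IsFiltered (ObjectProperty.FullSubcategory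
        (fun N : MonoOver M => SheafOfModules.IsFinitePresentation N.obj.left)) ∧
      Nonempty (IsColimit ((Over.forgetCocone M).whisker
        (ObjectProperty.ι (fun N : MonoOver M => SheafOfModules.IsFinitePresentation N.obj.left) ⋙
          MonoOver.forget M))) := by
  classical
  let P : ObjectProperty (MonoOver M) := fun N => SheafOfModules.IsFinitePresentation N.obj.left
  haveI := isGrothendieckAbelian_modEt (X := X)
  have mk : ∀ N : Submodule (Ring V) (sec M V), N.FG → ∃ A : P.FullSubcategory,
      ∀ (E : EtOver X) (hE : IsAffine E.obj.left.left),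
        Set.range (appS A.obj.arrow E) = (pullData M N E hE : Set (sec M E)) := fun N hfg => by
    obtain ⟨F', ι, hι, hfp, hr⟩ := exists_coherent_submodule hX hqs hV M hM hN N hfg
    haveI := hι
    exact ⟨⟨MonoOver.mk ι, hfp⟩, hr⟩
  haveI : Nonempty P.FullSubcategory := ⟨(mk ⊥ Submodule.fg_bot).choose⟩
  haveI hfil : IsFilteredOrEmpty P.FullSubcategory :=
    { cocone_objs := fun A B => by
        haveI : A.obj.obj.left.IsFinitePresentation := A.property
        haveI : B.obj.obj.left.IsFinitePresentation := B.property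
        have hA : BC A.obj.obj.left := bc_of_isQuasicoherent _
        have hB : BC B.obj.obj.left := bc_of_isQuasicoherent _
        haveI := finite_sec A.obj.obj.left hA V
        haveI := finite_sec B.obj.obj.left hB V
        let N := LinearMap.range (appS A.obj.arrow V) ⊔ LinearMap.range (appS B.obj.arrow V)
        have hfg : N.FG := by
          refine Submodule.FG.sup ?_ ?_ <;> rw [← Submodule.map_top] <;> exact Module.Finite.fg_top.map _
        obtain ⟨C, hC⟩ := mk N hfg
        obtain ⟨lA, hlA⟩ := exists_lift_of_range_le C.obj.arrow A.obj.arrow fun E hE => by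
          rintro _ ⟨x, rfl⟩
          rw [hC E hE]
          exact range_le_pullData M hM hA _ N le_sup_left hE x
        obtain ⟨lB, hlB⟩ := exists_lift_of_range_le C.obj.arrow B.obj.arrow fun E hE => by
          rintro _ ⟨x, rfl⟩
          rw [hC E hE]
          exact range_le_pullData M hM hB _ N le_sup_right hE x
        exact ⟨C, P.homMk (MonoOver.homMk lA hlA), P.homMk (MonoOver.homMk lB hlB), trivial⟩
      cocone_maps := fun {A B} f g => ⟨B, 𝟙 _, ObjectProperty.hom_ext _ (Subsingleton.elim _ _)⟩ }
  haveI : IsFiltered P.FullSubcategory := { }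
  refine ⟨inferInstance, ?_⟩
  haveI : WellPowered.{u + 1} (ModEt X) := inferInstance
  haveI : HasLimits (ModEt X) := inferInstance
  haveI : HasColimits (ModEt X) := inferInstance
  haveI : HasWidePullbacks.{u + 1} (ModEt X) := fun _ => inferInstance
  haveI : HasCoproducts.{u + 1} (ModEt X) := fun _ => inferInstance
  haveI : EssentiallySmall.{u + 1} (MonoOver M) := inferInstance
  letI : CompleteLattice (Subobject M) := Subobject.instCompleteLattice.{u + 1}
  haveI : EssentiallySmall.{u + 1} P.FullSubcategory := essentiallySmall_of_fully_faithful.{u + 1} P.ι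
  let e := equivSmallModel.{u + 1} P.FullSubcategory
  haveI : IsFiltered (SmallModel.{u + 1} P.FullSubcategory) := IsFiltered.of_equivalence e
  let F : SmallModel.{u + 1} P.FullSubcategory ⥤ MonoOver M := e.inverse ⋙ P.ι
  let c : Cocone (F ⋙ MonoOver.forget _) := Cocone.mk (Over.mk (𝟙 M))
    { app := fun j => Over.homMk (F.obj j).obj.hom (Category.comp_id _)
      naturality := fun j j' k => Over.OverMorphism.ext (by simp) }
  haveI : Mono c.pt.hom := inferInstanceAs (Mono (𝟙 M))
  have htop : Subobject.mk c.pt.hom = ⨆ j, Subobject.mk (F.obj j).obj.hom := by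
    let T := ⨆ j, Subobject.mk (F.obj j).obj.hom
    haveI : IsIso T.arrow := isIso_of_locally_surjective T.arrow fun E s => by
      obtain ⟨κ, Y, g, hY, hc⟩ := exists_affine_cover E
      refine ⟨ULift.{u + 1} κ, fun i => Y i.down, fun i => g i.down,
        fun x => ⟨⟨(hc x).choose⟩, (hc x).choose_spec⟩, fun i => ?_⟩
      obtain ⟨N, hfg, hs⟩ := exists_fg_mem_pullData hX hqs hV M hM (hY i.down) (res M (g i.down) s)
      obtain ⟨A, hA⟩ := mk N hfg
      obtain ⟨t, ht⟩ : res M (g i.down) s ∈ Set.range (appS A.obj.arrow (Y i.down)) := (hA _ (hY i.down)).symm ▸ hs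
      have hle : Subobject.mk A.obj.arrow ≤ T := by
        refine le_trans (le_of_eq ?_) (le_iSup (fun j => Subobject.mk (F.obj j).obj.hom) (e.functor.obj A))
        let d := P.ι.mapIso (e.unitIso.app A)
        exact Subobject.mk_eq_mk_of_comm _ _ ((MonoOver.forget M ⋙ Over.forget M).mapIso d)
          (MonoOver.w d.hom)
      refine ⟨appS (Subobject.ofMkLE A.obj.arrow T hle) _ t, Eq.trans ?_ ht⟩
      exact congrArg (fun φ => appS φ (Y i.down) t) (Subobject.ofMkLE_arrow hle)
    change Subobject.mk (𝟙 M) = T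
    exact (Subobject.top_eq_id M).symm.trans (Subobject.eq_top_of_isIso_arrow T).symm
  have hc := IsGrothendieckAbelian.isColimitMapCoconeOfSubobjectMkEqISup F c htop
  exact ⟨IsColimit.ofWhiskerEquivalence e.symm (hc.ofIsoColimit (Cocone.ext (Iso.refl _) fun j => Category.comp_id _))⟩

end ModEtQc
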