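import Groth.Agent.ModEtQcLib.AffineVanish
import Groth.Agent.AlgSpRegLib.SiteEt
import Groth.Agent.RDerLib.LeftExact
import Mathlib.CategoryTheory.Sites.EpiMono

/-!
# Sheaves acyclic on affine objects of the small etale site of a space; direct images along affine morphisms
-/

set_option autoImplicit false
set_option linter.unusedSectionVars false
set_option linter.style.haveILetI false
set_option backward.isDefEq.respectTransparency false
set_option backward.isDefEq.respectTransparency.types false
set_option maxHeartbeats 1000000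
set_option synthInstance.maxHeartbeats 200000

universe u

open CategoryTheory CategoryTheory.Limits CategoryTheory.Abelian AlgebraicGeometry Opposite AlgSp
open Groth.Agent Groth.Agent.EtShLib

noncomputable section

namespace ModEtQc

/-- The nerve in the target of a functor preserving fibre products. -/
def mapNerve {C D : Type (u + 1)} [Category.{u} C] [Category.{u} D] [HasPullbacks C] (G : C ⥤ D)
    [PreservesLimitsOfShape WalkingCospan G] {W' W : C} (π : W' ⟶ W) : EpsLib.Nerve (G.map π) where
  obj n := G.obj (EpsLib.pow π n).left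
  pr n k := G.map (EpsLib.powPr π n k)
  w n k := by rw [← G.map_comp, ← G.map_comp, EpsLib.powPr_w, EpsLib.powPr_w]
  lift n _ t h := EpsLib.powLift π G n t h
  fac n _ t h k := EpsLib.powLift_pr π G n t h k
  ext n _ a b h := EpsLib.pow_hom_ext π G n a b h

theorem mapNerve_face {C D : Type (u + 1)} [Category.{u} C] [Category.{u} D] [HasPullbacks C] (G : C ⥤ D)
    [PreservesLimitsOfShape WalkingCospan G] {W' W : C} (π : W' ⟶ W) (n : ℕ) (i : Fin (n + 2)) :
    (mapNerve G π).face n i = G.map ((EpsLib.nerveOf π).face n i) :=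
  (mapNerve G π).ext n _ _ fun k => by
    rw [EpsLib.Nerve.face_pr]
    show G.map _ = G.map _ ≫ G.map _
    rw [← G.map_comp]
    exact congrArg G.map ((EpsLib.nerveOf π).face_pr n i k).symm

theorem hExact_comp_of_injective {C D : Type (u + 1)} [Category.{u} C] [Category.{u} D] [HasPullbacks C]
    {K : GrothendieckTopology D} [HasSheafify K AddCommGrpCat.{u + 1}] (G : C ⥤ D)
    [PreservesLimitsOfShape WalkingCospan G] (I : Sheaf K AddCommGrpCat.{u + 1}) [Injective I]
    {W' W : C} (π : W' ⟶ W) (n : ℕ) : EpsLib.HExact (EpsLib.nerveOf π) (G.op ⋙ I.obj) n := by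
  intro x hx
  have key : ∀ m (t : I.obj.obj (op (G.obj (EpsLib.pow π m).left))),
      EpsLib.cechD (mapNerve G π) I.obj m t = EpsLib.cechD (EpsLib.nerveOf π) (G.op ⋙ I.obj) m t := fun m t => by
    simp only [EpsLib.cechD_apply, mapNerve_face]
    rfl
  obtain ⟨y, hy⟩ := EpsLib.hExact_injective_sheaf I (mapNerve G π) n x ((key _ x).trans hx)
  exact ⟨y, (key _ y).symm.trans hy⟩

section Chart

variable {S : Scheme.{u}} {X : Sp S} {U : Over S} (p : (yon S).obj U ⟶ X) (hp : RepWith @Etale p)

instance preservesPullbacks_ofChart : PreservesLimitsOfShape WalkingCospan (EtOver.ofChart p hp) where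
  preservesLimit {K} := by
    haveI : PreservesLimit (cospan (K.map WalkingCospan.Hom.inl) (K.map WalkingCospan.Hom.inr))
        (EtOver.ofChart p hp) := by
      let G := EtOver.ofChart p hp
      let h := IsPullback.of_hasPullback (K.map WalkingCospan.Hom.inl) (K.map WalkingCospan.Hom.inr)
      have hs := h.map (Scheme.Etale.forget U.left ⋙ Over.forget U.left)
      have hc : G.map (pullback.fst (K.map WalkingCospan.Hom.inl) (K.map WalkingCospan.Hom.inr)) ≫
          G.map (K.map WalkingCospan.Hom.inl) =
          G.map (pullback.snd (K.map WalkingCospan.Hom.inl) (K.map WalkingCospan.Hom.inr)) ≫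
          G.map (K.map WalkingCospan.Hom.inr) := by rw [← G.map_comp, ← G.map_comp, h.w]
      have h1 : IsPullback (G.map (pullback.fst (K.map WalkingCospan.Hom.inl) (K.map WalkingCospan.Hom.inr))).hom.left
          (G.map (pullback.snd (K.map WalkingCospan.Hom.inl) (K.map WalkingCospan.Hom.inr))).hom.left
          (G.map (K.map WalkingCospan.Hom.inl)).hom.left (G.map (K.map WalkingCospan.Hom.inr)).hom.left :=
        IsPullback.of_map (Over.forget S) (congrArg (fun q => q.hom.left) hc :) hs
      have h2 := IsPullback.of_map (EtOver.forget X) hc h1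
      exact preservesLimit_of_preserves_limit_cone h.isLimit
        ((isLimitMapConePullbackConeEquiv G h.w).symm h2.isLimit)
    exact preservesLimit_of_iso_diagram _ (diagramIsoCospan K).symm

theorem ofChart_continuous :
    (EtOver.ofChart p hp).IsContinuous U.left.smallEtaleTopology (etTop X) := by
  have hb := etalePrecoverage_isStableUnderBaseChange.{u}
  have hq := etalePrecoverage_hasPullbacks.{u}
  have : (Scheme.etalePrecoverage.comap (MorphismProperty.Over.forget @Etale ⊤ U.left ⋙ Over.forget U.left)).IsStableUnderBaseChange := by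
    unfold Scheme.etalePrecoverage; infer_instance
  have : (Scheme.etalePrecoverage.comap (MorphismProperty.Over.forget @Etale ⊤ U.left ⋙ Over.forget U.left)).HasPullbacks := by
    unfold Scheme.etalePrecoverage; infer_instance
  rw [smallEtaleTopology_eq_comap]
  unfold etTop
  refine Functor.isContinuous_toGrothendieck_of_pullbacksPreservedBy (EtOver.ofChart p hp) _ (etPre X) ?_
  unfold etPre
  rw [← Precoverage.comap_comp]
  exact le_rfl

instance : (EtOver.ofChart p hp).IsContinuous U.left.smallEtaleTopology (etTop X) := ofChart_continuous p hp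

theorem ofChart_cocontinuous :
    (EtOver.ofChart p hp).IsCocontinuous U.left.smallEtaleTopology (etTop X) := ⟨fun {V R} hR => by
  let G := EtOver.ofChart p hp
  choose Y g hg z hz using (AlgSpRegLib.mem_etTop_iff R).1 hR
  haveI : ∀ x, Etale (g x).hom.left.left := fun x => EtOver.etale_left (g x)
  haveI : Etale V.hom := V.prop
  let Y₀ : ∀ x : (G.obj V).obj.left.left, U.left.Etale := fun x =>
    MorphismProperty.Over.mk ⊤ ((g x).hom.left.left ≫ V.hom) (inferInstance : Etale ((g x).hom.left.left ≫ V.hom))
  let k : ∀ x, Y₀ x ⟶ V := fun x => MorphismProperty.Over.homMk (g x).hom.left.left rfl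
  let m : ∀ x, G.obj (Y₀ x) ⟶ Y x := fun x =>
    EtOver.homMk (Over.homMk (𝟙 (Y x).obj.left.left) (by
      change 𝟙 _ ≫ (Y x).obj.left.hom = ((g x).hom.left.left ≫ V.hom) ≫ U.hom
      rw [Category.id_comp, ← Over.w (g x).hom.left, Category.assoc]
      try rfl)) (by
      rw [← EtOver.w (g x), ← Category.assoc, ← Functor.map_comp]
      change (yon S).map _ ≫ (yon S).map _ ≫ p = (yon S).map _ ≫ p
      rw [← Category.assoc, ← Functor.map_comp]
      congr 2)
  have hm : ∀ x, m x ≫ g x = G.map (k x) := fun x => EtOver.hom_ext _ _ (Over.OverMorphism.ext (Category.id_comp _))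
  refine GrothendieckTopology.superset_covering _ (S := Sieve.ofArrows Y₀ k) ?_ ?_
  · rintro W f ⟨W', a, b, ⟨x⟩, rfl⟩
    show R (G.map (a ≫ k x))
    rw [G.map_comp, ← hm]
    exact R.downward_closed (R.downward_closed (hg x) _) _
  · rw [Scheme.ofArrows_mem_smallEtaleTopology_iff, Set.eq_univ_iff_forall]
    exact fun x => Set.mem_iUnion.2 ⟨x, ⟨z x, hz x⟩⟩⟩

/-- Restriction of abelian sheaves along a chart. -/
abbrev resP' : AbEt X ⥤ EtCoh.Ab U.left :=
  (EtOver.ofChart p hp).sheafPushforwardContinuous AddCommGrpCat.{u + 1} U.left.smallEtaleTopology (etTop X)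

theorem shortExact_resP' {T : ShortComplex (AbEt X)} (hT : T.ShortExact) :
    haveI : (resP' p hp).Additive := { }
    (T.map (resP' p hp)).ShortExact := by
  haveI : (resP' p hp).Additive := { }
  haveI := ofChart_cocontinuous p hp
  haveI : (resP' p hp).IsLeftAdjoint :=
    ((EtOver.ofChart p hp).sheafAdjunctionCocontinuous AddCommGrpCat.{u + 1} U.left.smallEtaleTopology (etTop X)).isLeftAdjoint
  haveI : (resP' p hp).IsRightAdjoint :=
    ((EtOver.ofChart p hp).sheafAdjunctionContinuous AddCommGrpCat.{u + 1} U.left.smallEtaleTopology (etTop X)).isRightAdjoint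
  haveI : PreservesFiniteLimits (resP' p hp) := inferInstance
  haveI := hT.epi_g
  exact Groth.Agent.RDerLib.map_shortExact hT inferInstance

end Chart

section Acyclic

variable {S : Scheme.{u}} {X : Sp S}

/-- Čech acyclicity on the affine objects over every chart. -/
def AffAcyclic (F : AbEt X) : Prop :=
  ∀ (U : Over S) (p : (yon S).obj U ⟶ X) (hp : RepWith @Etale p), CechAcyclicA ((resP' p hp).obj F)

theorem affAcyclic_of_bc (M : ModEt X) (hM : BC M) : AffAcyclic ((toAbEt X).obj M) := fun _ p hp =>
  cechAcyclicA_of_modsV (chartMods p hp M hM) (fun _ => AddMonoidHom.id _) (fun _ => Function.bijective_id)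
    fun _ _ => rfl

theorem affAcyclic_quotient {T : ShortComplex (AbEt X)} (hT : T.ShortExact) [Injective T.X₂]
    (h : AffAcyclic T.X₁) : AffAcyclic T.X₃ := fun U p hp W' W π hW' hW hπ n => by
  haveI : (resP' p hp).Additive := { }
  have hS := shortExact_resP' p hp hT
  exact EpsLib.hExact_quotient hS (EpsLib.nerveOf π)
    (surjective_sectionsA hS (h U p hp) (haveI := hW'; haveI := hW; pow_isAffine π (n + 1)))
    (h U p hp W' W π hW' hW hπ (n + 1)) (hExact_comp_of_injective (EtOver.ofChart p hp) T.X₂ π n)

theorem surjective_sections_affine {T : ShortComplex (AbEt X)} (hT : T.ShortExact) (h : AffAcyclic T.X₁)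
    {E : EtOver X} (hE : IsAffine E.obj.left.left) : Function.Surjective (T.g.hom.app (op E)) := by
  haveI : (resP' E.obj.hom E.property).Additive := { }
  have hS := shortExact_resP' E.obj.hom E.property hT
  have hs := surjective_sectionsA hS (h _ E.obj.hom E.property) (W := EtCoh.top E.obj.left.left) hE
  let G := EtOver.ofChart E.obj.hom E.property
  let a : E ⟶ G.obj (EtCoh.top E.obj.left.left) := EtOver.homMk
    (Over.homMk (𝟙 E.obj.left.left) (by
      change 𝟙 _ ≫ (𝟙 _ ≫ E.obj.left.hom) = E.obj.left.hom
      rw [Category.id_comp, Category.id_comp])) (by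
    change (yon S).map _ ≫ (yon S).map _ ≫ E.obj.hom = E.obj.hom
    rw [← Category.assoc, ← Functor.map_comp]
    refine (congrArg (fun q => (yon S).map q ≫ E.obj.hom) (?_ : _ = 𝟙 E.obj.left)).trans (by simp)
    ext
    exact Category.id_comp _)
  let b : G.obj (EtCoh.top E.obj.left.left) ⟶ E := EtOver.homMk
    (Over.homMk (𝟙 E.obj.left.left) (by
      change 𝟙 _ ≫ E.obj.left.hom = 𝟙 _ ≫ E.obj.left.hom
      rfl)) (by
    change (yon S).map _ ≫ E.obj.hom = (yon S).map _ ≫ E.obj.hom
    rfl)
  have hab : a ≫ b = 𝟙 E := EtOver.hom_ext _ _ (Over.OverMorphism.ext (Category.id_comp _))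
  intro s
  obtain ⟨t, ht⟩ := hs (T.X₃.obj.map b.op s)
  refine ⟨T.X₂.obj.map a.op t, ?_⟩
  rw [NatTrans.naturality_apply]
  refine (congrArg (T.X₃.obj.map a.op) ht).trans ?_
  rw [← ConcreteCategory.comp_apply, ← Functor.map_comp, ← op_comp, hab, op_id, CategoryTheory.Functor.map_id]
  rfl

end Acyclic

section Push

variable {S : Scheme.{u}} {X Y : Sp S} {f : X ⟶ Y} (hf : Representable f) (haff : IsAffineMor f)

include haff in
theorem isAffine_bcObj_of_isAffineMor {E : EtOver Y} (hE : IsAffine E.obj.left.left) : IsAffine (EtOver.bcObj hf E).obj.left.left := by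
  obtain ⟨W, i, fst, hW, hWa⟩ := haff hE E.obj.hom
  let e := hW.isoIsPullback _ _ (hf.isPullback E.obj.hom)
  haveI : IsAffine ((Over.forget S).obj W) := hWa
  exact IsAffine.of_isIso ((Over.forget S).mapIso ((yon S).preimageIso e)).inv

include haff in
theorem shortExact_pushEt {T : ShortComplex (AbEt X)} (hT : T.ShortExact) (h : AffAcyclic T.X₁) :
    (T.map (pushEt hf AddCommGrpCat.{u + 1})).ShortExact := by
  haveI : (pushEt hf AddCommGrpCat.{u + 1}).IsRightAdjoint := (pullPushAdjEt hf AddCommGrpCat.{u + 1}).isRightAdjoint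
  haveI : PreservesFiniteLimits (pushEt hf AddCommGrpCat.{u + 1}) := inferInstance
  refine Groth.Agent.RDerLib.map_shortExact hT ?_
  suffices h' : Sheaf.IsLocallySurjective ((pushEt hf AddCommGrpCat.{u + 1}).map T.g) from
    Sheaf.epi_of_isLocallySurjective _
  refine ⟨fun {V} s => ?_⟩
  obtain ⟨ι, Z, g, hZ, hcov⟩ := exists_affine_cover V
  refine GrothendieckTopology.superset_covering _ ?_ (ofArrows_mem_etTop Z g hcov)
  rintro _ _ ⟨_, q, _, ⟨i⟩, rfl⟩
  refine Sieve.downward_closed _ ?_ q
  exact surjective_sections_affine hT h (isAffine_bcObj_of_isAffineMor hf haff (hZ i)) _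

include haff in
theorem isZero_rpushEt : ∀ (q : ℕ) (G : AbEt X), AffAcyclic G → IsZero ((RpushEt hf (q + 1)).obj G)
  | 0, G, hG => by
    haveI : Injective (CohLib.injSC G).X₂ := inferInstanceAs (Injective (Injective.under G))
    haveI : (pushEt hf AddCommGrpCat.{u + 1}).IsRightAdjoint := (pullPushAdjEt hf AddCommGrpCat.{u + 1}).isRightAdjoint
    haveI : PreservesFiniteLimits (pushEt hf AddCommGrpCat.{u + 1}) := inferInstance
    exact Groth.Agent.RDerLib.isZero_X₁_succ (CohLib.injSC_shortExact G) 0
      (Functor.isZero_rightDerived_obj_injective_succ _ 0 _)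
      ((Groth.Agent.RDerLib.epi_map_g_iff _).2 (shortExact_pushEt hf haff (CohLib.injSC_shortExact G) hG).epi_g)
  | q + 1, G, hG => by
    haveI : Injective (CohLib.injSC G).X₂ := inferInstanceAs (Injective (Injective.under G))
    haveI : (pushEt hf AddCommGrpCat.{u + 1}).IsRightAdjoint := (pullPushAdjEt hf AddCommGrpCat.{u + 1}).isRightAdjoint
    haveI : PreservesFiniteLimits (pushEt hf AddCommGrpCat.{u + 1}) := inferInstance
    have h3 := isZero_rpushEt q _ (affAcyclic_quotient (CohLib.injSC_shortExact G) hG)
    exact Groth.Agent.RDerLib.isZero_X₁_succ (CohLib.injSC_shortExact G) (q + 1)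
      (Functor.isZero_rightDerived_obj_injective_succ _ (q + 1) _) (h3.epi _)

end Push

end ModEtQc
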