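import Groth.Agent.ModEtQcLib.AffineAcyclic
import Groth.Agent.AlgSpRegLib.EnoughPoints
import Groth.Agent.EtZarLib.Lift
import Mathlib.CategoryTheory.Sites.Point.Comap
import Mathlib.CategoryTheory.Preadditive.Injective.Preserves

/-!
# Cohomology of a direct image along an affine morphism of spaces
-/

set_option autoImplicit false
set_option linter.unusedSectionVars false
set_option linter.style.haveILetI false
set_option backward.isDefEq.respectTransparency false
set_option backward.isDefEq.respectTransparency.types false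
set_option maxHeartbeats 400000
set_option synthInstance.maxHeartbeats 100000

universe u

open CategoryTheory CategoryTheory.Limits CategoryTheory.Abelian AlgebraicGeometry Opposite AlgSp
open Groth.Agent Groth.Agent.EtShLib

noncomputable section

namespace ModEtQc

variable {S : Scheme.{u}} {X Y : Sp S} {f : X ⟶ Y} (hf : Representable f)

section Points

variable (z : FieldPt X)

/-- Lifts to base changes are lifts of the image point. -/
def geomFiberBcEquiv (V : EtOver Y) :
    (AlgSpRegLib.geomFiber z).obj ((EtOver.bc hf).obj V) ≃ (AlgSpRegLib.geomFiber (z.map f)).obj V where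
  toFun w := ⟨⟨w.down.1 ≫ EtOver.bcπ hf V, by
    rw [Functor.map_comp, Category.assoc, FieldPt.toHom_map, ← (EtOver.isPullback_bcObj hf V).w, ← Category.assoc]
    exact congrArg (· ≫ f) w.down.2⟩⟩
  invFun w := ⟨⟨hf.lift z.toHom w.down.1 ((w.down.2.trans (FieldPt.toHom_map f z)).symm), hf.lift_fst _ _ _⟩⟩
  left_inv w := ULift.ext _ _ (Subtype.ext (hf.hom_ext ((hf.lift_fst _ _ _).trans w.down.2.symm) (hf.lift_snd _ _ _)))
  right_inv w := ULift.ext _ _ (Subtype.ext (hf.lift_snd _ _ _))

theorem geomFiberBcEquiv_nat {V V' : EtOver Y} (g : V ⟶ V') (w : (AlgSpRegLib.geomFiber z).obj ((EtOver.bc hf).obj V)) :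
    geomFiberBcEquiv hf z V' ((AlgSpRegLib.geomFiber z).map ((EtOver.bc hf).map g) w) =
      (AlgSpRegLib.geomFiber (z.map f)).map g (geomFiberBcEquiv hf z V w) := by
  refine ULift.ext _ _ (Subtype.ext ?_)
  change (w.down.1 ≫ (EtOver.bcMap hf g).hom.left) ≫ EtOver.bcπ hf V' = (w.down.1 ≫ EtOver.bcπ hf V) ≫ g.hom.left
  rw [Category.assoc, EtOver.bcMap_snd, Category.assoc]

/-- The two fibre functors agree. -/
def geomFiberBcIso : EtOver.bc hf ⋙ AlgSpRegLib.geomFiber z ≅ AlgSpRegLib.geomFiber (z.map f) :=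
  NatIso.ofComponents (fun V => (geomFiberBcEquiv hf z V).toIso) fun g => by
    ext w
    exact geomFiberBcEquiv_nat hf z g w

/-- The elements of the two fibre functors agree. -/
def elementsBcEquiv :
    (EtOver.bc hf ⋙ AlgSpRegLib.geomFiber z).Elements ≌ (AlgSpRegLib.geomFiber (z.map f)).Elements :=
  Cat.equivOfIso (Functor.elementsFunctor.mapIso (geomFiberBcIso hf z))

/-- The image of a geometric point, with the composite fibre functor. -/
def imagePoint (hY : IsAlgSpace Y) (hz : z.IsGeometric) : GrothendieckTopology.Point.{u + 1} (etTop Y) where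
  fiber := EtOver.bc hf ⋙ AlgSpRegLib.geomFiber z
  isCofiltered :=
    haveI := (AlgSpRegLib.geomPoint hY (z.map f) hz).isCofiltered
    haveI : IsCofiltered (AlgSpRegLib.geomFiber (z.map f)).Elements :=
      (AlgSpRegLib.geomPoint hY (z.map f) hz).isCofiltered
    IsCofiltered.of_equivalence (elementsBcEquiv hf z).symm
  initiallySmall :=
    haveI : EssentiallySmall.{u + 1} (EtOver.bc hf ⋙ AlgSpRegLib.geomFiber z).Elements :=
      essentiallySmall_of_small_of_locallySmall _
    initiallySmall_of_essentiallySmall _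
  jointly_surjective {V} R hR w := by
    obtain ⟨V', g, hg, w', hw'⟩ :=
      (AlgSpRegLib.geomPoint hY (z.map f) hz).jointly_surjective R hR (geomFiberBcEquiv hf z V w)
    refine ⟨V', g, hg, (geomFiberBcEquiv hf z V').symm w', (geomFiberBcEquiv hf z V).injective ?_⟩
    refine (geomFiberBcEquiv_nat hf z g _).trans ?_
    rw [Equiv.apply_symm_apply]
    exact hw'

end Points

/-- The inverse image along a representable morphism of spaces keeps monomorphisms. -/
theorem preservesMono_pullEt (hX : IsAlgSpace X) (hY : IsAlgSpace Y) :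
    (pullEt hf AddCommGrpCat.{u + 1}).PreservesMonomorphisms where
  preserves {F G} φ _ := by
    suffices h : ∀ Φ : (AlgSpRegLib.geomPoints hX).FullSubcategory,
        Mono (Φ.obj.sheafFiber.map ((pullEt hf AddCommGrpCat.{u + 1}).map φ)) from
      ((AlgSpRegLib.geomPoints_conservative hX).jointlyReflectMonomorphisms AddCommGrpCat.{u + 1}).mono _
    rintro ⟨Φ', z, hz, rfl⟩
    let Φ := AlgSpRegLib.geomPoint hX z hz
    let Ψ := imagePoint hf z hY hz
    let s : Φ.skyscraperSheafFunctor ⋙ pushEt hf AddCommGrpCat.{u + 1} ≅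
        Ψ.skyscraperSheafFunctor (A := AddCommGrpCat.{u + 1}) := NatIso.ofComponents (fun _ => Iso.refl _) (fun _ => rfl)
    let α : Ψ.sheafFiber (A := AddCommGrpCat.{u + 1}) ≅ pullEt hf AddCommGrpCat.{u + 1} ⋙ Φ.sheafFiber :=
      (conjugateIsoEquiv ((pullPushAdjEt hf AddCommGrpCat.{u + 1}).comp Φ.skyscraperSheafAdjunction)
        Ψ.skyscraperSheafAdjunction).symm s
    exact ((MorphismProperty.monomorphisms _).arrow_mk_iso_iff
      (((Functor.mapArrowFunctor _ _).mapIso α).app (Arrow.mk φ))).1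
        (inferInstanceAs (Mono (Ψ.sheafFiber.map φ)))

theorem injective_pushEt (hX : IsAlgSpace X) (hY : IsAlgSpace Y) (I : AbEt X) [Injective I] :
    Injective ((pushEt hf AddCommGrpCat.{u + 1}).obj I) :=
  haveI := preservesMono_pullEt hf hX hY
  Injective.injective_of_adjoint (pullPushAdjEt hf AddCommGrpCat.{u + 1}) I

section Fam

/-- Compatible families of sections. -/
def Fam {Z : Sp S} (F : AbEt Z) : AddSubgroup (∀ E : EtOver Z, F.obj.obj (op E)) where
  carrier := {x | ∀ {E E' : EtOver Z} (g : E' ⟶ E), F.obj.map g.op (x E) = x E'}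
  add_mem' {x y} hx hy E E' g := by rw [Pi.add_apply, map_add, hx g, hy g]; rfl
  zero_mem' {E E'} g := map_zero _
  neg_mem' {x} hx E E' g := by rw [Pi.neg_apply, map_neg, hx g]; rfl

/-- A natural transformation out of the constant presheaf as a family. -/
def famEquivPre {Z : Sp S} (F : AbEt Z) :
    ((Functor.const (EtOver Z)ᵒᵖ).obj (AddCommGrpCat.of (ULift.{u + 1} ℤ)) ⟶ F.obj) ≃+ Fam F where
  toFun t := ⟨fun E => t.app (op E) ⟨1⟩, fun g => (NatTrans.naturality_apply t g.op (⟨1⟩ : ULift.{u + 1} ℤ)).symm⟩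
  invFun x :=
    { app := fun E => (AddCommGrpCat.uliftZMultiplesAddEquiv (F.obj.obj E)).symm (x.1 E.unop)
      naturality := fun E E' g => by
        apply (AddCommGrpCat.uliftZMultiplesAddEquiv (F.obj.obj E')).injective
        rw [show ((Functor.const (EtOver Z)ᵒᵖ).obj (AddCommGrpCat.of (ULift.{u + 1} ℤ))).map g = 𝟙 _ from rfl,
          Category.id_comp, AddEquiv.apply_symm_apply]
        refine (x.2 g.unop).symm.trans ?_
        exact (congrArg (F.obj.map g) ((AddCommGrpCat.uliftZMultiplesAddEquiv (F.obj.obj E)).apply_symm_apply (x.1 E.unop))).symm }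
  left_inv t := by
    ext1
    funext E
    exact (AddCommGrpCat.uliftZMultiplesAddEquiv (F.obj.obj E)).symm_apply_apply (t.app E)
  right_inv x := Subtype.ext (funext fun E => (AddCommGrpCat.uliftZMultiplesAddEquiv (F.obj.obj (op E))).apply_symm_apply (x.1 E))
  map_add' t t' := rfl

/-- Degree zero cohomology as families. -/
def famEquiv {Z : Sp S} (F : AbEt Z) : HEt Z F 0 ≃+ Fam F :=
  Ext.addEquiv₀.trans
    ({ (sheafificationAdjunction (etTop Z) AddCommGrpCat.{u + 1}).homEquiv
        ((Functor.const (EtOver Z)ᵒᵖ).obj (AddCommGrpCat.of (ULift.{u + 1} ℤ))) F with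
      map_add' := fun a b => by
        change (sheafificationAdjunction (etTop Z) AddCommGrpCat.{u + 1}).homEquiv _ _ (a + b) =
          (sheafificationAdjunction (etTop Z) AddCommGrpCat.{u + 1}).homEquiv _ _ a +
            (sheafificationAdjunction (etTop Z) AddCommGrpCat.{u + 1}).homEquiv _ _ b
        rw [Adjunction.homEquiv_unit, Adjunction.homEquiv_unit, Adjunction.homEquiv_unit, Functor.map_add,
          Preadditive.comp_add] } : _ ≃+ _) |>.trans (famEquivPre F)

theorem famEquiv_nat {Z : Sp S} {F G : AbEt Z} (g : F ⟶ G) (x : HEt Z F 0) (E : EtOver Z) :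
    (famEquiv G (Sheaf.H.map g 0 x)).1 E = g.hom.app (op E) ((famEquiv F x).1 E) := by
  change (((sheafificationAdjunction (etTop Z) AddCommGrpCat.{u + 1}).homEquiv _ G
    (Ext.addEquiv₀ (Sheaf.H.map g 0 x))).app (op E)) ⟨1⟩ = _
  erw [Sheaf.H.addEquiv₀_map, Adjunction.homEquiv_naturality_right]
  rfl

variable {hf}

/-- Two lifts into base changes agree on a compatible family. -/
theorem map_eq_of_lifts (hY : IsAlgSpace Y) (F : AbEt X) (x : Fam ((pushEt hf AddCommGrpCat.{u + 1}).obj F))
    {T : EtOver X} {V V' : EtOver Y} (c : T ⟶ EtOver.bcObj hf V) (c' : T ⟶ EtOver.bcObj hf V') :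
    F.obj.map c.op (x.1 V) = F.obj.map c'.op (x.1 V') := by
  let r := hY.representable_from_yon V.obj.hom
  let e := r.snd V'.obj.hom
  have he : Etale e.left := V.property.property _ _ _ (r.isPullback V'.obj.hom)
  let P : EtOver Y := EtOver.mk ((yon S).map e ≫ V'.obj.hom)
    ((repWith_isMultiplicative (S := S) @Etale).comp_mem _ _ ((repWith_yon_map_iff _ _).2 he) V'.property)
  let q₁ : P ⟶ V := EtOver.homMk ((yon S).preimage (r.fst V'.obj.hom)) (by
    rw [Functor.map_preimage]; exact (r.isPullback V'.obj.hom).w)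
  let q₂ : P ⟶ V' := EtOver.homMk e rfl
  have hc : T.obj.hom ≫ f = (yon S).map (c.hom.left ≫ EtOver.bcπ hf V) ≫ V.obj.hom := by
    rw [Functor.map_comp, Category.assoc, ← (EtOver.isPullback_bcObj hf V).w, ← Category.assoc]
    exact congrArg (· ≫ f) (EtOver.w c).symm
  have hc' : T.obj.hom ≫ f = (yon S).map (c'.hom.left ≫ EtOver.bcπ hf V') ≫ V'.obj.hom := by
    rw [Functor.map_comp, Category.assoc, ← (EtOver.isPullback_bcObj hf V').w, ← Category.assoc]
    exact congrArg (· ≫ f) (EtOver.w c').symm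
  let l := r.lift ((yon S).map (c.hom.left ≫ EtOver.bcπ hf V)) (c'.hom.left ≫ EtOver.bcπ hf V') (hc.symm.trans hc')
  have hl : T.obj.hom ≫ f = (yon S).map l ≫ P.obj.hom := by
    change _ = (yon S).map l ≫ (yon S).map e ≫ V'.obj.hom
    rw [← Category.assoc, ← Functor.map_comp, r.lift_snd, hc']
  let m : T ⟶ EtOver.bcObj hf P := EtOver.homMk (hf.lift T.obj.hom l hl) (hf.lift_fst _ _ _)
  have h1 : m ≫ (EtOver.bc hf).map q₁ = c := EtOver.hom_ext _ _ (hf.hom_ext
    (by
      change (yon S).map (hf.lift T.obj.hom l hl ≫ (EtOver.bcMap hf q₁).hom.left) ≫ hf.fst V.obj.hom = _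
      rw [Functor.map_comp, Category.assoc, EtOver.map_bcMap_fst, hf.lift_fst]
      exact (EtOver.w c).symm)
    (by
      change (hf.lift T.obj.hom l hl ≫ (EtOver.bcMap hf q₁).hom.left) ≫ hf.snd V.obj.hom = _
      rw [Category.assoc, EtOver.bcMap_snd, hf.lift_snd_assoc]
      apply (yon S).map_injective
      rw [Functor.map_comp]
      refine (congrArg ((yon S).map l ≫ ·) ((yon S).map_preimage _)).trans ?_
      exact r.lift_fst _ _ _))
  have h2 : m ≫ (EtOver.bc hf).map q₂ = c' := EtOver.hom_ext _ _ (hf.hom_ext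
    (by
      change (yon S).map (hf.lift T.obj.hom l hl ≫ (EtOver.bcMap hf q₂).hom.left) ≫ hf.fst V'.obj.hom = _
      rw [Functor.map_comp, Category.assoc, EtOver.map_bcMap_fst, hf.lift_fst]
      exact (EtOver.w c').symm)
    (by
      change (hf.lift T.obj.hom l hl ≫ (EtOver.bcMap hf q₂).hom.left) ≫ hf.snd V'.obj.hom = _
      rw [Category.assoc, EtOver.bcMap_snd, hf.lift_snd_assoc]
      exact r.lift_snd _ _ _))
  rw [← h1, ← h2]
  simp only [op_comp, Functor.map_comp, ConcreteCategory.comp_apply]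
  exact congrArg (F.obj.map m.op) ((x.2 q₁).trans (x.2 q₂).symm)

variable (hf)

/-- Every object is covered by one mapping to a base change. -/
theorem exists_cover_bc (hY : IsAlgSpace Y) (E : EtOver X) :
    ∃ (P : EtOver X) (π : P ⟶ E) (V : EtOver Y), Nonempty (P ⟶ EtOver.bcObj hf V) ∧
      ∀ e, e ∈ Set.range π.hom.left.left := by
  obtain ⟨U, p, hp, hs⟩ := hY.atlas
  let V : EtOver Y := EtOver.mk p hp
  let q := E.obj.hom ≫ f
  let r := hp.rep
  let π₀ := r.snd q
  have he : Etale π₀.left := hp.property _ _ _ (r.isPullback q)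
  have hsur : Surjective π₀.left := hs.property _ _ _ (r.isPullback q)
  let P : EtOver X := EtOver.mk ((yon S).map π₀ ≫ E.obj.hom)
    ((repWith_isMultiplicative (S := S) @Etale).comp_mem _ _ ((repWith_yon_map_iff _ _).2 he) E.property)
  let k := (yon S).preimage (r.fst q)
  have hk : P.obj.hom ≫ f = (yon S).map k ≫ V.obj.hom := by
    rw [Functor.map_preimage]
    exact (Category.assoc _ _ _).trans (r.isPullback q).w.symm
  exact ⟨P, EtOver.homMk π₀ rfl, V, ⟨EtOver.homMk (hf.lift P.obj.hom k hk) (hf.lift_fst _ _ _)⟩,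
    fun e => π₀.left.surjective e⟩

/-- Families on the source are families on the target for the direct image. -/
def famPush (F : AbEt X) : Fam F →+ Fam ((pushEt hf AddCommGrpCat.{u + 1}).obj F) where
  toFun x := ⟨fun V => x.1 (EtOver.bcObj hf V), fun g => x.2 ((EtOver.bc hf).map g)⟩
  map_zero' := rfl
  map_add' _ _ := rfl

theorem bijective_famPush (hY : IsAlgSpace Y) (F : AbEt X) : Function.Bijective (famPush hf F) := by
  refine ⟨fun x y hxy => Subtype.ext (funext fun E => ?_), fun x => ?_⟩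
  · obtain ⟨P, π, V, ⟨k⟩, hπ⟩ := exists_cover_bc hf hY E
    refine EpsLib.sheaf_sect_ext F _ (ofArrows_mem_etTop (fun _ : PUnit.{u + 1} => P) (fun _ => π) fun e => ⟨⟨⟩, hπ e⟩) _ _ ?_
    rintro T _ ⟨_, a, _, ⟨-⟩, rfl⟩
    rw [x.2 (a ≫ π), y.2 (a ≫ π), ← x.2 (a ≫ k), ← y.2 (a ≫ k)]
    exact congrArg (F.obj.map (a ≫ k).op) (congrFun (congrArg Subtype.val hxy) V)
  · have hE : ∀ E, ∃ s : F.obj.obj (op E), ∀ (T : EtOver X) (g : T ⟶ E) (V : EtOver Y) (c : T ⟶ EtOver.bcObj hf V),
        F.obj.map g.op s = F.obj.map c.op (x.1 V) := fun E => by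
      obtain ⟨P, π, V, ⟨k⟩, hπ⟩ := exists_cover_bc hf hY E
      have hc := ofArrows_mem_etTop (fun _ : PUnit.{u + 1} => P) (fun _ => π) fun e => ⟨⟨⟩, hπ e⟩
      obtain ⟨s, hs⟩ := EpsLib.sheaf_glue_single F π hc (F.obj.map k.op (x.1 V)) fun Q a b _ => by
        rw [← ConcreteCategory.comp_apply, ← ConcreteCategory.comp_apply, ← Functor.map_comp, ← Functor.map_comp,
          ← op_comp, ← op_comp]
        exact map_eq_of_lifts hY F x _ _
      refine ⟨s, fun T g V' c => EpsLib.sheaf_sect_ext F _ ((etTop X).pullback_stable g hc) _ _ fun Q a ha => ?_⟩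
      obtain ⟨_, b, _, ⟨-⟩, hb⟩ := ha
      rw [← ConcreteCategory.comp_apply, ← ConcreteCategory.comp_apply, ← Functor.map_comp, ← Functor.map_comp,
        ← op_comp, ← op_comp, ← hb, op_comp, Functor.map_comp, ConcreteCategory.comp_apply, hs,
        ← ConcreteCategory.comp_apply, ← Functor.map_comp, ← op_comp]
      exact map_eq_of_lifts hY F x _ _
    choose s hs using hE
    refine ⟨⟨s, fun {E E'} g => ?_⟩, Subtype.ext (funext fun V => ?_)⟩
    · obtain ⟨P, π, V, ⟨k⟩, hπ⟩ := exists_cover_bc hf hY E'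
      refine EpsLib.sheaf_sect_ext F _ (ofArrows_mem_etTop (fun _ : PUnit.{u + 1} => P) (fun _ => π) fun e => ⟨⟨⟩, hπ e⟩) _ _ ?_
      rintro T _ ⟨_, a, _, ⟨-⟩, rfl⟩
      rw [← ConcreteCategory.comp_apply, ← Functor.map_comp, ← op_comp,
        hs E T ((a ≫ π) ≫ g) V (a ≫ k), hs E' T (a ≫ π) V (a ≫ k)]
    · have := hs (EtOver.bcObj hf V) _ (𝟙 _) V (𝟙 _)
      simp only [op_id, CategoryTheory.Functor.map_id, ConcreteCategory.id_apply] at this
      exact this

end Fam

variable (hX : IsAlgSpace X) (hY : IsAlgSpace Y) (haff : IsAffineMor f)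

theorem eq_zero_of_extClass.{w, v', u'} {A : Type u'} [Category.{v'} A] [Abelian A] [HasExt.{w} A] {T : ShortComplex A}
    (hT : T.ShortExact) [Injective T.X₂] {Z : A} {n : ℕ} (x : Ext Z T.X₃ (n + 1))
    (h : x.comp hT.extClass (rfl : n + 1 + 1 = n + 1 + 1) = 0) : x = 0 := by
  obtain ⟨y, rfl⟩ := Ext.covariant_sequence_exact₃ Z hT x (n₁ := n + 1 + 1) rfl h
  rw [Ext.eq_zero_of_injective y, Ext.zero_comp]

/-- Degree zero cohomology of a direct image. -/
def e0Push (F : AbEt X) : HEt X F 0 ≃+ HEt Y ((pushEt hf AddCommGrpCat.{u + 1}).obj F) 0 :=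
  ((famEquiv F).trans (AddEquiv.ofBijective _ (bijective_famPush hf hY F))).trans (famEquiv _).symm

theorem e0Push_nat {F F' : AbEt X} (g : F ⟶ F') (x : HEt X F 0) :
    e0Push hf hY F' (Sheaf.H.map g 0 x) =
      Sheaf.H.map ((pushEt hf AddCommGrpCat.{u + 1}).map g) 0 (e0Push hf hY F x) := by
  apply (famEquiv _).injective
  refine Subtype.ext (funext fun V => ?_)
  refine Eq.trans ?_ (famEquiv_nat _ _ V).symm
  simp only [e0Push, AddEquiv.trans_apply, AddEquiv.apply_symm_apply]
  exact famEquiv_nat g x _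

include hX hY haff in
/-- Cohomology of an affine-acyclic sheaf is that of its direct image. -/
theorem nonempty_H_equiv_push : ∀ (i : ℕ) (F : AbEt X), AffAcyclic F →
    Nonempty (HEt X F i ≃+ HEt Y ((pushEt hf AddCommGrpCat.{u + 1}).obj F) i) := by
  intro i
  induction i with
  | zero => exact fun F _ => ⟨e0Push hf hY F⟩
  | succ i ih =>
    intro F hF
    let T := CohLib.injSC F
    have hT : T.ShortExact := CohLib.injSC_shortExact F
    let P := T.map (pushEt hf AddCommGrpCat.{u + 1})
    have hP : P.ShortExact := shortExact_pushEt hf haff hT hF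
    let ZE := (constantSheaf (etTop X) AddCommGrpCat.{u + 1}).obj (AddCommGrpCat.of (ULift.{u + 1} ℤ))
    let ZP := (constantSheaf (etTop Y) AddCommGrpCat.{u + 1}).obj (AddCommGrpCat.of (ULift.{u + 1} ℤ))
    let cE : ∀ n : ℕ, Ext.{u + 1} ZE T.X₃ n →+ Ext.{u + 1} ZE T.X₁ (n + 1) := fun n => hT.extClass.postcomp ZE rfl
    let cP : ∀ n : ℕ, Ext.{u + 1} ZP P.X₃ n →+ Ext.{u + 1} ZP P.X₁ (n + 1) := fun n => hP.extClass.postcomp ZP rfl
    haveI : Injective T.X₂ := inferInstanceAs (Injective (Injective.under F))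
    haveI : Injective P.X₂ := injective_pushEt hf hX hY T.X₂
    have sE : ∀ n, Function.Surjective (cE n) := fun n x => by
      obtain ⟨y, hy⟩ := Ext.covariant_sequence_exact₁ ZE hT x (Ext.eq_zero_of_injective _) (n₀ := n) rfl
      exact ⟨y, hy⟩
    have sP : ∀ n, Function.Surjective (cP n) := fun n x => by
      obtain ⟨y, hy⟩ := Ext.covariant_sequence_exact₁ ZP hP x (Ext.eq_zero_of_injective _) (n₀ := n) rfl
      exact ⟨y, hy⟩
    cases i with
    | zero =>
      refine EtZarLib.addEquiv_of_surjections (e0Push hf hY T.X₃) (cE 0) (cP 0) (sE 0) (sP 0)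
        fun b => ⟨fun hb => ?_, fun hb => ?_⟩
      · obtain ⟨y, rfl⟩ := Ext.covariant_sequence_exact₃ ZE hT b (n₁ := 1) rfl hb
        show Ext.comp (e0Push hf hY T.X₃ (Sheaf.H.map T.g 0 y)) hP.extClass rfl = 0
        rw [e0Push_nat]
        show (Ext.comp (e0Push hf hY T.X₂ y) (Ext.mk₀ P.g) (add_zero 0)).comp hP.extClass rfl = 0
        rw [Ext.comp_assoc_of_second_deg_zero, hP.comp_extClass, Ext.comp_zero]
      · obtain ⟨y, hy⟩ := Ext.covariant_sequence_exact₃ ZP hP (e0Push hf hY T.X₃ b) (n₁ := 1) rfl hb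
        have hb' : b = Sheaf.H.map T.g 0 ((e0Push hf hY T.X₂).symm y) := (e0Push hf hY T.X₃).injective (by
          rw [e0Push_nat, AddEquiv.apply_symm_apply]
          exact hy.symm)
        rw [hb']
        show (Ext.comp ((e0Push hf hY T.X₂).symm y) (Ext.mk₀ T.g) (add_zero 0)).comp hT.extClass rfl = 0
        rw [Ext.comp_assoc_of_second_deg_zero, hT.comp_extClass, Ext.comp_zero]
    | succ j =>
      obtain ⟨e⟩ := ih T.X₃ (affAcyclic_quotient hT hF)
      refine EtZarLib.addEquiv_of_surjections e (cE (j + 1)) (cP (j + 1)) (sE _) (sP _) fun b => ⟨fun hb => ?_, fun hb => ?_⟩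
      · exact (congrArg (fun t => cP (j + 1) (e t)) (eq_zero_of_extClass hT b hb)).trans
          ((congrArg (fun t => cP (j + 1) t) (map_zero e)).trans (map_zero (cP (j + 1))))
      · exact (congrArg (fun t => cE (j + 1) t) (e.map_eq_zero_iff.1 (eq_zero_of_extClass hP (e b) hb))).trans
          (map_zero (cE (j + 1)))

end ModEtQc
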