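import Groth.Agent.ModEtQcLib.Qc
import Groth.Agent.ModSiteLib.TensorSheaf
import Mathlib.Algebra.Category.ModuleCat.Sheaf.Limits
import Mathlib.Algebra.Category.ModuleCat.Presheaf.Abelian
import Mathlib.Algebra.Category.ModuleCat.Sheaf.Abelian
import Mathlib.Algebra.Homology.ShortComplex.ModuleCat
import Mathlib.LinearAlgebra.TensorProduct.RightExactness

/-!
# Exactness properties of quasi-coherent modules on the small etale site
-/

set_option autoImplicit false
set_option backward.isDefEq.respectTransparency false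
set_option backward.isDefEq.respectTransparency.types false
universe u
open CategoryTheory CategoryTheory.Limits AlgebraicGeometry Opposite AlgSp TopologicalSpace
open scoped TensorProduct

noncomputable section

namespace ModEtQc

variable {S : Scheme.{u}} {X : Sp S}

/-- A morphism on the sections over an object. -/
def appS {M M' : ModEt X} (φ : M ⟶ M') (E : EtOver X) : sec M E →ₗ[Ring E] sec M' E where
  toFun x := φ.val.app (op E) x
  map_add' := map_add (φ.val.app (op E)).hom
  map_smul' := map_smul (φ.val.app (op E)).hom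

theorem appS_res {M M' : ModEt X} (φ : M ⟶ M') {E E' : EtOver X} (k : E' ⟶ E) (x : sec M E) :
    appS φ E' (res M k x) = res M' k (appS φ E x) :=
  PresheafOfModules.naturality_apply φ.val k.op x

/-- The base change map on sections. -/
def evS (M : ModEt X) {E : EtOver X} (Z : Over E) : Ring Z.left ⊗[Ring E] sec M E →+ sec M Z.left :=
  AddMonoidHom.mk' (fun t => ev M Z t) (fun x y => map_add ((evalMap (M.over E)).app (op Z)).hom x y)

theorem evS_tmul (M : ModEt X) {E : EtOver X} (Z : Over E) (r : Ring Z.left) (m : sec M E) :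
    evS M Z (r ⊗ₜ[Ring E] m) = r • res M Z.hom m := rfl

theorem isTilde_iff_evS (M : ModEt X) (E : EtOver X) :
    IsTilde (M.over E) ↔ ∀ Z : Over E, IsAffine Z.left.obj.left.left → Function.Bijective (evS M Z) :=
  Iff.rfl

theorem evS_natural {M M' : ModEt X} (φ : M ⟶ M') {E : EtOver X} (Z : Over E) (t : Ring Z.left ⊗[Ring E] sec M E) :
    evS M' Z ((appS φ E).lTensor (Ring Z.left) t) = appS φ Z.left (evS M Z t) := by
  induction t using TensorProduct.induction_on with
  | zero => simp
  | tmul r m => rw [LinearMap.lTensor_tmul, evS_tmul, evS_tmul, map_smul, appS_res]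
  | add x y hx hy => simp only [map_add, hx, hy]

section Sections

variable {T : ShortComplex (ModEt X)}

theorem injective_appS {M M' : ModEt X} (φ : M ⟶ M') [Mono φ] (E : EtOver X) : Function.Injective (appS φ E) :=
  (ModuleCat.mono_iff_injective ((SheafOfModules.evaluation (OEtRing X) (op E)).map φ)).1 inferInstance

theorem exact_appS (hT : T.Exact) [Mono T.f] (E : EtOver X) : Function.Exact (appS T.f E) (appS T.g E) := by
  have h := hT.map_of_mono_of_preservesKernel (SheafOfModules.evaluation (OEtRing X) (op E)) inferInstance inferInstance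
  exact (ShortComplex.ShortExact.moduleCat_exact_iff_function_exact _).1 h

theorem locally_surjective_of_epi {M M' : ModEt X} (φ : M ⟶ M') [Epi φ] (E : EtOver X) (s : sec M' E) :
    ∃ R ∈ etTop X E, ∀ {Y : EtOver X} (g : Y ⟶ E), R g → ∃ t, appS φ Y t = res M' g s := by
  let adj := PresheafOfModules.sheafificationAdjunction.{u + 1} (𝟙 (OEtRing X).obj)
  haveI : PreservesColimitsOfShape WalkingSpan (presheafToSheaf (etTop X) AddCommGrpCat.{u + 1}) :=
    (CategoryTheory.sheafificationAdjunction (etTop X) AddCommGrpCat.{u + 1}).leftAdjoint_preservesColimits.preservesColimitsOfShape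
  let F := PresheafOfModules.toPresheaf.{u + 1} (OEtRing X).obj ⋙ presheafToSheaf (etTop X) AddCommGrpCat.{u + 1}
  have hF : ∀ P, IsIso (F.map (adj.unit.app P)) := fun P =>
    ((etTop X).W_iff _).1 ((etTop X).W_toSheafify (A := AddCommGrpCat.{u + 1}) P.presheaf)
  haveI : IsIso adj.counit := inferInstance
  haveI := ModSiteLib.preservesColimitsOfShape_comp_of_inverts_unit adj F (Jc := WalkingSpan) hF
  haveI : PreservesColimitsOfShape WalkingSpan (SheafOfModules.toSheaf.{u + 1} (OEtRing X)) :=
    preservesColimitsOfShape_of_natIso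
      (F := (SheafOfModules.forget (OEtRing X) ⋙ PresheafOfModules.restrictScalars (𝟙 (OEtRing X).obj)) ⋙ F)
      (Functor.isoWhiskerRight (asIso adj.counit) (SheafOfModules.toSheaf (OEtRing X)))
  haveI : (SheafOfModules.toSheaf.{u + 1} (OEtRing X)).PreservesEpimorphisms :=
    preservesEpimorphisms_of_preservesColimitsOfShape _
  have h : Sheaf.IsLocallySurjective ((SheafOfModules.toSheaf.{u + 1} (OEtRing X)).map φ) :=
    (Sheaf.isLocallySurjective_iff_epi' _ _).2 inferInstance
  exact ⟨_, h.imageSieve_mem s, fun g hg => hg⟩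

end Sections

theorem piRight_proj {A : Type (u + 1)} [CommRing A] {B : Type (u + 1)} [AddCommGroup B] [Module A B]
    {ι : Type} [Finite ι] [DecidableEq ι] [Fintype ι] (N : ι → Type (u + 1)) [∀ i, AddCommGroup (N i)]
    [∀ i, Module A (N i)] (z : B ⊗[A] (∀ i, N i)) (i : ι) :
    TensorProduct.piRight A A B N z i = (LinearMap.proj i).lTensor B z := by
  induction z using TensorProduct.induction_on with
  | zero => simp
  | tmul r m => simp
  | add x y hx hy => rw [map_add, map_add, Pi.add_apply, hx, hy]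

/-- Sections of an extension by a quasi-coherent module lift over affine objects. -/
theorem surjective_appS {T : ShortComplex (ModEt X)} (hT : T.ShortExact) (h1 : BC T.X₁) (E : EtOver X)
    [IsAffine E.obj.left.left] : Function.Surjective (appS T.g E) := by
  classical
  haveI := hT.mono_f
  haveI := hT.epi_g
  intro s
  obtain ⟨R, hR, hRg⟩ := locally_surjective_of_epi T.g E s
  obtain ⟨n, Y₀, g₀, hY₀, hg₀, hcov⟩ := exists_finite_affine_refinement hR
  let Y : Fin n → Over E := fun i => Over.mk (g₀ i)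
  have hlift : ∀ i, ∃ t : sec T.X₂ (Y i).left, appS T.g (Y i).left t = res T.X₃ (Y i).hom s :=
    fun i => hRg (g₀ i) (hg₀ i)
  choose t ht using hlift
  haveI : ∀ i, IsAffine (Y i).left.obj.left.left := hY₀
  let Y2 : Fin n × Fin n → Over E := fun p => Over.mk (EtOver.pullbackFst (Y p.1).hom (Y p.2).hom ≫ (Y p.1).hom)
  haveI hY2 : ∀ p, IsAffine (Y2 p).left.obj.left.left := fun p => (isPushout_rho (Y p.1).hom (Y p.2).hom).1
  let M := T.X₁
  letI := fun i => secModuleBase M (Y i).hom
  letI := fun p => secModuleBase M (Y2 p).hom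
  let q₁ : ∀ p, (Y2 p).left ⟶ (Y p.1).left := fun p => EtOver.pullbackFst (Y p.1).hom (Y p.2).hom
  let q₂ : ∀ p, (Y2 p).left ⟶ (Y p.2).left := fun p => EtOver.pullbackSnd (Y p.1).hom (Y p.2).hom
  have hq₂ : ∀ p, q₂ p ≫ (Y p.2).hom = (Y2 p).hom := fun p => (EtOver.pullback_condition _ _).symm
  let l₁ : ∀ p, sec M (Y p.1).left →ₗ[Ring E] sec M (Y2 p).left := fun p =>
    { toFun := fun m => res M (q₁ p) m
      map_add' := map_add _
      map_smul' := fun a m => by
        change res M (q₁ p) (rho (Y p.1).hom a • m) = rho (Y2 p).hom a • res M (q₁ p) m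
        rw [res_smul, show (Y2 p).hom = q₁ p ≫ (Y p.1).hom from rfl, rho_comp]
        rfl }
  let l₂ : ∀ p, sec M (Y p.2).left →ₗ[Ring E] sec M (Y2 p).left := fun p =>
    { toFun := fun m => res M (q₂ p) m
      map_add' := map_add _
      map_smul' := fun a m => by
        change res M (q₂ p) (rho (Y p.2).hom a • m) = rho (Y2 p).hom a • res M (q₂ p) m
        rw [res_smul, ← hq₂ p, rho_comp]
        rfl }
  let d₁ : (∀ i, sec M (Y i).left) →ₗ[Ring E] ∀ p, sec M (Y2 p).left :=
    LinearMap.pi fun p => l₁ p ∘ₗ LinearMap.proj p.1 - l₂ p ∘ₗ LinearMap.proj p.2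
  have hc : ∀ p, ∃ c : sec M (Y2 p).left, appS T.f _ c = res T.X₂ (q₁ p) (t p.1) - res T.X₂ (q₂ p) (t p.2) := by
    intro p
    refine (exact_appS hT.exact (Y2 p).left _).1 ?_
    rw [map_sub, appS_res, appS_res, ht, ht, sub_eq_zero, ← res_comp, ← res_comp]
    exact res_congr T.X₃ (hq₂ p).symm s
  choose c hc using hc
  suffices hrange : c ∈ LinearMap.range d₁ by
    obtain ⟨b, hb⟩ := hrange
    obtain ⟨m, hm⟩ := exists_glue_sec T.X₂ (fun i => (Y i).left) (fun i => (Y i).hom) hcov
      (fun i => t i - appS T.f _ (b i)) fun i j => by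
        have h := congrArg (appS T.f _) (congrFun hb (i, j))
        rw [hc] at h
        change appS T.f _ (res M (q₁ (i, j)) (b i) - res M (q₂ (i, j)) (b j)) = _ at h
        rw [map_sub, appS_res, appS_res] at h
        change res T.X₂ (q₁ (i, j)) (t i - appS T.f _ (b i)) = res T.X₂ (q₂ (i, j)) (t j - appS T.f _ (b j))
        rw [map_sub, map_sub, sub_eq_sub_iff_sub_eq_sub]
        exact h.symm
    refine ⟨m, eq_of_cover T.X₃ (fun i => (Y i).left) (fun i => (Y i).hom) hcov _ _ fun i => ?_⟩
    rw [← appS_res, hm i, map_sub, ht, (exact_appS hT.exact _).apply_apply_eq_zero, sub_zero]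
  have hfam : FaithfulFamily (Ring E) (fun i => Ring (Y i).left) :=
    faithfulFamily_of_flat _ (fun i => RingHom.flat_algebraMap_iff.1 (flat_rho (Y i).hom))
      (surjective_comap (fun i => (Y i).left) (fun i => (Y i).hom) hcov)
  rw [← Submodule.Quotient.mk_eq_zero]
  refine hfam _ _ fun k => ?_
  suffices hk : (1 : Ring (Y k).left) ⊗ₜ[Ring E] c ∈ LinearMap.range (d₁.lTensor (Ring (Y k).left)) by
    obtain ⟨z, hz⟩ := hk
    have e := congrArg ((LinearMap.range d₁).mkQ.lTensor (Ring (Y k).left)) hz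
    rw [← LinearMap.comp_apply, ← LinearMap.lTensor_comp, LinearMap.range_mkQ_comp, LinearMap.lTensor_zero,
      LinearMap.zero_apply, LinearMap.lTensor_tmul] at e
    exact e.symm
  choose ψ hψ hψt using fun i => exists_psi M (Y k) (Y i) (h1 _ inferInstance)
  choose ψ2 hψ2 hψ2t using fun p => exists_psi M (Y k) (Y2 p) (h1 _ (hY2 p))
  let π₁ : ∀ i, EtOver.pullbackObj (Y k).hom (Y i).hom ⟶ (Y k).left := fun i => EtOver.pullbackFst _ _
  let π₂ : ∀ i, EtOver.pullbackObj (Y k).hom (Y i).hom ⟶ (Y i).left := fun i => EtOver.pullbackSnd _ _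
  have he : ∀ i, ∃ e, appS T.f _ e = res T.X₂ (π₂ i) (t i) - res T.X₂ (π₁ i) (t k) := by
    intro i
    refine (exact_appS hT.exact _ _).1 ?_
    rw [map_sub, appS_res, appS_res, ht, ht, sub_eq_zero, ← res_comp, ← res_comp]
    exact res_congr T.X₃ (EtOver.pullback_condition _ _).symm s
  choose e he using he
  choose b hb using fun i => (hψ i).2 (e i)
  refine ⟨(TensorProduct.piRight (Ring E) (Ring E) (Ring (Y k).left) fun i => sec M (Y i).left).symm b, ?_⟩
  set z := (TensorProduct.piRight (Ring E) (Ring E) (Ring (Y k).left) fun i => sec M (Y i).left).symm b with hzdef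
  have hz : ∀ i, (LinearMap.proj i).lTensor (Ring (Y k).left) z = b i := fun i => by
    rw [← piRight_proj, hzdef, LinearEquiv.apply_symm_apply]
  refine (TensorProduct.piRight (Ring E) (Ring E) (Ring (Y k).left) fun p => sec M (Y2 p).left).injective
    (funext fun p => (hψ2 p).1 ?_)
  rw [piRight_proj, piRight_proj, LinearMap.lTensor_tmul, LinearMap.proj_apply, hψ2t, map_one, one_smul]
  let W₂ := EtOver.pullbackObj (Y k).hom (Y2 p).hom
  let a₁ : W₂ ⟶ (Y k).left := EtOver.pullbackFst _ _
  let a₂ : W₂ ⟶ (Y2 p).left := EtOver.pullbackSnd _ _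
  obtain ⟨u₁, hu₁, hu₁'⟩ : ∃ u : W₂ ⟶ EtOver.pullbackObj (Y k).hom (Y p.1).hom, u ≫ π₁ p.1 = a₁ ∧
      u ≫ π₂ p.1 = a₂ ≫ q₁ p := by
    obtain ⟨l, h1, h2⟩ := PullbackCone.IsLimit.lift' (EtOver.pullbackIsLimit (Y k).hom (Y p.1).hom) a₁ (a₂ ≫ q₁ p)
      (by rw [Category.assoc]; exact EtOver.pullback_condition _ _)
    exact ⟨l, h1, h2⟩
  obtain ⟨u₂, hu₂, hu₂'⟩ : ∃ u : W₂ ⟶ EtOver.pullbackObj (Y k).hom (Y p.2).hom, u ≫ π₁ p.2 = a₁ ∧
      u ≫ π₂ p.2 = a₂ ≫ q₂ p := by
    obtain ⟨l, h1, h2⟩ := PullbackCone.IsLimit.lift' (EtOver.pullbackIsLimit (Y k).hom (Y p.2).hom) a₁ (a₂ ≫ q₂ p)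
      (by rw [Category.assoc, hq₂]; exact EtOver.pullback_condition _ _)
    exact ⟨l, h1, h2⟩
  have h1' : ∀ x, ψ2 p ((l₁ p).lTensor (Ring (Y k).left) x) = res M u₁ (ψ p.1 x) := fun x => by
    induction x using TensorProduct.induction_on with
    | zero => simp
    | tmul r m =>
      rw [LinearMap.lTensor_tmul, hψ2t, hψt, res_smul, ← res_comp, res_congr M hu₁', res_comp,
        ← RingHom.comp_apply, ← rho_comp, hu₁]
      rfl
    | add x y hx hy => simp only [map_add, hx, hy]
  have h2' : ∀ x, ψ2 p ((l₂ p).lTensor (Ring (Y k).left) x) = res M u₂ (ψ p.2 x) := fun x => by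
    induction x using TensorProduct.induction_on with
    | zero => simp
    | tmul r m =>
      rw [LinearMap.lTensor_tmul, hψ2t, hψt, res_smul, ← res_comp, res_congr M hu₂', res_comp,
        ← RingHom.comp_apply, ← rho_comp, hu₂]
      rfl
    | add x y hx hy => simp only [map_add, hx, hy]
  have e' : (LinearMap.proj p).lTensor (Ring (Y k).left) (d₁.lTensor (Ring (Y k).left) z) =
      (l₁ p).lTensor (Ring (Y k).left) ((LinearMap.proj p.1).lTensor (Ring (Y k).left) z) -
        (l₂ p).lTensor (Ring (Y k).left) ((LinearMap.proj p.2).lTensor (Ring (Y k).left) z) := by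
    simp only [← LinearMap.comp_apply, ← LinearMap.lTensor_comp]
    rw [← LinearMap.sub_apply, ← LinearMap.lTensor_sub]
    rfl
  rw [e', map_sub, h1', h2', hz, hz, hb, hb]
  refine injective_appS T.f _ ?_
  rw [map_sub, appS_res, appS_res, appS_res, he, he, hc, map_sub, map_sub, map_sub, ← res_comp, ← res_comp,
    ← res_comp, ← res_comp, ← res_comp, ← res_comp, res_congr _ hu₁, res_congr _ hu₂, res_congr _ hu₁',
    res_congr _ hu₂']
  abel

variable {T : ShortComplex (ModEt X)}

/-- The kernel of a map of quasi-coherent modules is quasi-coherent. -/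
theorem bc_left (hT : T.Exact) [Mono T.f] (h2 : BC T.X₂) (h3 : BC T.X₃) : BC T.X₁ := by
  intro E hE
  rw [isTilde_iff_evS]
  intro Z hZ
  haveI : IsAffine Z.left.obj.left.left := hZ
  have e2 := (isTilde_iff_evS _ _).1 (h2 E hE) Z hZ
  have e3 := (isTilde_iff_evS _ _).1 (h3 E hE) Z hZ
  haveI : Module.Flat (Ring E) (Ring Z.left) := RingHom.flat_algebraMap_iff.1 (flat_rho Z.hom)
  have hfT := Module.Flat.lTensor_preserves_injective_linearMap (M := Ring Z.left) _ (injective_appS T.f E)
  have hex := Module.Flat.lTensor_exact (Ring Z.left) (exact_appS hT E)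
  refine ⟨(injective_iff_map_eq_zero _).2 fun t ht => hfT (e2.1 ?_), fun y => ?_⟩
  · rw [evS_natural, ht, map_zero, map_zero, map_zero]
  · obtain ⟨t2, ht2⟩ := e2.2 (appS T.f _ y)
    obtain ⟨t1, ht1⟩ := (hex t2).1 (e3.1 (by
      rw [evS_natural, ht2, (exact_appS hT _).apply_apply_eq_zero, map_zero]))
    exact ⟨t1, injective_appS T.f _ (by rw [← evS_natural, ht1, ht2])⟩

/-- The quotient of a quasi-coherent module by a quasi-coherent submodule is quasi-coherent. -/
theorem bc_right (hT : T.ShortExact) (h1 : BC T.X₁) (h2 : BC T.X₂) : BC T.X₃ := by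
  intro E hE
  rw [isTilde_iff_evS]
  intro Z hZ
  haveI : IsAffine Z.left.obj.left.left := hZ
  haveI := hT.mono_f
  haveI : IsAffine E.obj.left.left := hE
  have e1 := (isTilde_iff_evS _ _).1 (h1 E hE) Z hZ
  have e2 := (isTilde_iff_evS _ _).1 (h2 E hE) Z hZ
  refine ⟨(injective_iff_map_eq_zero _).2 fun t3 ht3 => ?_, fun y => ?_⟩
  · obtain ⟨t2, rfl⟩ := LinearMap.lTensor_surjective (Ring Z.left) (surjective_appS hT h1 E) t3
    rw [evS_natural] at ht3
    obtain ⟨y, hy⟩ := (exact_appS hT.exact _ _).1 ht3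
    obtain ⟨t1, rfl⟩ := e1.2 y
    rw [← evS_natural] at hy
    rw [← e2.1 hy, ← LinearMap.comp_apply, ← LinearMap.lTensor_comp,
      show appS T.g E ∘ₗ appS T.f E = 0 from (exact_appS hT.exact E).linearMap_comp_eq_zero,
      LinearMap.lTensor_zero, LinearMap.zero_apply]
  · obtain ⟨x, rfl⟩ := surjective_appS hT h1 Z.left y
    obtain ⟨t2, rfl⟩ := e2.2 x
    exact ⟨_, evS_natural T.g Z t2⟩

/-- An extension of quasi-coherent modules is quasi-coherent. -/
theorem bc_middle (hT : T.ShortExact) (h1 : BC T.X₁) (h3 : BC T.X₃) : BC T.X₂ := by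
  intro E hE
  rw [isTilde_iff_evS]
  intro Z hZ
  haveI : IsAffine Z.left.obj.left.left := hZ
  haveI := hT.mono_f
  haveI : IsAffine E.obj.left.left := hE
  have e1 := (isTilde_iff_evS _ _).1 (h1 E hE) Z hZ
  have e3 := (isTilde_iff_evS _ _).1 (h3 E hE) Z hZ
  haveI : Module.Flat (Ring E) (Ring Z.left) := RingHom.flat_algebraMap_iff.1 (flat_rho Z.hom)
  have hfT := Module.Flat.lTensor_preserves_injective_linearMap (M := Ring Z.left) _ (injective_appS T.f E)
  have hex := Module.Flat.lTensor_exact (Ring Z.left) (exact_appS hT.exact E)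
  refine ⟨(injective_iff_map_eq_zero _).2 fun t ht => ?_, fun y => ?_⟩
  · obtain ⟨t1, rfl⟩ := (hex t).1 (e3.1 (by rw [evS_natural, ht, map_zero, map_zero]))
    rw [evS_natural] at ht
    rw [e1.1 ((injective_appS T.f _ (ht.trans (map_zero _).symm)).trans (map_zero (evS T.X₁ Z)).symm), map_zero]
  · obtain ⟨t3, ht3⟩ := e3.2 (appS T.g _ y)
    obtain ⟨t2, rfl⟩ := LinearMap.lTensor_surjective (Ring Z.left) (surjective_appS hT h1 E) t3
    rw [evS_natural] at ht3
    obtain ⟨x, hx⟩ := (exact_appS hT.exact Z.left (y - evS T.X₂ Z t2)).1 (by rw [map_sub, ht3, sub_self])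
    obtain ⟨t1, rfl⟩ := e1.2 x
    refine ⟨t2 + (appS T.f E).lTensor (Ring Z.left) t1, ?_⟩
    rw [map_add, evS_natural, hx, add_sub_cancel]

/-- A colimit of quasi-coherent modules is quasi-coherent. -/
theorem bc_colimit {J : Type*} [Category J] [∀ A : Type (u + 1), [CommRing A] → HasColimitsOfShape J (ModuleCat.{u + 1} A)]
    (D : J ⥤ ModEt X) [HasColimit D] (h : ∀ j, BC (D.obj j)) : BC (colimit D) := by
  intro E hE
  haveI : IsAffine E.obj.left.left := hE
  haveI : (SheafOfModules.overFunctor.{u + 1} (OEtRing X) E).IsLeftAdjoint :=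
    inferInstanceAs (SheafOfModules.pushforward.{u + 1} (𝟙 ((OEtRing X).over E))).IsLeftAdjoint
  haveI : PreservesColimit D (SheafOfModules.overFunctor.{u + 1} (OEtRing X) E) :=
    ((Adjunction.ofIsLeftAdjoint _).leftAdjoint_preservesColimits).preservesColimitsOfShape.preservesColimit
  let D' := D ⋙ SheafOfModules.overFunctor.{u + 1} (OEtRing X) E
  haveI : ∀ j, IsIso ((tildeAdj E).counit.app (D'.obj j)) := fun j => isIso_counit_of_isTilde (h j E hE)
  let α : (D' ⋙ Γt E) ⋙ tildeF E ≅ D' :=
    NatIso.ofComponents (fun j => asIso ((tildeAdj E).counit.app (D'.obj j))) fun f => (tildeAdj E).counit.naturality (D'.map f)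
  let c := colimit.cocone (D' ⋙ Γt E)
  have hc : IsColimit ((Cocone.precompose α.inv).obj ((tildeF E).mapCocone c)) :=
    (IsColimit.precomposeHomEquiv α.symm _).symm (isColimitOfPreserves (tildeF E) (colimit.isColimit _))
  have hd := isColimitOfPreserves (SheafOfModules.overFunctor.{u + 1} (OEtRing X) E) (colimit.isColimit D)
  exact isTilde_of_iso (hc.coconePointUniqueUpToIso hd) (isTilde_tilde _)

end ModEtQc
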