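import Groth.Agent.ModEtQcLib.Coherent
import Mathlib.Algebra.Category.ModuleCat.Presheaf.Submodule
import Groth.Prelude.Def_AlgSpModX

/-!
# Quasi-coherent submodules from their sections over affine objects
-/

set_option autoImplicit false
set_option backward.isDefEq.respectTransparency false
set_option backward.isDefEq.respectTransparency.types false
universe u
open CategoryTheory CategoryTheory.Limits AlgebraicGeometry Opposite AlgSp TopologicalSpace
open scoped TensorProduct

noncomputable section

namespace ModEtQc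

variable {S : Scheme.{u}} {X : Sp S}

section Construct

variable (F : ModEt X) (P : ∀ E : EtOver X, IsAffine E.obj.left.left → Submodule (Ring E) (sec F E))

/-- Sections whose restrictions to all affine objects lie in the given submodules. -/
def localSub : F.val.Submodule where
  obj Z :=
    { carrier := {s : sec F Z.unop | ∀ (E' : EtOver X) (g : E' ⟶ Z.unop) (h : IsAffine E'.obj.left.left), res F g s ∈ P E' h}
      add_mem' := fun {a b} ha hb E' g h => by
        change res F g ((show sec F Z.unop from a) + b) ∈ P E' h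
        rw [map_add]
        exact (P E' h).add_mem (ha E' g h) (hb E' g h)
      zero_mem' := fun E' g h => by
        change res F g (0 : sec F Z.unop) ∈ P E' h
        rw [map_zero]
        exact (P E' h).zero_mem
      smul_mem' := fun c a ha E' g h => by
        change res F g ((show Ring Z.unop from c) • (show sec F Z.unop from a)) ∈ P E' h
        rw [res_smul]
        exact (P E' h).smul_mem _ (ha E' g h) }
  map {Z Z'} k s hs E' g h := by
    change res F g (res F k.unop (show sec F Z.unop from s)) ∈ P E' h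
    rw [← res_comp]
    exact hs E' _ h

variable (hloc : ∀ (E : EtOver X) (hE : IsAffine E.obj.left.left) (n : ℕ) (Y : Fin n → EtOver X) (g : ∀ i, Y i ⟶ E)
    (hY : ∀ i, IsAffine (Y i).obj.left.left), (∀ x, ∃ i, x ∈ Set.range (g i).hom.left.left) →
    ∀ s : sec F E, (∀ i, res F (g i) s ∈ P (Y i) (hY i)) → s ∈ P E hE)

include hloc in
theorem isSheaf_localSub : Presheaf.IsSheaf (etTop X) (localSub F P).toPresheafOfModules.presheaf := by
  rw [Presheaf.isSheaf_iff_isSheaf_forget _ _ (forget AddCommGrpCat.{u + 1}), isSheaf_iff_isSheaf_of_type]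
  intro E R hR x hx
  have hF : Presieve.IsSheaf (etTop X) (F.val.presheaf ⋙ forget AddCommGrpCat.{u + 1}) :=
    (isSheaf_iff_isSheaf_of_type _ _).1
      ((Presheaf.isSheaf_iff_isSheaf_forget _ F.val.presheaf (forget AddCommGrpCat.{u + 1})).1 F.isSheaf)
  let x' : Presieve.FamilyOfElements (F.val.presheaf ⋙ forget AddCommGrpCat.{u + 1}) R.arrows := fun Z q hq => (x q hq).1
  have hx' : x'.Compatible := fun Y₁ Y₂ Z g₁ g₂ f₁ f₂ h₁ h₂ w => congrArg Subtype.val (hx g₁ g₂ h₁ h₂ w)
  obtain ⟨t, ht, huniq⟩ := hF R hR x' hx'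
  have htm : ∀ (E' : EtOver X) (g : E' ⟶ E) (h : IsAffine E'.obj.left.left), res F g t ∈ P E' h := by
    intro E' g h
    haveI := h
    obtain ⟨n, Y, k, hY, hk, hcov⟩ := exists_finite_affine_refinement ((etTop X).pullback_stable g hR)
    refine hloc E' h n Y k hY hcov _ fun i => ?_
    have e : res F (k i) (res F g t) = res F (𝟙 _) (x (k i ≫ g) (hk i)).1 := by
      rw [← res_comp]
      refine (ht (k i ≫ g) (hk i)).trans ?_
      change _ = (F.val.map (𝟙 (op (Y i)))) _
      rw [PresheafOfModules.map_id]
      rfl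
    rw [e]
    exact (x (k i ≫ g) (hk i)).2 _ (𝟙 _) (hY i)
  exact ⟨⟨t, htm⟩, fun Z q hq => Subtype.ext (ht q hq), fun y hy =>
    Subtype.ext (huniq y.1 fun Z q hq => congrArg Subtype.val (hy q hq))⟩

variable (hres : ∀ {E E' : EtOver X} (g : E' ⟶ E) (hE : IsAffine E.obj.left.left) (hE' : IsAffine E'.obj.left.left)
    (s : sec F E), s ∈ P E hE → res F g s ∈ P E' hE')

include hres in
theorem mem_localSub_iff {E : EtOver X} (hE : IsAffine E.obj.left.left) (s : sec F E) :
    s ∈ (localSub F P).obj (op E) ↔ s ∈ P E hE := by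
  refine ⟨fun h => ?_, fun h E' g hE' => hres g hE hE' s h⟩
  have h' := h E (𝟙 E) hE
  rwa [show res F (𝟙 E) s = s by
    change (F.val.map (𝟙 (op E))) s = s
    rw [PresheafOfModules.map_id]; rfl] at h'

include hloc hres in
/-- The quasi-coherent submodule with given sections over affine objects. -/
theorem exists_submodule (hF : BC F)
    (hbc : ∀ {E E' : EtOver X} (g : E' ⟶ E) (hE : IsAffine E.obj.left.left) (hE' : IsAffine E'.obj.left.left)
      (t : sec F E'), t ∈ P E' hE' → t ∈ Submodule.span (Ring E') (res F g '' (P E hE : Set (sec F E)))) :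
    ∃ (F' : ModEt X) (ι : F' ⟶ F), Mono ι ∧ BC F' ∧
      ∀ (E : EtOver X) (hE : IsAffine E.obj.left.left), Set.range (appS ι E) = (P E hE : Set (sec F E)) := by
  let F' : ModEt X := ⟨(localSub F P).toPresheafOfModules, isSheaf_localSub F P hloc⟩
  let ι : F' ⟶ F := ⟨(localSub F P).ι⟩
  haveI : Mono ι := (SheafOfModules.forget _).mono_of_mono_map (f := ι) (inferInstanceAs (Mono (localSub F P).ι))
  have hι : ∀ (E : EtOver X) (y : sec F' E), appS ι E y ∈ (localSub F P).obj (op E) := fun E y => y.2
  have hmem : ∀ (E : EtOver X) (hE : IsAffine E.obj.left.left), Set.range (appS ι E) = (P E hE : Set (sec F E)) :=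
    fun E hE => Set.ext fun s =>
      ⟨fun ⟨y, hy⟩ => hy ▸ (mem_localSub_iff F P hres hE _).1 (hι E y),
        fun h => ⟨⟨s, (mem_localSub_iff F P hres hE s).2 h⟩, rfl⟩⟩
  refine ⟨F', ι, inferInstance, fun E hE => ?_, hmem⟩
  rw [isTilde_iff_evS]
  intro Z hZ
  haveI : IsAffine Z.left.obj.left.left := hZ
  haveI : IsAffine E.obj.left.left := hE
  have e2 := (isTilde_iff_evS F E).1 (hF E hE) Z hZ
  haveI : Module.Flat (Ring E) (Ring Z.left) := RingHom.flat_algebraMap_iff.1 (flat_rho Z.hom)
  have hfT := Module.Flat.lTensor_preserves_injective_linearMap (M := Ring Z.left) _ (injective_appS ι E)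
  refine ⟨(injective_iff_map_eq_zero _).2 fun t ht => hfT (e2.1 ?_), fun y => ?_⟩
  · rw [evS_natural, ht, map_zero, map_zero, map_zero]
  · suffices h : ∃ t, appS ι Z.left (evS F' Z t) = appS ι Z.left y by
      obtain ⟨t, ht⟩ := h
      exact ⟨t, injective_appS ι _ ht⟩
    have key : ∀ s ∈ Submodule.span (Ring Z.left) (res F Z.hom '' (P E hE : Set (sec F E))),
        ∃ t, appS ι Z.left (evS F' Z t) = s := by
      intro s hs
      induction hs using Submodule.span_induction with
      | mem s hs =>
        obtain ⟨r, hr, rfl⟩ := hs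
        obtain ⟨r', rfl⟩ : r ∈ Set.range (appS ι E) := (hmem E hE).symm ▸ hr
        refine ⟨(1 : Ring Z.left) ⊗ₜ[Ring E] r', ?_⟩
        rw [evS_tmul, one_smul, appS_res]
      | zero => exact ⟨0, by rw [map_zero, map_zero]⟩
      | add a b _ _ ha hb =>
        obtain ⟨ta, rfl⟩ := ha
        obtain ⟨tb, rfl⟩ := hb
        exact ⟨ta + tb, by rw [map_add, map_add]⟩
      | smul c a _ ha =>
        obtain ⟨ta, rfl⟩ := ha
        exact ⟨c • ta, by rw [evS_smul, map_smul]⟩
    refine key _ (hbc Z.hom hE hZ _ ?_)
    have : appS ι Z.left y ∈ Set.range (appS ι Z.left) := ⟨y, rfl⟩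
    rwa [hmem Z.left hZ] at this

end Construct

/-- The sections killed by a finitely generated ideal commute with base change. -/
theorem mem_span_of_annihilated (F : ModEt X) (hF : BC F) {E E' : EtOver X} (g : E' ⟶ E)
    [IsAffine E.obj.left.left] [IsAffine E'.obj.left.left] {A : Ideal (Ring E)} (hA : A.FG) (t : sec F E')
    (ht : ∀ a ∈ A, rho g a • t = 0) :
    t ∈ Submodule.span (Ring E') (res F g '' {s : sec F E | ∀ a ∈ A, a • s = 0}) := by
  classical
  obtain ⟨n, a, ha⟩ := Submodule.fg_iff_exists_fin_generating_family.1 hA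
  let Z : Over E := Over.mk g
  haveI : IsAffine Z.left.obj.left.left := ‹IsAffine E'.obj.left.left›
  haveI : Module.Flat (Ring E) (Ring Z.left) := RingHom.flat_algebraMap_iff.1 (flat_rho Z.hom)
  let φ : sec F E →ₗ[Ring E] (Fin n → sec F E) := LinearMap.pi fun i => a i • LinearMap.id
  have e := (isTilde_iff_evS F E).1 (hF E ‹_›) Z ‹_›
  obtain ⟨x, rfl⟩ := e.2 t
  have hx : φ.lTensor (Ring Z.left) x = 0 := by
    refine (TensorProduct.piRight (Ring E) (Ring E) (Ring Z.left) fun _ : Fin n => sec F E).injective (funext fun i => ?_)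
    rw [piRight_proj, map_zero, Pi.zero_apply, ← LinearMap.comp_apply, ← LinearMap.lTensor_comp,
      show LinearMap.proj i ∘ₗ φ = a i • LinearMap.id from rfl, LinearMap.lTensor_smul, LinearMap.lTensor_id,
      LinearMap.smul_apply, LinearMap.id_apply]
    refine e.1 ?_
    rw [map_zero, ← algebraMap_smul (Ring Z.left) (a i) x, evS_smul]
    exact ht (a i) (ha ▸ Submodule.subset_span ⟨i, rfl⟩)
  obtain ⟨y, hy⟩ := ((Module.Flat.lTensor_exact (Ring Z.left) (LinearMap.exact_subtype_ker_map φ)) x).1 hx
  rw [← hy]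
  clear hy hx ht
  induction y using TensorProduct.induction_on with
  | zero => rw [map_zero, map_zero]; exact Submodule.zero_mem _
  | tmul r s =>
    rw [LinearMap.lTensor_tmul, evS_tmul]
    refine Submodule.smul_mem _ _ (Submodule.subset_span ⟨s.1, fun b hb => ?_, rfl⟩)
    have hle : A ≤ LinearMap.ker (LinearMap.toSpanSingleton (Ring E) (sec F E) s.1) := by
      rw [← ha, Submodule.span_le]
      rintro _ ⟨i, rfl⟩
      exact congrFun (LinearMap.mem_ker.1 s.2) i
    exact hle hb
  | add p q hp hq => rw [map_add, map_add]; exact Submodule.add_mem _ hp hq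

/-- The ideal of an ideal sheaf in the lifted ring. -/
def idealRing (I : IdealEt X) (E : EtOver X) (hE : IsAffine E.obj.left.left) : Ideal (Ring E) :=
  (I.ideal E hE).comap (ULift.ringEquiv (R := Γ(E.obj.left.left, ⊤))).toRingHom

/-- The sections annihilated by an ideal sheaf of finite type form a quasi-coherent submodule. -/
theorem exists_annihilated (I : IdealEt X) (hI : I.IsQCoh)
    (hft : ∀ (E : EtOver X) (hE : IsAffine E.obj.left.left), (I.ideal E hE).FG) (F : ModEt X) (hF : BC F) :
    ∃ (F' : ModEt X) (ι : F' ⟶ F), Mono ι ∧ BC F' ∧ ∀ (E : EtOver X) (hE : IsAffine E.obj.left.left),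
      Set.range (appS ι E) = {s : sec F E | ∀ a ∈ I.ideal E hE, upΓ E a • s = 0} := by
  let P : ∀ E : EtOver X, IsAffine E.obj.left.left → Submodule (Ring E) (sec F E) := fun E hE =>
    { carrier := {s | ∀ a ∈ I.ideal E hE, upΓ E a • s = 0}
      add_mem' := fun ha hb a h => by rw [smul_add, ha a h, hb a h, add_zero]
      zero_mem' := fun a h => smul_zero _
      smul_mem' := fun c s hs a h => by
        change (show Ring E from upΓ E a) • c • s = 0
        rw [smul_comm (show Ring E from upΓ E a) c s]
        exact (congrArg (c • ·) (hs a h)).trans (smul_zero _) }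
  have hup : ∀ {E E' : EtOver X} (g : E' ⟶ E) (b : Γ(E.obj.left.left, ⊤)),
      rho g (upΓ E b) = upΓ E' (g.hom.left.left.appTop.hom b) := fun g b => RingHom.congr_fun (rho_eq g) _
  obtain ⟨F', ι, h1, h2, h3⟩ := exists_submodule F P
    (fun E hE n Y g hY hcov s hs a ha => eq_of_cover F Y g hcov _ _ fun i => by
      rw [map_zero, res_smul, hup]
      exact hs i _ (I.map_le (g i) hE (hY i) (Ideal.mem_map_of_mem _ ha)))
    (fun {E E'} g hE hE' s hs a ha => by
      have : (I.ideal E hE).map g.hom.left.left.appTop.hom ≤ annSect (M := F) (E := E') (res F g s) := by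
        rw [Ideal.map_le_iff_le_comap]
        intro b hb
        change upΓ E' _ • res F g s = 0
        rw [← hup]
        exact (res_smul F g _ s).symm.trans ((congrArg (res F g) (hs b hb)).trans (map_zero _))
      exact this (hI g hE hE' ha))
    hF
    (fun {E E'} g hE hE' t ht => by
      haveI := hE
      haveI := hE'
      have hfg : ((I.ideal E hE).map (upΓ E)).FG := (hft E hE).map _
      refine Submodule.span_mono (Set.image_mono ?_) (mem_span_of_annihilated F hF g hfg t ?_)
      · exact fun s hs a ha => hs _ (Ideal.mem_map_of_mem _ ha)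
      · intro b hb
        obtain ⟨a, ha, rfl⟩ := (Ideal.mem_map_iff_of_surjective (upΓ E) (ULift.ringEquiv (R := Γ(E.obj.left.left, ⊤))).symm.surjective).1 hb
        refine (congrArg (· • t) (hup g a)).trans ?_
        exact ht _ (I.map_le g hE hE' (Ideal.mem_map_of_mem _ ha)))
  exact ⟨F', ι, h1, h2, h3⟩

end ModEtQc
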