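import Mathlib.Algebra.Category.ModuleCat.Sheaf.Quasicoherent
import Mathlib.Algebra.Category.ModuleCat.Sheaf.PushforwardContinuous

/-!
# Presentations of objects corepresenting a direct image
-/

set_option autoImplicit false
set_option backward.isDefEq.respectTransparency false
set_option backward.isDefEq.respectTransparency.types false
open CategoryTheory CategoryTheory.Limits Opposite

noncomputable section

namespace ModEtQc

section Adj

universe v₁ v₂ v₃ v₄ u₁ u₂ u₃ u₄
variable {A : Type u₁} [Category.{v₁} A] {B : Type u₂} [Category.{v₂} B] {A' : Type u₃} [Category.{v₃} A']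
  {B' : Type u₄} [Category.{v₄} B'] {LA : A ⥤ A'} {RA : A' ⥤ A} {L : B ⥤ A} {R : A ⥤ B} {LB : B ⥤ B'}
  {RB : B' ⥤ B} {q : A' ⥤ B'}

/-- Base change of adjunctions on morphisms. -/
def squareEquiv (adjA : LA ⊣ RA) (adj : L ⊣ R) (adjB : LB ⊣ RB) (e : RA ⋙ R ≅ q ⋙ RB) (G : B) (H : A') :
    (LA.obj (L.obj G) ⟶ H) ≃ (LB.obj G ⟶ q.obj H) :=
  (adjA.homEquiv _ H).trans ((adj.homEquiv G _).trans
    ((Iso.homToEquiv (e.app H)).trans (adjB.homEquiv G _).symm))

theorem squareEquiv_comp (adjA : LA ⊣ RA) (adj : L ⊣ R) (adjB : LB ⊣ RB) (e : RA ⋙ R ≅ q ⋙ RB) (G : B) {H H' : A'}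
    (k : LA.obj (L.obj G) ⟶ H) (h : H ⟶ H') :
    squareEquiv adjA adj adjB e G H' (k ≫ h) = squareEquiv adjA adj adjB e G H k ≫ q.map h := by
  have h1 := e.hom.naturality h
  simp only [squareEquiv, Equiv.trans_apply, Iso.homToEquiv_apply, Iso.app_hom, Functor.comp_obj]
  rw [← Adjunction.homEquiv_naturality_right_symm, Adjunction.homEquiv_naturality_right,
    Adjunction.homEquiv_naturality_right, Category.assoc, Category.assoc]
  congr 2

end Adj

universe w v₁ v₂ u₁ u₂

variable {C : Type u₁} [Category.{v₁} C] {D : Type u₂} [Category.{v₂} D] {J : GrothendieckTopology C}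
  {K : GrothendieckTopology D} {F : C ⥤ D} {S : Sheaf J RingCat.{w}} {R : Sheaf K RingCat.{w}}
  [Functor.IsContinuous F J K] (φ : S ⟶ (F.sheafPushforwardContinuous RingCat.{w} J K).obj R)
  {t : C} (ht : IsTerminal t) (hFt : IsTerminal (F.obj t))

/-- Global sections of a direct image. -/
def sectPush (H : SheafOfModules.{w} R) : H.sections ≃ ((SheafOfModules.pushforward.{w} φ).obj H).sections where
  toFun s := PresheafOfModules.sectionsMk (fun Z => s.1 (op (F.obj Z.unop)))
    (fun {Z Z'} g => s.2 (F.map g.unop).op)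
  invFun x := PresheafOfModules.sectionsMk (fun W => H.val.map (hFt.from W.unop).op (x.1 (op t)))
    (fun {W₁ W₂} g => by
      refine (PresheafOfModules.map_comp_apply H.val (hFt.from W₁.unop).op g (x.1 (op t))).symm.trans ?_
      rw [show (hFt.from W₁.unop).op ≫ g = (hFt.from W₂.unop).op from Quiver.Hom.unop_inj (hFt.hom_ext _ _)])
  left_inv s := Subtype.ext (funext fun W => s.2 (hFt.from W.unop).op)
  right_inv x := Subtype.ext (funext fun Z => by
    refine Eq.trans ?_ (x.2 (ht.from Z.unop).op)
    change H.val.map (hFt.from (F.obj Z.unop)).op (x.1 (op t)) = H.val.map (F.map (ht.from Z.unop)).op (x.1 (op t))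
    rw [hFt.hom_ext (hFt.from (F.obj Z.unop)) (F.map (ht.from Z.unop))])

variable [HasWeakSheafify J AddCommGrpCat.{w}] [J.WEqualsLocallyBijective AddCommGrpCat.{w}]
  [HasWeakSheafify K AddCommGrpCat.{w}] [K.WEqualsLocallyBijective AddCommGrpCat.{w}]

/-- Morphisms out of a free module. -/
def freePush (I : Type w) (H : SheafOfModules.{w} R) :
    (SheafOfModules.free I ⟶ H) ≃ (SheafOfModules.free I ⟶ (SheafOfModules.pushforward.{w} φ).obj H) :=
  (SheafOfModules.freeHomEquiv H).trans ((Equiv.arrowCongr (Equiv.refl I) (sectPush φ ht hFt H)).trans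
    (SheafOfModules.freeHomEquiv _).symm)

theorem freePush_comp (I : Type w) {H H' : SheafOfModules.{w} R} (k : SheafOfModules.free I ⟶ H) (h : H ⟶ H') :
    freePush φ ht hFt I H' (k ≫ h) = freePush φ ht hFt I H k ≫ (SheafOfModules.pushforward.{w} φ).map h := by
  refine (SheafOfModules.freeHomEquiv _).injective (funext fun i => ?_)
  rw [SheafOfModules.freeHomEquiv_comp_apply]
  simp only [freePush, Equiv.trans_apply, Equiv.apply_symm_apply]
  rfl

theorem freePush_zero (I : Type w) (H : SheafOfModules.{w} R) : freePush φ ht hFt I H 0 = 0 := by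
  refine (SheafOfModules.freeHomEquiv _).injective (funext fun i => ?_)
  simp only [freePush, Equiv.trans_apply, Equiv.apply_symm_apply]
  rfl

variable [HasSheafify J AddCommGrpCat.{w}] [HasSheafify K AddCommGrpCat.{w}]

include ht hFt in
/-- An object corepresenting the direct image of homs out of a presented object is presented. -/
theorem exists_presentation_of_corep {N : SheafOfModules.{w} S} (P : N.Presentation) (M : SheafOfModules.{w} R)
    (e : ∀ H, (M ⟶ H) ≃ (N ⟶ (SheafOfModules.pushforward.{w} φ).obj H))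
    (he : ∀ {H H'} (k : M ⟶ H) (h : H ⟶ H'), e H' (k ≫ h) = e H k ≫ (SheafOfModules.pushforward.{w} φ).map h) :
    Nonempty M.Presentation := by
  let q := SheafOfModules.pushforward.{w} φ
  let β := freePush φ ht hFt
  let a := (SheafOfModules.freeHomEquiv _).symm P.relations.s ≫ kernel.ι P.generators.π
  let η := e M (𝟙 M)
  let γ := β P.generators.I _ (𝟙 _)
  let b := (β P.relations.I _).symm (a ≫ γ)
  let g := (β P.generators.I _).symm (P.generators.π ≫ η)
  have hγ : ∀ {H} (x : SheafOfModules.free P.generators.I ⟶ H), γ ≫ q.map x = β _ H x := fun {H} x =>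
    (freePush_comp φ ht hFt _ (𝟙 _) x).symm.trans (by rw [Category.id_comp])
  have hb : ∀ {H} (x : SheafOfModules.free P.generators.I ⟶ H), β _ H (b ≫ x) = a ≫ β _ H x := fun {H} x => by
    rw [freePush_comp, Equiv.apply_symm_apply, Category.assoc, hγ]
  have hη : ∀ {H} (k : M ⟶ H), η ≫ q.map k = e H k := fun {H} k => (he (𝟙 M) k).symm.trans (by rw [Category.id_comp])
  have hg : ∀ {H} (k : M ⟶ H), β _ H (g ≫ k) = P.generators.π ≫ e H k := fun {H} k => by
    rw [freePush_comp, Equiv.apply_symm_apply, Category.assoc, hη]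
  have ha : a ≫ P.generators.π = 0 := by rw [Category.assoc, kernel.condition, comp_zero]
  have hbg : b ≫ g = 0 := (β _ _).injective (by
    rw [hb, Equiv.apply_symm_apply, ← Category.assoc, ha, zero_comp, freePush_zero])
  refine ⟨SheafOfModules.presentationOfIsCokernelFree b g hbg ?_⟩
  have hd : ∀ {H} (x : SheafOfModules.free P.generators.I ⟶ H) (_ : b ≫ x = 0), ∃ k : M ⟶ H, g ≫ k = x := by
    intro H x hx
    obtain ⟨y, hy⟩ := CokernelCofork.IsColimit.desc' P.isColimit (β _ H x)
      (by rw [← hb, hx, freePush_zero])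
    refine ⟨(e H).symm y, (β _ H).injective ?_⟩
    rw [hg, Equiv.apply_symm_apply]
    exact hy
  choose d hd using @hd
  refine CokernelCofork.IsColimit.ofπ g hbg (fun x hx => d x hx) (fun x hx => hd x hx) fun x hx m hm =>
    (e _).injective ?_
  haveI : Epi P.generators.π := P.generators.epi
  rw [← cancel_epi P.generators.π, ← hg, ← hg, hm, hd x hx]

end ModEtQc
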