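import Groth.Agent.ModEtQcLib.EtalePull
import Groth.Agent.ModEtQcLib.Corep
import Mathlib.Algebra.Category.ModuleCat.Sheaf.Quasicoherent
import Mathlib.CategoryTheory.Limits.Preserves.Shapes.BinaryProducts

/-!
# The pullback of a quasi-coherent module along a representable morphism is quasi-coherent
-/

set_option autoImplicit false
set_option backward.isDefEq.respectTransparency false
set_option backward.isDefEq.respectTransparency.types false
universe u
open CategoryTheory CategoryTheory.Limits AlgebraicGeometry Opposite AlgSp TopologicalSpace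

noncomputable section

namespace ModEtQc

variable {S : Scheme.{u}} {X Y : Sp S} {f : X ⟶ Y} (hf : Representable f)

theorem coverPreserving_bc : CoverPreserving (etTop Y) (etTop X) (EtOver.bc hf) where
  cover_preserve {U R} hR := by
    rw [etTop, Precoverage.mem_toGrothendieck_iff_of_isStableUnderComposition] at hR
    obtain ⟨P, hP, hle⟩ := hR
    obtain ⟨ι, Z, g, rfl⟩ := P.exists_eq_ofArrows
    have h := EtOver.etPre_le_comap_bc hf U hP
    rw [Precoverage.mem_comap_iff, Presieve.map_ofArrows] at h
    refine (etTop X).superset_covering ?_ (ofArrows_mem_etTop _ _ ((ofArrows_mem_etPre_iff _ _).1 h))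
    rw [Sieve.generate_le_iff]
    intro P q hq
    obtain ⟨i⟩ := hq
    exact Sieve.image_mem_functorPushforward (EtOver.bc hf) R (hle _ _ (Presieve.ofArrows.mk i))

instance preservesOneHypercovers_bc :
    Functor.PreservesOneHypercovers.{u + 1} (EtOver.bc hf) (etTop Y) (etTop X) :=
  Functor.PreservesOneHypercovers.of_coverPreserving (coverPreserving_bc hf)

theorem isContinuous_post (V : EtOver Y) :
    (Over.post (X := V) (EtOver.bc hf)).IsContinuous ((etTop Y).over V) ((etTop X).over _) :=
  inferInstance

/-- Base change preserves binary products. -/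
theorem preservesProd (V Z : EtOver Y) : PreservesLimit (pair V Z) (EtOver.bc hf) := by
  refine preservesLimit_of_preserves_limit_cone (EtOver.prodIsLimit V Z)
    ((isLimitMapConeBinaryFanEquiv _ _ _).symm ?_)
  have hagree : ∀ {T : EtOver X} (a : T ⟶ EtOver.bcObj hf V) (b : T ⟶ EtOver.bcObj hf Z),
      (yon S).map (b.hom.left ≫ hf.snd Z.obj.hom) ≫ Z.obj.hom =
        (yon S).map (a.hom.left ≫ hf.snd V.obj.hom) ≫ V.obj.hom := fun a b => by
    rw [Functor.map_comp, Functor.map_comp, Category.assoc, Category.assoc, ← hf.w, ← hf.w, ← Category.assoc,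
      ← Category.assoc]
    exact congrArg (· ≫ f) ((EtOver.w b).trans (EtOver.w a).symm)
  let l : ∀ {T : EtOver X} (a : T ⟶ EtOver.bcObj hf V) (b : T ⟶ EtOver.bcObj hf Z),
      T.obj.left ⟶ (EtOver.prodObj V Z).obj.left := fun a b =>
    Z.property.1.lift' (b.hom.left ≫ hf.snd Z.obj.hom) (a.hom.left ≫ hf.snd V.obj.hom) (hagree a b)
  refine BinaryFan.IsLimit.mk _ (fun {T} a b => EtOver.homMk (hf.lift T.obj.hom (l a b) ?_) (hf.lift_fst _ _ _)) ?_ ?_ ?_
  · change T.obj.hom ≫ f = (yon S).map (l a b) ≫ (yon S).map (Z.property.1.snd V.obj.hom) ≫ V.obj.hom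
    rw [← Category.assoc, ← Functor.map_comp]
    erw [Functor.relativelyRepresentable.lift'_snd]
    rw [Functor.map_comp, Category.assoc, ← hf.w, ← Category.assoc]
    exact congrArg (· ≫ f) (EtOver.w a).symm
  · intro T a b
    refine EtOver.hom_ext _ _ (hf.hom_ext ?_ ?_)
    · exact (EtOver.w _).trans (EtOver.w a).symm
    · change (_ ≫ (EtOver.bcMap hf (EtOver.prodFst V Z)).hom.left) ≫ _ = a.hom.left ≫ _
      rw [Category.assoc, EtOver.bcMap_snd, ← Category.assoc]
      refine (congrArg (· ≫ (EtOver.prodFst V Z).hom.left) (hf.lift_snd _ _ _)).trans ?_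
      exact Functor.relativelyRepresentable.lift'_snd _ _ _ _
  · intro T a b
    refine EtOver.hom_ext _ _ (hf.hom_ext ?_ ?_)
    · exact (EtOver.w _).trans (EtOver.w b).symm
    · change (_ ≫ (EtOver.bcMap hf (EtOver.prodSnd V Z)).hom.left) ≫ _ = b.hom.left ≫ _
      rw [Category.assoc, EtOver.bcMap_snd, ← Category.assoc]
      refine (congrArg (· ≫ (EtOver.prodSnd V Z).hom.left) (hf.lift_snd _ _ _)).trans ?_
      exact Functor.relativelyRepresentable.lift'_fst _ _ _ _
  · intro T a b m h₁ h₂
    refine EtOver.hom_ext _ _ (hf.hom_ext ((EtOver.w m).trans (hf.lift_fst _ _ _).symm) ?_)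
    refine Eq.trans ?_ (hf.lift_snd _ _ _).symm
    refine Functor.relativelyRepresentable.hom_ext' _ ?_ ?_
    · refine Eq.trans ?_ (Functor.relativelyRepresentable.lift'_fst _ _ _ _).symm
      rw [← h₂]
      change (m.hom.left ≫ _) ≫ (EtOver.prodSnd V Z).hom.left =
        (m.hom.left ≫ (EtOver.bcMap hf (EtOver.prodSnd V Z)).hom.left) ≫ _
      rw [Category.assoc, Category.assoc, EtOver.bcMap_snd]
    · refine Eq.trans ?_ (Functor.relativelyRepresentable.lift'_snd _ _ _ _).symm
      rw [← h₁]
      change (m.hom.left ≫ _) ≫ (EtOver.prodFst V Z).hom.left =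
        (m.hom.left ≫ (EtOver.bcMap hf (EtOver.prodFst V Z)).hom.left) ≫ _
      rw [Category.assoc, Category.assoc, EtOver.bcMap_snd]

variable (V : EtOver Y)

/-- Base change on slices. -/
abbrev postBc : Over V ⥤ Over ((EtOver.bc hf).obj V) := Over.post (EtOver.bc hf)

/-- The comparison of structure sheaves on slices. -/
def overRingHom : (OEtRing Y).over V ⟶
    ((postBc hf V).sheafPushforwardContinuous RingCat.{u + 1} ((etTop Y).over V) ((etTop X).over _)).obj
      ((OEtRing X).over ((EtOver.bc hf).obj V)) :=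
  ((Over.forget V).sheafPushforwardContinuous RingCat.{u + 1} ((etTop Y).over V) (etTop Y)).map (bcRingHom hf)

/-- Direct image on slices. -/
abbrev pushOver := SheafOfModules.pushforward.{u + 1} (overRingHom hf V)

/-- Base change and the slices. -/
def starIso : Over.star V ⋙ postBc hf V ≅ EtOver.bc hf ⋙ Over.star ((EtOver.bc hf).obj V) :=
  NatIso.ofComponents
    (fun Z =>
      haveI := preservesProd hf V Z
      Over.isoMk (asIso (prodComparison (EtOver.bc hf) V Z)) (by
        change prodComparison (EtOver.bc hf) V Z ≫ ((Over.star ((EtOver.bc hf).obj V)).obj ((EtOver.bc hf).obj Z)).hom =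
          (EtOver.bc hf).map ((Over.star V).obj Z).hom
        simp))
    (fun {Z Z'} g => Over.OverMorphism.ext (by
      refine Limits.prod.hom_ext ?_ ?_ <;> simp [prodComparison, ← Functor.map_comp]))

/-- Base change for the direct image from slices. -/
def baseIso : SheafOfModules.pushforward.{u + 1} (SheafOfModules.pushforwardOver (R := OEtRing X) ((EtOver.bc hf).obj V)) ⋙
      pushModEt hf ≅
    pushOver hf V ⋙ SheafOfModules.pushforward.{u + 1} (SheafOfModules.pushforwardOver (R := OEtRing Y) V) :=
  haveI : (EtOver.bc hf ⋙ Over.star ((EtOver.bc hf).obj V)).IsContinuous (etTop Y) ((etTop X).over _) :=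
    Functor.isContinuous_comp _ _ _ (etTop X) _
  haveI : (Over.star V ⋙ postBc hf V).IsContinuous (etTop Y) ((etTop X).over _) :=
    Functor.isContinuous_comp _ _ _ ((etTop Y).over V) _
  SheafOfModules.pushforwardComp _ _ ≪≫ SheafOfModules.pushforwardCongr₂ _ (starIso hf V) (by
    ext Z : 3
    haveI := preservesProd hf V Z.unop
    change ((BigSite.ORing Scheme.etalePrecoverage S).obj.map _ ≫ (BigSite.ORing Scheme.etalePrecoverage S).obj.map _) ≫
        (BigSite.ORing Scheme.etalePrecoverage S).obj.map _ =
      (BigSite.ORing Scheme.etalePrecoverage S).obj.map _ ≫ (BigSite.ORing Scheme.etalePrecoverage S).obj.map _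
    rw [← Functor.map_comp, ← Functor.map_comp, ← Functor.map_comp]
    refine congrArg (BigSite.ORing Scheme.etalePrecoverage S).obj.map (Quiver.Hom.unop_inj ?_)
    have e := congrArg (fun k => k.hom.left)
      (prodComparison_snd (EtOver.bc hf) (A := V) (B := Z.unop))
    exact ((Category.assoc _ _ _).symm.trans (congrArg (· ≫ hf.snd _) e)).trans (EtOver.bcMap_snd hf _))
    ≪≫ (SheafOfModules.pushforwardComp _ _).symm

section Hom

variable [(SheafOfModules.pushforward.{u + 1} (bcRingHom hf)).IsRightAdjoint] (G : ModEt Y)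

/-- A presentation pulls back. -/
theorem exists_presentation_pull (P : (G.over V).Presentation) :
    Nonempty (((pullModEt hf).obj G).over ((EtOver.bc hf).obj V)).Presentation :=
  exists_presentation_of_corep (overRingHom hf V) Over.mkIdTerminal
    (IsTerminal.ofIso Over.mkIdTerminal (Over.isoMk (Iso.refl _) ((Category.id_comp _).trans ((EtOver.bc hf).map_id V))))
    P _
    (squareEquiv (SheafOfModules.overPushforwardOverAdj _) (pullPushAdjModEt hf)
      (SheafOfModules.overPushforwardOverAdj V) (baseIso hf V) G)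
    (squareEquiv_comp _ _ _ _ G)

/-- Pullback preserves quasi-coherence. -/
theorem isQuasicoherent_pull (hY : IsAlgSpace Y) [G.IsQuasicoherent] : ((pullModEt hf).obj G).IsQuasicoherent := by
  obtain ⟨σ⟩ := SheafOfModules.IsQuasicoherent.nonempty_quasicoherentData (M := G)
  have P := fun i => exists_presentation_pull hf (σ.X i) G (σ.presentation i)
  suffices hc : (etTop X).CoversTop (fun i => (EtOver.bc hf).obj (σ.X i)) from
    SheafOfModules.QuasicoherentData.isQuasicoherent (M := (pullModEt hf).obj G)
      { I := σ.I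
        X := fun i => (EtOver.bc hf).obj (σ.X i)
        coversTop := hc
        presentation := fun i => (P i).some }
  intro E
  obtain ⟨U, p, hp, hps⟩ := hY.atlas
  let V₀ : EtOver Y := EtOver.mk p hp
  let W₀ := (EtOver.bc hf).obj V₀
  have hW : RepWith @Surjective W₀.obj.hom :=
    (repWith_isStableUnderBaseChange (S := S) @Surjective).of_isPullback (hf.isPullback p).flip hps
  have hsurj : Surjective (EtOver.prodFst E W₀).hom.left.left :=
    ((repWith_iff @Surjective W₀.obj.hom).1 hW).2 E.obj.hom _ _ (W₀.property.1.isPullback E.obj.hom)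
  refine (etTop X).transitive (ofArrows_mem_etTop (fun _ : PUnit.{1} => EtOver.prodObj E W₀)
    (fun _ => EtOver.prodFst E W₀) (fun x => ⟨⟨⟩, hsurj.surj x⟩) : Sieve.ofArrows _ _ ∈ etTop X E) _ ?_
  rintro Z k ⟨P', a, b, ⟨_⟩, rfl⟩
  refine (etTop X).superset_covering ?_ ((etTop X).pullback_stable (a ≫ EtOver.prodSnd E W₀)
    ((coverPreserving_bc hf).cover_preserve (σ.coversTop V₀)))
  rintro T t ⟨Q, q, c, ⟨i, ⟨j⟩⟩, -⟩
  exact ⟨i, ⟨c ≫ (EtOver.bc hf).map j⟩⟩

end Hom

end ModEtQc
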