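import Groth.Agent.ModEtQcLib.PushFinite
import Groth.Agent.ModEtQcLib.Pullback
import Groth.Agent.ModEtQcLib.Sub
import Groth.Agent.ModEtQcLib.Submod
import Mathlib.CategoryTheory.Adjunction.AdjointFunctorTheorems
import Mathlib.Algebra.Category.ModuleCat.Sheaf.Limits
import Mathlib.AlgebraicGeometry.Morphisms.ClosedImmersion

/-!
# Quasi-coherent modules annihilated by the ideal of a closed subspace

* `isRightAdjoint_push`: the direct image of modules has a left adjoint.
* `exists_iso_push_of_annihilated`: essential image of the direct image along a closed immersion.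
-/

set_option autoImplicit false
set_option backward.isDefEq.respectTransparency false
set_option backward.isDefEq.respectTransparency.types false
universe u
open CategoryTheory CategoryTheory.Limits AlgebraicGeometry Opposite AlgSp TopologicalSpace

noncomputable section

namespace ModEtQc

variable {S : Scheme.{u}} {X Y : Sp S} {f : X ⟶ Y} (hf : Representable f)

/-- The underlying presheaves of abelian groups. -/
abbrev toPre (X : Sp S) : ModEt X ⥤ (EtOver X)ᵒᵖ ⥤ AddCommGrpCat.{u + 1} :=
  SheafOfModules.forget (OEtRing X) ⋙ PresheafOfModules.toPresheaf _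

theorem isRightAdjoint_push : (SheafOfModules.pushforward.{u + 1} (bcRingHom hf)).IsRightAdjoint := by
  haveI := isGrothendieckAbelian_modEt (X := X)
  haveI : ReflectsLimitsOfSize.{u + 1, u + 1} (toPre Y) := reflectsLimits_of_reflectsIsomorphisms
  haveI : PreservesLimitsOfSize.{u + 1, u + 1} (pushModEt hf ⋙ toPre Y) :=
    preservesLimits_of_natIso (Iso.refl (toPre X ⋙ (Functor.whiskeringLeft _ _ _).obj (EtOver.bc hf).op))
  haveI : PreservesLimitsOfSize.{u + 1, u + 1} (pushModEt hf) :=
    preservesLimits_of_reflects_of_preserves _ (toPre Y)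
  obtain ⟨G, hG⟩ := HasCoseparator.hasCoseparator (C := ModEt X)
  exact isRightAdjoint_of_preservesLimits_of_isCoseparating.{u + 1} (P := ObjectProperty.singleton G) hG _

theorem isIso_of_bijective_appS {F G : ModEt X} (φ : F ⟶ G)
    (h : ∀ E : EtOver X, IsAffine E.obj.left.left → Function.Bijective (appS φ E)) : IsIso φ := by
  have hinj : ∀ E, Function.Injective (appS φ E) := fun E s t hst => by
    obtain ⟨ι, Y, g, hY, hc⟩ := exists_affine_cover E
    refine eq_of_cover F Y g hc s t fun i => (h _ (hY i)).1 ?_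
    rw [appS_res, appS_res, hst]
  haveI : ∀ Z, Mono (((toPre X).map φ).app Z) := fun Z => (AddCommGrpCat.mono_iff_injective _).2 (hinj Z.unop)
  haveI : Mono φ := (toPre X).mono_of_mono_map (f := φ) (NatTrans.mono_of_mono_app _)
  refine isIso_of_locally_surjective φ fun E s => ?_
  obtain ⟨ι, Y, g, hY, hc⟩ := exists_affine_cover E
  exact ⟨ULift.{u + 1} ι, fun i => Y i.down, fun i => g i.down, fun x => ⟨⟨(hc x).choose⟩, (hc x).choose_spec⟩,
    fun i => (h _ (hY i.down)).2 _⟩

theorem map_inv_counit_homEquiv {C D : Type*} [Category C] [Category D] {L : C ⥤ D} {R : D ⥤ C} (adj : L ⊣ R)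
    {M H : D} [IsIso (adj.counit.app M)] (φ : R.obj M ⟶ R.obj H) :
    R.map (inv (adj.counit.app M) ≫ (adj.homEquiv (R.obj M) H).symm φ) = φ := by
  rw [R.map_comp, R.map_inv, IsIso.inv_comp_eq]
  have h := adj.right_triangle_components M
  haveI : IsIso (adj.unit.app (R.obj M)) := by
    rw [show adj.unit.app (R.obj M) = inv (R.map (adj.counit.app M)) from IsIso.eq_inv_of_inv_hom_id h]
    infer_instance
  rw [← cancel_epi (adj.unit.app (R.obj M)), adj.right_triangle_components_assoc]
  exact (adj.homEquiv_unit (X := R.obj M) (Y := H) (f := (adj.homEquiv (R.obj M) H).symm φ)).symm.trans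
    ((adj.homEquiv (R.obj M) H).apply_symm_apply φ)

theorem appP_eq_zero {M : ModEt X} {W : EtOver X} {H : ModEtOn W} (k : M.over W ⟶ H) (h : W ⟶ W) (hh : h = 𝟙 W)
    (n : sec M W) (h0 : appP k.val (top W) n = 0) : appP k.val (Over.mk h) n = 0 := by
  subst hh
  exact h0

section Unit

variable [(SheafOfModules.pushforward.{u + 1} (bcRingHom hf)).IsRightAdjoint] (G : ModEt Y) (E : EtOver Y)

/-- The unit of pullback and direct image on sections. -/
def unitS : sec G E →+ sec ((pullModEt hf).obj G) (EtOver.bcObj hf E) :=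
  AddMonoidHom.mk' (fun m => appS ((pullPushAdjModEt hf).unit.app G) E m)
    (fun a b => map_add (appS ((pullPushAdjModEt hf).unit.app G) E) a b)

theorem unitS_smul (r : Ring E) (m : sec G E) : unitS hf G E (r • m) = bcRho hf E r • unitS hf G E m :=
  (map_smul (appS ((pullPushAdjModEt hf).unit.app G) E) r m).trans rfl

/-- Morphisms out of the restricted pullback. -/
def pullOverEquiv (H : ModEtOn ((EtOver.bc hf).obj E)) :
    (((pullModEt hf).obj G).over ((EtOver.bc hf).obj E) ⟶ H) ≃ (G.over E ⟶ (pushOver hf E).obj H) :=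
  squareEquiv (SheafOfModules.overPushforwardOverAdj _) (pullPushAdjModEt hf)
    (SheafOfModules.overPushforwardOverAdj E) (baseIso hf E) G H

/-- The equivalence is composition with the unit. -/
theorem pullOverEquiv_top (H : ModEtOn ((EtOver.bc hf).obj E))
    (k : ((pullModEt hf).obj G).over ((EtOver.bc hf).obj E) ⟶ H) (m : sec G E) :
    appP (pullOverEquiv hf G E H k).val (top E) m = appP k.val ((postBc hf E).obj (top E)) (unitS hf G E m) := by
  let W := (EtOver.bc hf).obj E
  let n := unitS hf G E m
  let α := (postBc hf E).map ((Over.forgetAdjStar E).unit.app (top E)) ≫ (starIso hf E).hom.app E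
  change H.val.map ((postBc hf E).map ((Over.forgetAdjStar E).unit.app (top E))).op
    (H.val.map ((starIso hf E).hom.app E).op
      (k.val.app (op ((Over.star W).obj W))
        ((((pullModEt hf).obj G)).val.map ((Over.forgetAdjStar W).counit.app W).op n))) = _
  refine (PresheafOfModules.map_comp_apply H.val ((starIso hf E).hom.app E).op
    ((postBc hf E).map ((Over.forgetAdjStar E).unit.app (top E))).op _).symm.trans ?_
  refine (PresheafOfModules.naturality_apply k.val α.op _).symm.trans (congrArg (appP k.val _) ?_)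
  refine (PresheafOfModules.map_comp_apply ((pullModEt hf).obj G).val
    ((Over.forgetAdjStar W).counit.app W).op α.left.op n).symm.trans ?_
  refine (res_congr _ (g := α.left ≫ (Over.forgetAdjStar W).counit.app W) (g' := 𝟙 W) ?_ n).trans ?_
  · haveI := preservesProd hf E E
    change ((EtOver.bc hf).map ((Over.forgetAdjStar E).unit.app (top E)).left ≫
      prodComparison (EtOver.bc hf) E E) ≫ _ = _
    rw [Over.forgetAdjStar_counit_app, Over.forgetAdjStar_unit_app_left, Category.assoc]
    erw [prodComparison_snd]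
    rw [← Functor.map_comp]
    erw [prod.lift_snd]
    exact (EtOver.bc hf).map_id E
  · exact congrArg (fun q => q n) (((pullModEt hf).obj G).val.presheaf.map_id (op W))

/-- A morphism out of a tilde module vanishes if it does so on global sections. -/
theorem eq_zero_of_top {E₀ : EtOver Y} {M H : ModEtOn E₀} (hM : IsTilde M) (τ : M ⟶ H)
    (h : ∀ m, appP τ.val (top E₀) m = 0) : τ = 0 := by
  haveI := isIso_counit_of_isTilde hM
  haveI := (tildeF E₀).preservesZeroMorphisms_of_isLeftAdjoint
  rw [← cancel_epi ((tildeAdj E₀).counit.app M)]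
  refine (((tildeAdj E₀).counit.naturality τ).symm.trans ?_).trans comp_zero.symm
  change (tildeF E₀).map ((Γt E₀).map τ) ≫ _ = 0
  rw [show (Γt E₀).map τ = 0 from ModuleCat.hom_ext (LinearMap.ext h), Functor.map_zero, zero_comp]

variable {hf G E}

/-- The unit is injective if the module is annihilated by the kernel of a surjective comparison. -/
theorem injective_unitS [IsAffine E.obj.left.left] [IsAffine (EtOver.bcObj hf E).obj.left.left] (hG : BC G)
    (hs : Function.Surjective (bcRho hf E)) (h0 : ∀ r, bcRho hf E r = 0 → ∀ m : sec G E, r • m = 0) :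
    Function.Injective (unitS hf G E) := by
  let B := Ring (EtOver.bcObj hf E)
  haveI : IsAffine ((EtOver.bc hf).obj E).obj.left.left := ‹IsAffine (EtOver.bcObj hf E).obj.left.left›
  have hwd : ∀ r r' : Ring E, bcRho hf E r = bcRho hf E r' → ∀ m : sec G E, r • m = r' • m := fun r r' h m =>
    sub_eq_zero.1 (by rw [← sub_smul]; exact h0 _ (by rw [map_sub, h, sub_self]) m)
  letI : SMul B (sec G E) := ⟨fun b m => Function.surjInv hs b • m⟩
  have hsm : ∀ (r : Ring E) (m : sec G E), (bcRho hf E r : B) • m = r • m := fun r m =>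
    hwd _ _ (Function.surjInv_eq hs _) m
  letI : Module B (sec G E) := Function.Surjective.moduleLeft (bcRho hf E) hs hsm
  let P : ModuleCat.{u + 1} B := ModuleCat.of B (sec G E)
  haveI := isIso_unit (E₀ := (EtOver.bc hf).obj E)
  haveI : IsIso ((tildeAdj E).counit.app (G.over E)) := isIso_counit_of_isTilde (hG E ‹_›)
  let W' := (postBc hf E).obj (top E)
  let H : ModEtOn ((EtOver.bc hf).obj E) := (tildeF _).obj P
  let η : P ≅ (Γt _).obj H := asIso ((tildeAdj ((EtOver.bc hf).obj E)).unit.app P)
  have hW : W'.hom = 𝟙 _ := (Category.id_comp _).trans ((EtOver.bc hf).map_id E)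
  let j : top ((EtOver.bc hf).obj E) ⟶ W' :=
    Over.homMk (𝟙 _) (by rw [hW]; exact Category.comp_id _)
  let ℓ : sec G E →ₗ[Ring E] secP ((pushOver hf E).obj H).val (top E) :=
    { toFun := fun m => resP H.val (toTop W') (η.hom m)
      map_add' := fun a b => (congrArg (resP H.val (toTop W')) (map_add η.hom.hom a b)).trans (map_add _ _ _)
      map_smul' := fun r m => by
        refine Eq.trans ?_ (show (bcRho hf E r : Ring W'.left) • resP H.val (toTop W') (η.hom m) = _ from rfl)
        refine ((congrArg (resP H.val (toTop W')) ((congrArg η.hom (hsm r m)).symm.trans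
          (map_smul η.hom.hom (bcRho hf E r : B) m))).trans (resP_smul H.val _ _ _)).trans
            (congrArg (· • resP H.val (toTop W') (η.hom m)) ?_)
        change rho W'.hom _ = _
        rw [hW]
        exact RingHom.congr_fun (rho_id _) _ }
  have hℓ : Function.Injective ℓ := fun a b hab => by
    have e : ∀ x, resP H.val j (resP H.val (toTop W') x) = x := fun x =>
      ((resP_comp H.val (toTop W') j x).symm.trans
        (resP_congr H.val (show j ≫ toTop W' = 𝟙 _ from Over.OverMorphism.ext
          ((Category.id_comp _).trans hW)) x)).trans (resP_id H.val x)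
    have := congrArg (resP H.val j) (show resP H.val (toTop W') (η.hom a) = resP H.val (toTop W') (η.hom b) from hab)
    rw [e, e] at this
    exact (ModuleCat.mono_iff_injective η.hom).1 inferInstance this
  let τ : G.over E ⟶ (pushOver hf E).obj H :=
    inv ((tildeAdj E).counit.app (G.over E)) ≫ ((tildeAdj E).homEquiv _ _).symm (ModuleCat.ofHom ℓ)
  have hτ : (Γt E).map τ = ModuleCat.ofHom ℓ := map_inv_counit_homEquiv (tildeAdj E) _
  intro a b hab
  refine hℓ ?_
  have := fun m => pullOverEquiv_top hf G E H ((pullOverEquiv hf G E H).symm τ) m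
  simp only [Equiv.apply_symm_apply] at this
  have hv : ∀ m, ℓ m = appP τ.val (top E) m := fun m => (congrArg (fun φ => φ m) hτ).symm
  rw [hv, hv, this, this, hab]

/-- The unit is surjective for surjective comparisons. -/
theorem surjective_unitS [IsAffine E.obj.left.left] [IsAffine (EtOver.bcObj hf E).obj.left.left] (hG : BC G)
    (hP : BC ((pullModEt hf).obj G)) (hs : Function.Surjective (bcRho hf E)) : Function.Surjective (unitS hf G E) := by
  let W := (EtOver.bc hf).obj E
  haveI : IsAffine W.obj.left.left := ‹IsAffine (EtOver.bcObj hf E).obj.left.left›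
  let N : ModuleCat.{u + 1} (Ring W) := (Γt W).obj (((pullModEt hf).obj G).over W)
  let Q : Submodule (Ring W) N :=
    { carrier := Set.range (unitS hf G E)
      add_mem' := fun {a b} ha hb => by
        obtain ⟨x, rfl⟩ := ha
        obtain ⟨y, rfl⟩ := hb
        exact ⟨x + y, map_add _ _ _⟩
      zero_mem' := ⟨0, map_zero _⟩
      smul_mem' := fun b n hn => by
        obtain ⟨x, rfl⟩ := hn
        obtain ⟨r, rfl⟩ := hs b
        exact ⟨r • x, unitS_smul hf G E r x⟩ }
  let P : ModuleCat.{u + 1} (Ring W) := ModuleCat.of _ (N ⧸ Q)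
  haveI hc : IsIso ((tildeAdj W).counit.app (((pullModEt hf).obj G).over W)) := isIso_counit_of_isTilde (hP W ‹_›)
  haveI := isIso_unit (E₀ := W)
  obtain ⟨k, hk⟩ : ∃ k : ((pullModEt hf).obj G).over W ⟶ (tildeF W).obj P,
      (Γt W).map k = ModuleCat.ofHom Q.mkQ ≫ (tildeAdj W).unit.app P :=
    ⟨_, @map_inv_counit_homEquiv _ _ _ _ _ _ (tildeAdj W) _ _ hc _⟩
  have htop : ∀ m, appP k.val (top W) (unitS hf G E m) = 0 := fun m => by
    refine (congrArg (fun φ => φ (unitS hf G E m)) hk).trans ?_
    refine (congrArg ((tildeAdj W).unit.app P).hom (?_ : Q.mkQ (unitS hf G E m) = 0)).trans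
      (map_zero ((tildeAdj W).unit.app P).hom)
    exact (Submodule.Quotient.mk_eq_zero Q).2 ⟨m, rfl⟩
  have hz : pullOverEquiv hf G E _ k = 0 :=
    eq_zero_of_top (hG E ‹_›) _ fun m => (pullOverEquiv_top hf G E _ k m).trans
      (appP_eq_zero k _ ((EtOver.bc hf).map_id E) _ (htop m))
  have hk0 : k = 0 := (pullOverEquiv hf G E _).injective (hz.trans
    (eq_zero_of_top (hG E ‹_›) _ fun m => (pullOverEquiv_top hf G E _ 0 m).trans rfl).symm)
  intro n
  have : Q.mkQ n = 0 := by
    refine (ConcreteCategory.bijective_of_isIso ((tildeAdj W).unit.app P)).1 ?_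
    refine ((congrArg (fun φ => φ n) hk).symm.trans ?_).trans (map_zero ((tildeAdj W).unit.app P).hom).symm
    rw [hk0]
    rfl
  exact (Submodule.Quotient.mk_eq_zero Q).1 this

end Unit

variable {Z : Sp S} {i : Z ⟶ X} (hi : RepWith @IsClosedImmersion i)

include hi in
theorem closedImm_bcObj (E : EtOver X) [IsAffine E.obj.left.left] :
    IsAffine (EtOver.bcObj hi.1 E).obj.left.left ∧ Function.Surjective (bcRho hi.1 E) := by
  haveI : IsClosedImmersion (hi.1.snd E.obj.hom).left :=
    ((repWith_iff @IsClosedImmersion i).1 hi).2 E.obj.hom _ _ (hi.1.isPullback E.obj.hom)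
  obtain ⟨h1, h2⟩ := (HasAffineProperty.iff_of_isAffine (P := @IsClosedImmersion)).1
    ‹IsClosedImmersion (hi.1.snd E.obj.hom).left›
  refine ⟨h1, fun b => ?_⟩
  obtain ⟨a, ha⟩ := h2 b.down
  exact ⟨⟨a⟩, ULift.down_injective ha⟩

include hi in
theorem le_annSect_push (I : IdealEt X) (hZ : IsCutOutBy I i) (G : ModEt Z) (E : EtOver X)
    (hE : IsAffine E.obj.left.left) (s : sectModEt ((pushModEt hi.1).obj G) E) : I.ideal E hE ≤ annSect s := by
  obtain ⟨-, rfl⟩ := hZ
  intro a ha
  rw [mem_annSect_iff]
  change bcRho hi.1 E (upΓ E a) • (show sec G (EtOver.bcObj hi.1 E) from s) = 0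
  rw [show bcRho hi.1 E (upΓ E a) = 0 from ULift.down_injective ha]
  exact zero_smul _ _

include hi in
theorem exists_iso_push_of_annihilated (hX : IsAlgSpace X) (I : IdealEt X) (hZ : IsCutOutBy I i) (F : ModEt X)
    (hF : BC F) (ha : ∀ (E : EtOver X) (hE : IsAffine E.obj.left.left) (s : sectModEt F E), I.ideal E hE ≤ annSect s) :
    ∃ G : ModEt Z, G.IsQuasicoherent ∧ Nonempty ((pushModEt hi.1).obj G ≅ F) := by
  haveI := isRightAdjoint_push hi.1
  haveI := isQuasicoherent_of_bc F hF
  have hq := isQuasicoherent_pull hi.1 F hX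
  suffices IsIso ((pullPushAdjModEt hi.1).unit.app F) from ⟨_, hq, ⟨(asIso ((pullPushAdjModEt hi.1).unit.app F)).symm⟩⟩
  refine isIso_of_bijective_appS _ fun E hE => ?_
  haveI := hE
  obtain ⟨hA, hs⟩ := closedImm_bcObj hi E
  refine ⟨injective_unitS hF hs fun r hr m => ?_, surjective_unitS hF (@bc_of_isQuasicoherent _ _ _ hq) hs⟩
  obtain ⟨hi', rfl⟩ := hZ
  exact ha E hE m (show r.down ∈ (idealOfRep hi'.1).ideal E hE from congrArg ULift.down hr)

end ModEtQc

namespace ModEtQc

variable {S : Scheme.{u}} {X Z : Sp S} {i : Z ⟶ X} (hi : RepWith @IsClosedImmersion i)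

include hi in
theorem isFiniteMor_closedImm : IsFiniteMor i :=
  AlgSpLib.isFiniteMor_iff.2 ((repWith_iff @IsFinite i).2 ⟨hi.1, fun _ _ g a b h =>
    haveI := ((repWith_iff @IsClosedImmersion i).1 hi).2 g a b h
    inferInstance⟩)

include hi in
/-- Coherent modules annihilated by the ideal come from coherent modules on the closed subspace. -/
theorem exists_fp_iso_push_of_annihilated (hX : IsAlgSpace X) (hZN : IsLocNoethSp Z) (I : IdealEt X)
    (hZ : IsCutOutBy I i) (M : ModEt X) [M.IsFinitePresentation]
    (ha : ∀ (E : EtOver X) (hE : IsAffine E.obj.left.left) (s : sectModEt M E), I.ideal E hE ≤ annSect s) :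
    ∃ G : ModEt Z, G.IsFinitePresentation ∧ Nonempty ((pushModEt hi.1).obj G ≅ M) := by
  obtain ⟨G, hG, ⟨e⟩⟩ := exists_iso_push_of_annihilated hi hX I hZ M (bc_of_isQuasicoherent M) ha
  haveI := hG
  refine ⟨G, isFinitePresentation_of_cover G (bc_of_isQuasicoherent G)
    (fun E : {E : EtOver X // IsAffine E.obj.left.left} => EtOver.bcObj hi.1 E.1)
    (fun E => by haveI := E.2; exact (closedImm_bcObj hi E.1).1) (coversTop_bc hi.1 hX) fun E => ?_, ⟨e⟩⟩
  haveI := E.2
  haveI := (closedImm_bcObj hi E.1).1
  haveI := isNoetherianRing_ring hZN (EtOver.bcObj hi.1 E.1)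
  haveI : Module.Finite (Ring E.1) (sec M E.1) := finite_sec M (bc_of_isQuasicoherent M) E.1
  haveI : Module.Finite (Ring E.1) (sec ((pushModEt hi.1).obj G) E.1) :=
    Module.Finite.of_surjective (appS e.inv E.1) fun x => ⟨appS e.hom E.1 x,
      congrArg (fun φ => appS φ E.1 x) e.hom_inv_id⟩
  haveI := (finite_push_iff hi.1 (isFiniteMor_closedImm hi) G E.1).1 ‹_›
  exact Module.finitePresentation_of_finite _ _

end ModEtQc
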