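import Groth.Agent.ModEtQcLib.Coherent
import Groth.Prelude.Def_AlgSpModX
import Groth.Agent.S1233
import Groth.Agent.AlgSpLib.Points
import Mathlib.AlgebraicGeometry.Morphisms.Etale
import Mathlib.RingTheory.Ideal.MinimalPrime.Localization

/-!
# Weakly associated points of quasi-coherent modules do not depend on the chart
-/

set_option autoImplicit false
set_option backward.isDefEq.respectTransparency false
set_option backward.isDefEq.respectTransparency.types false
universe u
open CategoryTheory CategoryTheory.Limits AlgebraicGeometry Opposite AlgSp TopologicalSpace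
open scoped TensorProduct

noncomputable section

namespace ModEtQc

variable {S : Scheme.{u}} {X : Sp S}

/-- The prime of the ring of an affine object at a point. -/
def primeRing (E : EtOver X) (v : E.obj.left.left) : Ideal (Ring E) :=
  (primeAtPt E.obj.left.left v).comap (ULift.ringEquiv (R := Γ(E.obj.left.left, ⊤))).toRingHom

instance isPrime_primeRing (E : EtOver X) (v : E.obj.left.left) : (primeRing E v).IsPrime :=
  Ideal.comap_isPrime _ _

theorem isWeakAssOn_iff (M : ModEt X) (E : EtOver X) [IsAffine E.obj.left.left] (v : E.obj.left.left) :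
    IsWeakAssOn M E v ↔ primeRing E v ∈ FlatCA.weakAss (Ring E) (sec M E) := by
  let e := (ULift.ringEquiv (R := Γ(E.obj.left.left, ⊤))).toRingHom
  have he : Function.Surjective e := (ULift.ringEquiv (R := Γ(E.obj.left.left, ⊤))).surjective
  have key : ∀ s : sec M E,
      (primeRing E v ∈ (Submodule.span (Ring E) {s}).annihilator.minimalPrimes ↔
        primeAtPt E.obj.left.left v ∈ (annSect (M := M) (E := E) s).minimalPrimes) := by
    intro s
    have : (Submodule.span (Ring E) {s}).annihilator = (annSect (M := M) (E := E) s).comap e := by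
      ext a
      rw [Submodule.mem_annihilator_span_singleton]
      exact Iff.rfl
    rw [this, Ideal.comap_minimalPrimes_eq_of_surjective he]
    exact ⟨fun ⟨q, hq, h⟩ => Ideal.comap_injective_of_surjective e he h ▸ hq, fun h => ⟨_, h, rfl⟩⟩
  exact ⟨fun ⟨s, hs⟩ => ⟨s, (key s).2 hs⟩, fun ⟨s, hs⟩ => ⟨s, (key s).1 hs⟩⟩

theorem comap_primeAtPt {U V : Scheme.{u}} (f : V ⟶ U) (v : V) :
    (primeAtPt V v).comap f.appTop.hom = primeAtPt U (f v) := by
  have h : f.appTop ≫ V.presheaf.germ ⊤ v trivial = U.presheaf.germ ⊤ (f v) trivial ≫ f.stalkMap v := by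
    simp
  rw [primeAtPt, primeAtPt, Ideal.comap_comap, ← CommRingCat.hom_comp, h, CommRingCat.hom_comp, ← Ideal.comap_comap,
    IsLocalRing.maximalIdeal_comap]

theorem comap_primeRing {E E' : EtOver X} (g : E' ⟶ E) (v : E'.obj.left.left) :
    (primeRing E' v).comap (rho g) = primeRing E (g.hom.left.left v) := by
  rw [primeRing, primeRing, rho_eq, ← comap_primeAtPt, Ideal.comap_comap, Ideal.comap_comap]
  rfl

theorem etale_rho {E E' : EtOver X} (g : E' ⟶ E) [IsAffine E.obj.left.left] [IsAffine E'.obj.left.left] :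
    (rho g).Etale := by
  haveI := EtOver.etale_left g
  letI : Algebra Γ(E.obj.left.left, ⊤) Γ(E'.obj.left.left, ⊤) := g.hom.left.left.appTop.hom.toAlgebra
  haveI : Algebra.Etale Γ(E.obj.left.left, ⊤) Γ(E'.obj.left.left, ⊤) :=
    (HasRingHomProperty.iff_of_isAffine (P := @Etale)).1 (inferInstance : Etale g.hom.left.left)
  let e := (ULift.ringEquiv (R := Γ(E.obj.left.left, ⊤))).symm
  let e' := (ULift.ringEquiv (R := Γ(E'.obj.left.left, ⊤))).symm
  letI : Algebra (Ring E) (Ring E') := (rho g).toAlgebra
  letI : Algebra Γ(E.obj.left.left, ⊤) (Ring E) := e.toRingHom.toAlgebra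
  letI : Algebra Γ(E.obj.left.left, ⊤) (Ring E') := ((rho g).comp e.toRingHom).toAlgebra
  haveI : IsScalarTower Γ(E.obj.left.left, ⊤) (Ring E) (Ring E') := IsScalarTower.of_algebraMap_eq' rfl
  haveI : Algebra.Etale Γ(E.obj.left.left, ⊤) (Ring E') :=
    Algebra.Etale.of_equiv (A := Γ(E'.obj.left.left, ⊤))
      { e' with commutes' := fun r => ((RingHom.congr_fun (rho_eq g) (e r)).trans rfl).symm }
  haveI : Algebra.Etale Γ(E.obj.left.left, ⊤) (Ring E) :=
    Algebra.Etale.of_equiv (A := Γ(E.obj.left.left, ⊤)) { e with commutes' := fun r => rfl }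
  rw [← (rho g).algebraMap_toAlgebra, RingHom.etale_algebraMap]
  exact { formallyEtale := Algebra.FormallyEtale.of_restrictScalars (R := Γ(E.obj.left.left, ⊤))
          finitePresentation := Algebra.FinitePresentation.of_restrict_scalars_finitePresentation Γ(E.obj.left.left, ⊤) (Ring E) (Ring E') }

theorem isWeakAssOn_iff_of_hom (M : ModEt X) (hM : BC M) {E E' : EtOver X} [IsAffine E.obj.left.left]
    [IsAffine E'.obj.left.left] (g : E' ⟶ E) (v : E'.obj.left.left) :
    IsWeakAssOn M E' v ↔ IsWeakAssOn M E (g.hom.left.left v) := by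
  let Z : Over E := Over.mk g
  haveI : IsAffine Z.left.obj.left.left := ‹IsAffine E'.obj.left.left›
  haveI : Algebra.Etale (Ring E) (Ring Z.left) := RingHom.etale_algebraMap.1 (etale_rho g)
  let e : Ring Z.left ⊗[Ring E] sec M E ≃ₗ[Ring Z.left] sec M Z.left :=
    LinearEquiv.ofBijective
      { toFun := evS M Z, map_add' := map_add _, map_smul' := fun b x => evS_smul M Z b x }
      ((isTilde_iff_evS M E).1 (hM E ‹_›) Z ‹_›)
  have hl : (primeRing Z.left v).LiesOver (primeRing E (g.hom.left.left v)) :=
    ⟨(comap_primeRing g v).symm⟩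
  rw [isWeakAssOn_iff, isWeakAssOn_iff]
  refine Iff.trans ?_ (Groth.Agent.S1233.result (sec M E) (primeRing E (g.hom.left.left v)) (primeRing Z.left v))
  rw [WeakBCLib.weakAss_of_linearEquiv e]
  rfl

theorem isWeakAssOn_congr (M : ModEt X) (hM : BC M) {E E' : EtOver X} [IsAffine E.obj.left.left]
    [IsAffine E'.obj.left.left] (v : E.obj.left.left) (v' : E'.obj.left.left)
    (h : Points.ofPt E.obj.hom v = Points.ofPt E'.obj.hom v') : IsWeakAssOn M E v ↔ IsWeakAssOn M E' v' := by
  have sq : IsPullback ((yon S).map (EtOver.prodFst E E').hom.left) ((yon S).map (EtOver.prodSnd E E').hom.left)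
      E.obj.hom E'.obj.hom := by
    change IsPullback ((yon S).map (E'.property.1.snd E.obj.hom)) ((yon S).map (E'.property.1.fst' E.obj.hom)) _ _
    rw [Functor.relativelyRepresentable.map_fst']
    exact (E'.property.1.isPullback E.obj.hom).flip
  obtain ⟨w, hw, hw'⟩ := (AlgSpLib.ofPt_eq_ofPt_iff sq v v').1 h
  obtain ⟨ι, Y, k, hY, hc⟩ := exists_affine_cover (EtOver.prodObj E E')
  obtain ⟨i, z, rfl⟩ := hc w
  haveI := hY i
  have h1 := isWeakAssOn_iff_of_hom M hM (k i ≫ EtOver.prodFst E E') z
  have h2 := isWeakAssOn_iff_of_hom M hM (k i ≫ EtOver.prodSnd E E') z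
  subst hw hw'
  exact h1.symm.trans h2

end ModEtQc
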