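import Groth.Agent.ModEtQcLib.Submod
import Groth.Agent.ModEtQcLib.WeakAss
import Groth.Agent.AlgSpRegLib.WeakAssBasic
import Groth.Agent.AlgSpLib.Qc
import Groth.Prelude.Def_AlgSp4

/-!
# Sections supported on a closed subset of a space
-/

set_option autoImplicit false
set_option backward.isDefEq.respectTransparency false
set_option backward.isDefEq.respectTransparency.types false
universe u
open CategoryTheory CategoryTheory.Limits AlgebraicGeometry Opposite AlgSp TopologicalSpace

noncomputable section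

namespace ModEtQc

variable {S : Scheme.{u}} {X : Sp S}

theorem mem_zeroLocus_iff_le {U : Scheme.{u}} (s : Set Γ(U, ⊤)) (x : U) :
    x ∈ U.zeroLocus (U := ⊤) s ↔ Ideal.span s ≤ primeAtPt U x := by
  rw [Scheme.mem_zeroLocus_iff, Ideal.span_le]
  refine forall_congr' fun f => imp_congr_right fun _ => ?_
  rw [Scheme.mem_basicOpen _ f x trivial, SetLike.mem_coe]
  exact (IsLocalRing.mem_maximalIdeal _).symm

theorem le_radical_iff {U : Scheme.{u}} [IsAffine U] (I J : Ideal Γ(U, ⊤)) :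
    I ≤ J.radical ↔ ∀ x, J ≤ primeAtPt U x → I ≤ primeAtPt U x := by
  refine ⟨fun h x hx => h.trans (((isPrime_primeAtPt U x).radical_le_iff).2 hx), fun h => ?_⟩
  rw [Ideal.radical_eq_sInf]
  refine le_sInf fun P hP => ?_
  haveI := hP.2
  obtain ⟨x, rfl⟩ := AlgSpRegLib.exists_primeAtPt_eq U P
  exact h x hP.1

theorem ofPt_hom {E E' : EtOver X} (g : E' ⟶ E) (w : E'.obj.left.left) :
    Points.ofPt E'.obj.hom w = Points.ofPt E.obj.hom (g.hom.left.left w) := by
  rw [← AlgSp.EtOver.w g, AlgSpLib.ofPt_yon_comp]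

/-- An ideal cutting out the trace of a set of points. -/
def Cuts (T : Set (Points X)) (E : EtOver X) (I : Ideal Γ(E.obj.left.left, ⊤)) : Prop :=
  I.FG ∧ ∀ w, I ≤ primeAtPt E.obj.left.left w ↔ Points.ofPt E.obj.hom w ∈ T

variable {T : Set (Points X)}

theorem cuts_map {E E' : EtOver X} (g : E' ⟶ E) {I : Ideal Γ(E.obj.left.left, ⊤)} (h : Cuts T E I) :
    Cuts T E' (I.map g.hom.left.left.appTop.hom) := by
  refine ⟨h.1.map _, fun w => ?_⟩
  rw [Ideal.map_le_iff_le_comap, comap_primeAtPt, h.2, ofPt_hom g]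

theorem cuts_of_zeroLocus {E : EtOver X} {I : Ideal Γ(E.obj.left.left, ⊤)} (hI : I.FG)
    (h : E.obj.left.left.zeroLocus (U := ⊤) (I : Set Γ(E.obj.left.left, ⊤)) = {w | Points.ofPt E.obj.hom w ∈ T}) :
    Cuts T E I := by
  refine ⟨hI, fun w => ?_⟩
  have := Set.ext_iff.1 h w
  rwa [mem_zeroLocus_iff_le, Ideal.span_eq, Set.mem_setOf_eq] at this

theorem supported_iff (F : ModEt X) {E : EtOver X} [IsAffine E.obj.left.left] {I : Ideal Γ(E.obj.left.left, ⊤)}
    (h : Cuts T E I) (x : sectModEt F E) :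
    (E.obj.left.left.zeroLocus (U := ⊤) ((annSect x : Ideal Γ(E.obj.left.left, ⊤)) : Set Γ(E.obj.left.left, ⊤)) ⊆
        {w | Points.ofPt E.obj.hom w ∈ T}) ↔ ∃ n : ℕ, ∀ a ∈ I ^ n, upΓ E a • x = 0 := by
  have h1 : (E.obj.left.left.zeroLocus (U := ⊤) ((annSect x : Ideal Γ(E.obj.left.left, ⊤)) : Set Γ(E.obj.left.left, ⊤)) ⊆
      {w | Points.ofPt E.obj.hom w ∈ T}) ↔ I ≤ (annSect x).radical := by
    rw [le_radical_iff]
    refine forall_congr' fun w => ?_
    rw [mem_zeroLocus_iff_le, Ideal.span_eq, Set.mem_setOf_eq, h.2]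
  rw [h1]
  exact ⟨fun hle => Ideal.exists_pow_le_of_le_radical_of_fg hle h.1,
    fun ⟨n, hn⟩ a ha => ⟨n, hn _ (Ideal.pow_mem_pow ha n)⟩⟩

theorem exists_supported (F : ModEt X) (hF : BC F)
    (hcut : ∀ W : EtOver X, IsAffine W.obj.left.left → ∃ I : Ideal Γ(W.obj.left.left, ⊤), Cuts T W I) :
    ∃ (F' : ModEt X) (ι : F' ⟶ F), Mono ι ∧ BC F' ∧ ∀ (W : EtOver X), IsAffine W.obj.left.left →
      Set.range (appS ι W) = {x : sectModEt F W |
        W.obj.left.left.zeroLocus (U := ⊤) ((annSect x : Ideal Γ(W.obj.left.left, ⊤)) : Set Γ(W.obj.left.left, ⊤)) ⊆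
          {w | Points.ofPt W.obj.hom w ∈ T}} := by
  classical
  choose J hJ using hcut
  have hup : ∀ {E E' : EtOver X} (g : E' ⟶ E) (b : Γ(E.obj.left.left, ⊤)),
      rho g (upΓ E b) = upΓ E' (g.hom.left.left.appTop.hom b) := fun g b => RingHom.congr_fun (rho_eq g) _
  let P : ∀ E : EtOver X, IsAffine E.obj.left.left → Submodule (Ring E) (sec F E) := fun E hE =>
    { carrier := {s | ∃ n : ℕ, ∀ a ∈ J E hE ^ n, upΓ E a • s = 0}
      add_mem' := fun {s t} ⟨n, hn⟩ ⟨m, hm⟩ => ⟨max n m, fun a ha => by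
        rw [smul_add, hn a (Ideal.pow_le_pow_right (le_max_left n m) ha),
          hm a (Ideal.pow_le_pow_right (le_max_right n m) ha), add_zero]⟩
      zero_mem' := ⟨0, fun a _ => smul_zero _⟩
      smul_mem' := fun c s ⟨n, hn⟩ => ⟨n, fun a h => by
        change (show Ring E from upΓ E a) • c • s = 0
        rw [smul_comm (show Ring E from upΓ E a) c s]
        exact (congrArg (c • ·) (hn a h)).trans (smul_zero _)⟩ }
  have hP : ∀ {E : EtOver X} (hE : IsAffine E.obj.left.left) {I : Ideal Γ(E.obj.left.left, ⊤)}, Cuts T E I →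
      ∀ s : sec F E, s ∈ P E hE ↔ ∃ n : ℕ, ∀ a ∈ I ^ n, upΓ E a • s = 0 := fun {E} hE {I} hI s => by
    haveI := hE
    exact (supported_iff F (hJ E hE) s).symm.trans (supported_iff F hI s)
  obtain ⟨F', ι, h1, h2, h3⟩ := exists_submodule F P
    (fun E hE n Y g hY hcov s hs => by
      choose m hm using fun i => (hP (hY i) (cuts_map (g i) (hJ E hE)) (res F (g i) s)).1 (hs i)
      refine ⟨Finset.univ.sup m, fun a ha => eq_of_cover F Y g hcov _ _ fun i => ?_⟩
      rw [map_zero]
      refine (res_smul F (g i) _ s).trans ((congrArg (· • res F (g i) s) (hup (g i) a)).trans (hm i _ ?_))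
      rw [← Ideal.map_pow]
      exact Ideal.mem_map_of_mem _ (Ideal.pow_le_pow_right (Finset.le_sup (Finset.mem_univ i)) ha))
    (fun {E E'} g hE hE' s hs => by
      obtain ⟨n, hn⟩ := hs
      refine (hP hE' (cuts_map g (hJ E hE)) _).2 ⟨n, fun a ha => ?_⟩
      rw [← Ideal.map_pow] at ha
      have : (J E hE ^ n).map g.hom.left.left.appTop.hom ≤ annSect (M := F) (E := E') (res F g s) := by
        rw [Ideal.map_le_iff_le_comap]
        intro b hb
        change upΓ E' _ • res F g s = 0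
        rw [← hup]
        exact (res_smul F g _ s).symm.trans ((congrArg (res F g) (hn b hb)).trans (map_zero _))
      exact this ha)
    hF
    (fun {E E'} g hE hE' t ht => by
      haveI := hE
      haveI := hE'
      obtain ⟨n, hn⟩ := (hP hE' (cuts_map g (hJ E hE)) t).1 ht
      have hfg : ((J E hE ^ n).map (upΓ E)).FG := ((hJ E hE).1.pow).map _
      refine Submodule.span_mono (Set.image_mono ?_) (mem_span_of_annihilated F hF g hfg t ?_)
      · exact fun s hs => ⟨n, fun a ha => hs _ (Ideal.mem_map_of_mem _ ha)⟩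
      · intro b hb
        obtain ⟨a, ha, rfl⟩ := (Ideal.mem_map_iff_of_surjective (upΓ E) (ULift.ringEquiv (R := Γ(E.obj.left.left, ⊤))).symm.surjective).1 hb
        refine (congrArg (· • t) (hup g a)).trans (hn _ ?_)
        rw [← Ideal.map_pow]
        exact Ideal.mem_map_of_mem _ ha)
  refine ⟨F', ι, h1, h2, fun W hW => ?_⟩
  haveI := hW
  rw [h3 W hW]
  exact Set.ext fun x => (supported_iff F (hJ W hW) x).symm

/-- A quasi-compact open subspace is cut out on affine objects by finitely generated ideals. -/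
theorem exists_cuts (X' : Space S) (U : Space S) (j : U ⟶ X') (hj : RepWith @IsOpenImmersion j.hom)
    (hjqc : IsQuasiCompactMor j.hom) (W : EtOver X'.obj) [IsAffine W.obj.left.left] :
    ∃ I : Ideal Γ(W.obj.left.left, ⊤), Cuts (Set.range (Points.map j.hom))ᶜ W I := by
  have hrep : Representable j.hom := hj.rep
  let p := hrep.snd W.obj.hom
  have sq := hrep.isPullback W.obj.hom
  haveI : IsOpenImmersion p.left := ((repWith_iff @IsOpenImmersion j.hom).1 hj).2 W.obj.hom _ p sq
  have hqc : IsQuasiCompactSp ((yon S).obj (hrep.pullback W.obj.hom)) :=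
    hjqc (IsAlgSpace.yon_obj W.obj.left) (AlgSpLib.isQuasiCompactSp_yon W.obj.left) W.obj.hom _ _ sq
  haveI := (AlgSpLib.isQuasiCompactSp_iff (IsAlgSpace.yon_obj _)).1 hqc
  haveI : CompactSpace ↥(hrep.pullback W.obj.hom).left :=
    (Points.schemeHomeo (hrep.pullback W.obj.hom)).symm.compactSpace
  have hrange : ∀ w, Points.ofPt W.obj.hom w ∈ Set.range (Points.map j.hom) ↔ w ∈ Set.range p.left := fun w => by
    constructor
    · rintro ⟨a, ha⟩
      rw [AlgSpLib.ofPt_comp_ofScheme] at ha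
      obtain ⟨z, -, hz⟩ := AlgSpLib.exists_point_isPullback sq _ _ ha
      obtain ⟨z, rfl⟩ := (Points.schemeHomeo (hrep.pullback W.obj.hom)).surjective z
      rw [Points.map_yon_map_apply] at hz
      exact ⟨z, (Points.schemeHomeo W.obj.left).injective hz⟩
    · rintro ⟨z, rfl⟩
      refine ⟨Points.ofPt (hrep.fst W.obj.hom) z, ?_⟩
      rw [← AlgSpLib.ofPt_yon_comp p W.obj.hom z, ← sq.w]
      exact Points.map_ofPt _ _ _
  let O : W.obj.left.left.Opens := p.left.opensRange
  have hO : IsCompact (O : Set W.obj.left.left) := isCompact_range p.left.continuous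
  obtain ⟨s, hs, hOs⟩ := isCompact_and_isOpen_iff_finite_and_eq_biUnion_basicOpen.1
    ⟨hO, O.isOpen⟩
  refine ⟨Ideal.span s, Submodule.fg_span hs, fun w => ?_⟩
  rw [← mem_zeroLocus_iff_le, Scheme.mem_zeroLocus_iff, Set.mem_compl_iff, hrange]
  change _ ↔ w ∉ (O : Set W.obj.left.left)
  rw [hOs]
  simp

end ModEtQc
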