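import Groth.Agent.ModEtQcLib.Present
import Mathlib.RingTheory.Flat.Basic
import Mathlib.LinearAlgebra.TensorProduct.Pi

/-!
# Quasi-coherent modules on the small etale site: the base change criterion
-/

set_option autoImplicit false
set_option backward.isDefEq.respectTransparency false
set_option backward.isDefEq.respectTransparency.types false
universe u
open CategoryTheory CategoryTheory.Limits AlgebraicGeometry Opposite AlgSp TopologicalSpace
open scoped TensorProduct

noncomputable section

namespace ModEtQc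

variable {S : Scheme.{u}} {X : Sp S}

/-- Quasi-coherence in the form of base change on affine objects. -/
def BC (M : ModEt X) : Prop :=
  ∀ E : EtOver X, IsAffine E.obj.left.left → IsTilde (M.over E)

/-- Sections of a module. -/
abbrev sec (M : ModEt X) (E : EtOver X) : Type (u + 1) := M.val.obj (op E)

instance secModule (M : ModEt X) (E : EtOver X) : Module (Ring E) (sec M E) :=
  inferInstanceAs (Module ((OEtRing X).obj.obj (op E)) (M.val.obj (op E)))

/-- Restriction of sections. -/
def res (M : ModEt X) {E E' : EtOver X} (g : E' ⟶ E) : sec M E →+ sec M E' :=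
  AddMonoidHom.mk' (fun x => M.val.map g.op x) (fun x y => map_add (M.val.map g.op).hom x y)

theorem res_smul (M : ModEt X) {E E' : EtOver X} (g : E' ⟶ E) (a : Ring E) (x : sec M E) :
    res M g (a • x) = rho g a • res M g x := PresheafOfModules.map_smul M.val g.op a x

theorem res_comp (M : ModEt X) {E E' E'' : EtOver X} (g : E' ⟶ E) (h : E'' ⟶ E') (x : sec M E) :
    res M (h ≫ g) x = res M h (res M g x) := PresheafOfModules.map_comp_apply M.val g.op h.op x

theorem res_congr (M : ModEt X) {E E' : EtOver X} {g g' : E' ⟶ E} (h : g = g') (x : sec M E) :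
    res M g x = res M g' x := by rw [h]

/-- The base change map. -/
abbrev ev (M : ModEt X) {E : EtOver X} (Z : Over E) :=
  appP (evalMap (M.over E)) Z

theorem ev_tmul (M : ModEt X) {E : EtOver X} (Z : Over E) (r : Ring Z.left) (m : sec M E) :
    ev M Z (r ⊗ₜ[Ring E] (show secP (M.over E).val (top E) from m)) =
      (show secP (M.over E).val Z from r • res M Z.hom m) := rfl

theorem eq_of_cover (M : ModEt X) {Z : EtOver X} {ι : Type*} (Y : ι → EtOver X) (g : ∀ i, Y i ⟶ Z)
    (hcov : ∀ x, ∃ i, x ∈ Set.range (g i).hom.left.left) (x y : sec M Z)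
    (h : ∀ i, res M (g i) x = res M (g i) y) : x = y := by
  have hsh : Presieve.IsSeparated (etTop X) (M.val.presheaf ⋙ forget AddCommGrpCat.{u + 1}) :=
    ((isSheaf_iff_isSheaf_of_type _ _).1
      ((Presheaf.isSheaf_iff_isSheaf_forget _ M.val.presheaf (forget AddCommGrpCat.{u + 1})).1 M.isSheaf)).isSeparated
  refine (hsh _ (ofArrows_mem_etTop Y g hcov : Sieve.ofArrows Y g ∈ etTop X Z)).ext fun P k hk => ?_
  obtain ⟨P', a, _, ⟨i⟩, rfl⟩ := hk
  change res M (a ≫ g i) x = res M (a ≫ g i) y
  rw [res_comp, res_comp, h]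

theorem exists_glue_sec (M : ModEt X) {Z : EtOver X} {ι : Type*} (Y : ι → EtOver X) (g : ∀ i, Y i ⟶ Z)
    (hcov : ∀ x, ∃ i, x ∈ Set.range (g i).hom.left.left) (s : ∀ i, sec M (Y i))
    (hs : ∀ i j, res M (EtOver.pullbackFst (g i) (g j)) (s i) = res M (EtOver.pullbackSnd (g i) (g j)) (s j)) :
    ∃ x : sec M Z, ∀ i, res M (g i) x = s i := by
  have hfor := (Presieve.isSheafFor_iff_generate _).2 (((isSheaf_iff_isSheaf_of_type _ _).1
      ((Presheaf.isSheaf_iff_isSheaf_forget _ M.val.presheaf (forget AddCommGrpCat.{u + 1})).1 M.isSheaf))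
    _ (ofArrows_mem_etTop Y g hcov : Sieve.ofArrows Y g ∈ etTop X Z))
  rw [Presieve.isSheafFor_arrows_iff] at hfor
  obtain ⟨t, ht, -⟩ := hfor s fun i j P a b hab => by
    obtain ⟨l, hl1, hl2⟩ := PullbackCone.IsLimit.lift' (EtOver.pullbackIsLimit (g i) (g j)) a b hab
    change l ≫ EtOver.pullbackFst (g i) (g j) = a at hl1
    change l ≫ EtOver.pullbackSnd (g i) (g j) = b at hl2
    change res M a (s i) = res M b (s j)
    rw [← hl1, ← hl2, res_comp, res_comp]
    exact congrArg _ (hs i j)
  exact ⟨t, ht⟩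

section Glue

variable (M : ModEt X) {E : EtOver X} [IsAffine E.obj.left.left]

/-- Sections over an object over `E` as a module over the ring of `E`. -/
@[reducible] def secModuleBase {Y : EtOver X} (k : Y ⟶ E) : Module (Ring E) (sec M Y) := Module.compHom _ (rho k)

/-- The comparison of sections over a fibre product. -/
theorem exists_psi (Z Y : Over E) [IsAffine Z.left.obj.left.left] [IsAffine Y.left.obj.left.left]
    (hY : IsTilde (M.over Y.left)) : letI := secModuleBase M Y.hom
    ∃ ψ : Ring Z.left ⊗[Ring E] sec M Y.left →+ sec M (EtOver.pullbackObj Z.hom Y.hom),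
      Function.Bijective ψ ∧ ∀ r m, ψ (r ⊗ₜ[Ring E] m) =
        rho (EtOver.pullbackFst Z.hom Y.hom) r • res M (EtOver.pullbackSnd Z.hom Y.hom) m := by
  letI := secModuleBase M Y.hom
  obtain ⟨hW, hpo⟩ := isPushout_rho Z.hom Y.hom
  let W := EtOver.pullbackObj Z.hom Y.hom
  let p₁ := EtOver.pullbackFst Z.hom Y.hom
  let p₂ := EtOver.pullbackSnd Z.hom Y.hom
  letI : Algebra (Ring Z.left) (Ring W) := (rho p₁).toAlgebra
  letI : Algebra (Ring Y.left) (Ring W) := (rho p₂).toAlgebra
  letI : Algebra (Ring E) (Ring W) := (rho (p₁ ≫ Z.hom)).toAlgebra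
  haveI : IsScalarTower (Ring E) (Ring Z.left) (Ring W) := IsScalarTower.of_algebraMap_eq' (rho_comp Z.hom p₁)
  haveI : IsScalarTower (Ring E) (Ring Y.left) (Ring W) := IsScalarTower.of_algebraMap_eq'
    ((congrArg rho (EtOver.pullback_condition Z.hom Y.hom)).trans (rho_comp Y.hom p₂))
  haveI : IsScalarTower (Ring E) (Ring Y.left) (sec M Y.left) :=
    IsScalarTower.of_algebraMap_smul fun _ _ => rfl
  haveI : Algebra.IsPushout (Ring E) (Ring Z.left) (Ring Y.left) (Ring W) :=
    CommRingCat.isPushout_iff_isPushout.1 hpo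
  let c := (Algebra.IsPushout.cancelBaseChangeAux (Ring E) (Ring Z.left) (Ring Y.left) (Ring W) (sec M Y.left)).symm
  let W' : Over Y.left := Over.mk p₂
  let b : Ring W ⊗[Ring Y.left] sec M Y.left →+ sec M W :=
    AddMonoidHom.mk' (fun t => ev M W' t) (fun x y => map_add ((evalMap (M.over Y.left)).app (op W')).hom x y)
  have hb : Function.Bijective b := hY W' hW
  refine ⟨b.comp c.toAddMonoidHom, hb.comp c.bijective, fun r m => ?_⟩
  change b (c (r ⊗ₜ[Ring E] m)) = _
  rw [Algebra.IsPushout.cancelBaseChangeAux_symm_tmul]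
  rfl

theorem isTilde_of_cover {n : ℕ} (Y : Fin n → Over E) (hY : ∀ i, IsAffine (Y i).left.obj.left.left)
    (hcov : ∀ x, ∃ i, x ∈ Set.range (Y i).hom.hom.left.left)
    (htilde : ∀ i (Y' : EtOver X), (Y' ⟶ (Y i).left) → IsAffine Y'.obj.left.left → IsTilde (M.over Y')) :
    IsTilde (M.over E) := by
  classical
  intro Z hZ
  haveI := hY
  haveI : IsAffine Z.left.obj.left.left := hZ
  let Y2 : Fin n × Fin n → Over E := fun p => Over.mk (EtOver.pullbackFst (Y p.1).hom (Y p.2).hom ≫ (Y p.1).hom)
  have hY2 : ∀ p, IsAffine (Y2 p).left.obj.left.left := fun p => (isPushout_rho (Y p.1).hom (Y p.2).hom).1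
  haveI := hY2
  letI := fun i => secModuleBase M (Y i).hom
  letI := fun p => secModuleBase M (Y2 p).hom
  choose ψ hψ hψt using fun i => exists_psi M Z (Y i) (htilde i _ (𝟙 _) inferInstance)
  choose ψ2 hψ2 hψ2t using fun p => exists_psi M Z (Y2 p)
    (htilde p.1 _ (EtOver.pullbackFst (Y p.1).hom (Y p.2).hom) inferInstance)
  let q₁ : ∀ p, (Y2 p).left ⟶ (Y p.1).left := fun p => EtOver.pullbackFst (Y p.1).hom (Y p.2).hom
  let q₂ : ∀ p, (Y2 p).left ⟶ (Y p.2).left := fun p => EtOver.pullbackSnd (Y p.1).hom (Y p.2).hom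
  have hq₂ : ∀ p, q₂ p ≫ (Y p.2).hom = (Y2 p).hom := fun p => (EtOver.pullback_condition _ _).symm
  let d₀ : sec M E →ₗ[Ring E] ∀ i, sec M (Y i).left :=
    { toFun := fun m i => res M (Y i).hom m
      map_add' := fun m m' => funext fun i => map_add _ _ _
      map_smul' := fun a m => funext fun i => res_smul M (Y i).hom a m }
  let l₁ : ∀ p, sec M (Y p.1).left →ₗ[Ring E] sec M (Y2 p).left := fun p =>
    { toFun := fun m => res M (q₁ p) m
      map_add' := map_add _
      map_smul' := fun a m => by
        change res M (q₁ p) (rho (Y p.1).hom a • m) = rho (Y2 p).hom a • res M (q₁ p) m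
        rw [res_smul, show (Y2 p).hom = q₁ p ≫ (Y p.1).hom from rfl, rho_comp]
        rfl }
  let l₂ : ∀ p, sec M (Y p.2).left →ₗ[Ring E] sec M (Y2 p).left := fun p =>
    { toFun := fun m => res M (q₂ p) m
      map_add' := map_add _
      map_smul' := fun a m => by
        change res M (q₂ p) (rho (Y p.2).hom a • m) = rho (Y2 p).hom a • res M (q₂ p) m
        rw [res_smul, ← hq₂ p, rho_comp]
        rfl }
  let d₁ : (∀ i, sec M (Y i).left) →ₗ[Ring E] ∀ p, sec M (Y2 p).left :=
    LinearMap.pi fun p => l₁ p ∘ₗ LinearMap.proj p.1 - l₂ p ∘ₗ LinearMap.proj p.2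
  have hinj : Function.Injective d₀ := fun m m' h =>
    eq_of_cover M (fun i => (Y i).left) (fun i => (Y i).hom) hcov m m' (congrFun h)
  have hex : Function.Exact d₀ d₁ := fun v => by
    refine ⟨fun hv => ?_, ?_⟩
    · obtain ⟨m, hm⟩ := exists_glue_sec M (fun i => (Y i).left) (fun i => (Y i).hom) hcov v
        fun i j => sub_eq_zero.1 (congrFun hv (i, j))
      exact ⟨m, funext hm⟩
    · rintro ⟨m, rfl⟩
      funext p
      change res M (q₁ p) (res M (Y p.1).hom m) - res M (q₂ p) (res M (Y p.2).hom m) = 0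
      rw [← res_comp, ← res_comp, hq₂]
      exact sub_self _
  haveI : Module.Flat (Ring E) (Ring Z.left) := RingHom.flat_algebraMap_iff.1 (flat_rho Z.hom)
  have hinjT := Module.Flat.lTensor_preserves_injective_linearMap (M := Ring Z.left) d₀ hinj
  have hexT := Module.Flat.lTensor_exact (Ring Z.left) hex
  let P : ∀ {A : EtOver X}, (A ⟶ E) → EtOver X := fun k => EtOver.pullbackObj Z.hom k
  let π₁ : ∀ i, P (Y i).hom ⟶ Z.left := fun i => EtOver.pullbackFst Z.hom (Y i).hom
  have hcovW : ∀ x, ∃ i, x ∈ Set.range (π₁ i).hom.left.left := by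
    intro x
    obtain ⟨i, y, hy⟩ := hcov (Z.hom.hom.left.left x)
    obtain ⟨w, hw, -⟩ := Scheme.Pullback.exists_preimage_pullback x y (f := Z.hom.hom.left.left)
      (g := (Y i).hom.hom.left.left) hy.symm
    have sq : IsPullback (π₁ i).hom.left.left (EtOver.pullbackSnd Z.hom (Y i).hom).hom.left.left
        Z.hom.hom.left.left (Y i).hom.hom.left.left := (EtOver.isPullback _ _).map (EtOver.toScheme X)
    refine ⟨i, sq.isoPullback.inv w, ?_⟩
    rw [← Scheme.Hom.comp_apply, sq.isoPullback_inv_fst, hw]
  let pr : ∀ i, Ring Z.left ⊗[Ring E] (∀ i, sec M (Y i).left) →ₗ[Ring E] Ring Z.left ⊗[Ring E] sec M (Y i).left :=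
    fun i => (LinearMap.proj i).lTensor (Ring Z.left)
  have hprj : ∀ z z', (∀ i, pr i z = pr i z') → z = z' := fun z z' h => by
    refine (TensorProduct.piRight (Ring E) (Ring E) (Ring Z.left) fun i => sec M (Y i).left).injective (funext fun i => ?_)
    have e : ∀ z, TensorProduct.piRight (Ring E) (Ring E) (Ring Z.left) (fun i => sec M (Y i).left) z i = pr i z := by
      intro z
      induction z using TensorProduct.induction_on with
      | zero => simp
      | tmul r m => simp [pr]
      | add x y hx hy => rw [map_add, map_add, Pi.add_apply, hx, hy]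
    rw [e, e, h i]
  have hprj2 : ∀ z : Ring Z.left ⊗[Ring E] (∀ p, sec M (Y2 p).left),
      (∀ p, (LinearMap.proj p).lTensor (Ring Z.left) z = 0) → z = 0 := fun z h => by
    refine (TensorProduct.piRight (Ring E) (Ring E) (Ring Z.left) fun p => sec M (Y2 p).left).injective (funext fun p => ?_)
    have e : ∀ z, TensorProduct.piRight (Ring E) (Ring E) (Ring Z.left) (fun p => sec M (Y2 p).left) z p =
        (LinearMap.proj p).lTensor (Ring Z.left) z := by
      intro z
      induction z using TensorProduct.induction_on with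
      | zero => simp
      | tmul r m => simp
      | add x y hx hy => rw [map_add, map_add, Pi.add_apply, hx, hy]
    rw [e, h p, map_zero]
    rfl
  let eZ : Ring Z.left ⊗[Ring E] sec M E →+ sec M Z.left :=
    AddMonoidHom.mk' (fun t => ev M Z t) (fun x y => map_add ((evalMap (M.over E)).app (op Z)).hom x y)
  have key : ∀ i (x : Ring Z.left ⊗[Ring E] sec M E),
      ψ i (pr i (d₀.lTensor (Ring Z.left) x)) = res M (π₁ i) (eZ x) := by
    intro i x
    induction x using TensorProduct.induction_on with
    | zero => simp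
    | tmul r m =>
      rw [LinearMap.lTensor_tmul]
      refine (congrArg (ψ i) (LinearMap.lTensor_tmul (Ring Z.left) (LinearMap.proj i) r (d₀ m))).trans ?_
      refine (hψt i r _).trans ?_
      change _ = res M (π₁ i) (r • res M Z.hom m)
      rw [res_smul, ← res_comp]
      refine congrArg _ ?_
      change res M (EtOver.pullbackSnd Z.hom (Y i).hom) (res M (Y i).hom m) = _
      rw [← res_comp]
      exact res_congr M (EtOver.pullback_condition _ _).symm m
    | add x y hx hy => simp only [map_add, hx, hy]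
  change Function.Bijective eZ
  refine ⟨(injective_iff_map_eq_zero eZ).2 fun x hx => hinjT ?_, fun s => ?_⟩
  · rw [map_zero]
    refine hprj _ _ fun i => (hψ i).1 ?_
    rw [key, hx, map_zero, map_zero, map_zero]
  · choose y hy using fun i => (hψ i).2 (res M (π₁ i) s)
    let z := (TensorProduct.piRight (Ring E) (Ring E) (Ring Z.left) fun i => sec M (Y i).left).symm y
    have hz : ∀ i, pr i z = y i := fun i => by
      have e : ∀ z, TensorProduct.piRight (Ring E) (Ring E) (Ring Z.left) (fun i => sec M (Y i).left) z i = pr i z := by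
        intro z
        induction z using TensorProduct.induction_on with
        | zero => simp
        | tmul r m => simp [pr]
        | add x y hx hy => rw [map_add, map_add, Pi.add_apply, hx, hy]
      rw [← e, LinearEquiv.apply_symm_apply]
    have hz0 : d₁.lTensor (Ring Z.left) z = 0 := by
      refine hprj2 _ fun p => (hψ2 p).1 ?_
      rw [map_zero]
      let W₂ := EtOver.pullbackObj Z.hom (Y2 p).hom
      let a₁ : W₂ ⟶ Z.left := EtOver.pullbackFst _ _
      let a₂ : W₂ ⟶ (Y2 p).left := EtOver.pullbackSnd _ _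
      obtain ⟨u₁, hu₁, hu₁'⟩ : ∃ u : W₂ ⟶ P (Y p.1).hom, u ≫ π₁ p.1 = a₁ ∧
          u ≫ EtOver.pullbackSnd Z.hom (Y p.1).hom = a₂ ≫ q₁ p := by
        obtain ⟨l, h1, h2⟩ := PullbackCone.IsLimit.lift' (EtOver.pullbackIsLimit Z.hom (Y p.1).hom) a₁ (a₂ ≫ q₁ p)
          (by rw [Category.assoc]; exact EtOver.pullback_condition _ _)
        exact ⟨l, h1, h2⟩
      obtain ⟨u₂, hu₂, hu₂'⟩ : ∃ u : W₂ ⟶ P (Y p.2).hom, u ≫ π₁ p.2 = a₁ ∧
          u ≫ EtOver.pullbackSnd Z.hom (Y p.2).hom = a₂ ≫ q₂ p := by
        obtain ⟨l, h1, h2⟩ := PullbackCone.IsLimit.lift' (EtOver.pullbackIsLimit Z.hom (Y p.2).hom) a₁ (a₂ ≫ q₂ p)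
          (by rw [Category.assoc, hq₂]; exact EtOver.pullback_condition _ _)
        exact ⟨l, h1, h2⟩
      have h1 : ∀ t, ψ2 p ((l₁ p).lTensor (Ring Z.left) t) = res M u₁ (ψ p.1 t) := fun t => by
        induction t using TensorProduct.induction_on with
        | zero => simp
        | tmul r m =>
          rw [LinearMap.lTensor_tmul, hψ2t, hψt, res_smul, ← res_comp, res_congr M hu₁', res_comp,
            ← RingHom.comp_apply, ← rho_comp, hu₁]
          rfl
        | add x y hx hy => simp only [map_add, hx, hy]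
      have h2 : ∀ t, ψ2 p ((l₂ p).lTensor (Ring Z.left) t) = res M u₂ (ψ p.2 t) := fun t => by
        induction t using TensorProduct.induction_on with
        | zero => simp
        | tmul r m =>
          rw [LinearMap.lTensor_tmul, hψ2t, hψt, res_smul, ← res_comp, res_congr M hu₂', res_comp,
            ← RingHom.comp_apply, ← rho_comp, hu₂]
          rfl
        | add x y hx hy => simp only [map_add, hx, hy]
      have e : (LinearMap.proj p).lTensor (Ring Z.left) (d₁.lTensor (Ring Z.left) z) =
          (l₁ p).lTensor (Ring Z.left) (pr p.1 z) - (l₂ p).lTensor (Ring Z.left) (pr p.2 z) := by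
        simp only [pr, ← LinearMap.comp_apply, ← LinearMap.lTensor_comp]
        rw [← LinearMap.sub_apply, ← LinearMap.lTensor_sub]
        rfl
      rw [e, map_sub, h1, h2, hz, hz, hy, hy, sub_eq_zero, ← res_comp, ← res_comp, hu₁, hu₂]
    obtain ⟨x, hx⟩ := (hexT z).1 hz0
    refine ⟨x, eq_of_cover M (fun i => P (Y i).hom) π₁ hcovW _ _ fun i => ?_⟩
    rw [← key, hx, hz, hy]

end Glue

/-- The restriction of a presentation along a morphism of the site. -/
theorem exists_presentation_map {M : ModEt X} {E E' : EtOver X} (k : E' ⟶ E) (P : (M.over E).Presentation) :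
    Nonempty (M.over E').Presentation :=
  ⟨SheafOfModules.Presentation.ofIsIso ((SheafOfModules.overFunctorMap (OEtRing X) k).app M).hom
    (P.map (SheafOfModules.overMap (OEtRing X) k) (SheafOfModules.overMapUnitIso k).symm)⟩

theorem bc_of_isQuasicoherent (M : ModEt X) [hM : M.IsQuasicoherent] : BC M := by
  intro E hE
  obtain ⟨σ⟩ := hM.nonempty_quasicoherentData
  obtain ⟨n, Y, g, hY, hg, hcov⟩ := exists_finite_affine_refinement (σ.coversTop E)
  refine isTilde_of_cover M (fun i => Over.mk (g i)) hY hcov fun i Y' k hY' => ?_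
  obtain ⟨j, ⟨a⟩⟩ := hg i
  obtain ⟨P⟩ := exists_presentation_map (k ≫ a) (σ.presentation j)
  exact isTilde_of_presentation P

theorem isQuasicoherent_of_bc (M : ModEt X) (h : BC M) : M.IsQuasicoherent := by
  have hp : ∀ E : {E : EtOver X // IsAffine E.obj.left.left}, Nonempty (M.over E.1).Presentation := fun E =>
    exists_presentation_of_isTilde (h E.1 E.2)
  let P := fun E => (hp E).some
  suffices hc : (etTop X).CoversTop (fun E : {E : EtOver X // IsAffine E.obj.left.left} => E.1) from
    SheafOfModules.QuasicoherentData.isQuasicoherent (M := M)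
      { I := {E : EtOver X // IsAffine E.obj.left.left}
        X := fun E => E.1
        coversTop := hc
        presentation := P }
  intro E
  obtain ⟨ι, Y, g, hY, hc⟩ := exists_affine_cover E
  refine (etTop X).superset_covering ?_ (ofArrows_mem_etTop Y g hc)
  rw [Sieve.generate_le_iff]
  intro Y' q hq
  obtain ⟨i⟩ := hq
  exact ⟨⟨_, hY i⟩, ⟨𝟙 _⟩⟩

theorem isQuasicoherent_iff_bc (M : ModEt X) : M.IsQuasicoherent ↔ BC M :=
  ⟨fun _ => bc_of_isQuasicoherent M, isQuasicoherent_of_bc M⟩

end ModEtQc
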