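import Groth.Agent.ModEtQcLib.ModsV
import Groth.Agent.ModEtQcLib.Qc
import Groth.Agent.AlgSpLib.Sep
import Mathlib.CategoryTheory.Sites.DenseSubsite.SheafEquiv
import Mathlib.CategoryTheory.Sites.ConstantSheaf
import Mathlib.Algebra.Homology.DerivedCategory.Ext.MapBijective

/-!
# The small etale site of an affine space; vanishing of quasi-coherent cohomology
-/

set_option autoImplicit false
set_option linter.unusedSectionVars false
set_option linter.style.haveILetI false
set_option backward.isDefEq.respectTransparency false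
set_option backward.isDefEq.respectTransparency.types false
set_option maxHeartbeats 1000000
set_option synthInstance.maxHeartbeats 200000

universe v v' u' u

open CategoryTheory CategoryTheory.Limits CategoryTheory.Abelian AlgebraicGeometry Opposite AlgSp TensorProduct
open Groth.Agent Groth.Agent.EtShLib

noncomputable section

namespace ModEtQc

section Chart

variable {S : Scheme.{u}} {X : Sp S} {T : Over S} (e : (yon S).obj T ≅ X) (he : RepWith @Etale e.hom)

theorem full_ofChart : (EtOver.ofChart e.hom he).Full where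
  map_surjective {V V'} g := by
    have h0 : ((yon S).map g.hom.left ≫ (yon S).map (EtOver.homOfEtale V')) ≫ e.hom =
        (yon S).map (EtOver.homOfEtale V) ≫ e.hom := (Category.assoc _ _ _).trans (EtOver.w g)
    rw [cancel_mono, ← Functor.map_comp] at h0
    have hw' : g.hom.left.left ≫ V'.hom = V.hom := by
      simpa using congrArg CommaMorphism.left ((yon S).map_injective h0)
    exact ⟨MorphismProperty.Over.homMk g.hom.left.left hw', EtOver.hom_ext _ _ (Over.OverMorphism.ext rfl)⟩

theorem essSurj_ofChart : (EtOver.ofChart e.hom he).EssSurj where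
  mem_essImage E := by
    obtain ⟨a, ha⟩ := (yon S).map_surjective (E.obj.hom ≫ e.inv)
    have hE : Etale a.left := (repWith_yon_map_iff _ _).1 (by
      rw [ha]
      exact (repWith_isMultiplicative (S := S) @Etale).comp_mem _ _ E.property (AlgSpLib.repWith_of_isIso e.inv))
    let V : T.left.Etale := { toComma := Over.mk a.left, prop := hE }
    refine ⟨V, ⟨(ObjectProperty.fullyFaithfulι _).preimageIso
      (CostructuredArrow.isoMk (Over.isoMk (Iso.refl E.obj.left.left) (by
        change 𝟙 _ ≫ E.obj.left.hom = a.left ≫ T.hom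
        rw [Category.id_comp]; exact (Over.w a).symm)) ?_)⟩⟩
    change (yon S).map _ ≫ E.obj.hom = (yon S).map _ ≫ e.hom
    rw [← e.cancel_iso_inv_right, Category.assoc, Category.assoc, ← ha, Iso.hom_inv_id, Category.comp_id,
      ← Functor.map_comp]
    congr 1

theorem isEquivalence_ofChart : (EtOver.ofChart e.hom he).IsEquivalence :=
  haveI := full_ofChart e he
  haveI := essSurj_ofChart e he
  Functor.IsEquivalence.mk inferInstance inferInstance inferInstance

/-- The small etale site of the chart is a dense subsite. -/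
theorem isDenseSubsite_ofChart :
    (EtOver.ofChart e.hom he).IsDenseSubsite T.left.smallEtaleTopology (etTop X) := by
  haveI := isEquivalence_ofChart e he
  let G := EtOver.ofChart e.hom he
  have hd : G.IsCoverDense (etTop X) := ⟨fun Y => by
    refine GrothendieckTopology.superset_covering _ (S := ⊤) (fun Z f _ => ?_) ((etTop X).top_mem Y)
    exact ⟨⟨G.objPreimage Y, f ≫ (G.objObjPreimageIso Y).inv, (G.objObjPreimageIso Y).hom, by simp⟩⟩⟩
  refine { isCoverDense' := hd, functorPushforward_mem_iff := fun {V R} => ?_ }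
  let ι := Σ Z : T.left.Etale, {f : Z ⟶ V // R f}
  have hR : Sieve.ofArrows (fun i : ι => i.1) (fun i => i.2.1) = R := le_antisymm
    (fun Z f hf => by
      obtain ⟨W, a, b, ⟨i⟩, rfl⟩ := hf
      exact R.downward_closed i.2.2 a)
    (fun Z f hf => Sieve.ofArrows_mk _ (fun i : ι => i.2.1) ⟨Z, f, hf⟩)
  constructor
  · intro h
    rw [← hR, Scheme.ofArrows_mem_smallEtaleTopology_iff, Set.eq_univ_iff_forall]
    intro x
    obtain ⟨Y, g, hg, hx⟩ := exists_mem_range_of_cover h x
    obtain ⟨Z, k, l, hk, rfl⟩ := hg
    obtain ⟨y, hy⟩ := hx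
    exact Set.mem_iUnion.2 ⟨⟨Z, k, hk⟩, ⟨l.hom.left.left y, hy⟩⟩
  · intro h
    rw [← hR, Scheme.ofArrows_mem_smallEtaleTopology_iff, Set.eq_univ_iff_forall] at h
    refine GrothendieckTopology.superset_covering _ ?_
      (ofArrows_mem_etTop (fun i : ι => G.obj i.1) (fun i => G.map i.2.1) fun x => ?_)
    · intro Z f hf
      obtain ⟨W, a, b, ⟨i⟩, rfl⟩ := hf
      exact ⟨i.1, i.2.1, a, i.2.2, rfl⟩
    · obtain ⟨i, hi⟩ := Set.mem_iUnion.1 (h x)
      exact ⟨i, hi⟩

end Chart

section Transport

variable {C : Type u'} [Category.{v} C] {D : Type u'} [Category.{v} D] {J : GrothendieckTopology C}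
  {K : GrothendieckTopology D} (G : C ⥤ D) [G.IsDenseSubsite J K]
  [HasSheafify J AddCommGrpCat.{v'}] [HasSheafify K AddCommGrpCat.{v'}]
  [HasExt.{v'} (Sheaf J AddCommGrpCat.{v'})] [HasExt.{v'} (Sheaf K AddCommGrpCat.{v'})]
  [EnoughInjectives (Sheaf K AddCommGrpCat.{v'})]
  [G.IsContinuous J K] [(G.sheafPushforwardContinuous AddCommGrpCat.{v'} J K).IsEquivalence]

/-- Sheaf cohomology is invariant under an equivalence of sites. -/
theorem nonempty_H_equiv_of_equivalence {T : C} (hT : IsTerminal T) (hGT : IsTerminal (G.obj T))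
    (F : Sheaf K AddCommGrpCat.{v'}) (n : ℕ) :
    Nonempty (Sheaf.H F n ≃+ Sheaf.H ((G.sheafPushforwardContinuous AddCommGrpCat.{v'} J K).obj F) n) := by
  let R := G.sheafPushforwardContinuous AddCommGrpCat.{v'} J K
  haveI : R.Additive := { }
  haveI : R.PreservesInjectiveObjects :=
    Functor.preservesInjectiveObjects_of_adjunction_of_preservesMonomorphisms R.asEquivalence.symm.toAdjunction
  let adj : constantSheaf J AddCommGrpCat.{v'} ⋙ R.inv ⊣ R ⋙ (sheafSections J AddCommGrpCat.{v'}).obj (op T) :=
    (constantSheafAdj J AddCommGrpCat.{v'} hT).comp R.asEquivalence.symm.toAdjunction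
  let adj' : constantSheaf J AddCommGrpCat.{v'} ⋙ R.inv ⊣ (sheafSections K AddCommGrpCat.{v'}).obj (op (G.obj T)) :=
    adj.ofNatIsoRight (NatIso.ofComponents (fun _ => Iso.refl _) fun _ => by simp; rfl)
  let A := AddCommGrpCat.of (ULift.{v'} ℤ)
  let c : R.obj ((constantSheaf K AddCommGrpCat.{v'}).obj A) ≅ (constantSheaf J AddCommGrpCat.{v'}).obj A :=
    R.mapIso ((Adjunction.leftAdjointUniq (constantSheafAdj K AddCommGrpCat.{v'} hGT) adj').app A) ≪≫
      R.asEquivalence.counitIso.app _
  let m := R.mapExtAddHom ((constantSheaf K AddCommGrpCat.{v'}).obj A) F n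
  have hm : Function.Bijective m := R.mapExt_bijective_of_preservesInjectiveObjects _ _ _
  refine ⟨(AddEquiv.ofBijective m hm).trans
    { toFun := fun x => (Ext.mk₀ c.inv).comp x (zero_add n)
      invFun := fun x => (Ext.mk₀ c.hom).comp x (zero_add n)
      left_inv := fun x => by simp
      right_inv := fun x => by simp
      map_add' := fun x y => Ext.comp_add _ _ _ _ }⟩

end Transport

section Vanish

variable {S : Scheme.{u}} {X : Sp S} {T : Over S}

/-- Restriction of abelian sheaves to the small etale site of a chart. -/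
abbrev resChart (e : (yon S).obj T ≅ X) (he : RepWith @Etale e.hom) (F : AbEt X) : EtCoh.Ab T.left :=
  haveI := isDenseSubsite_ofChart e he
  haveI : (EtOver.ofChart e.hom he).IsContinuous T.left.smallEtaleTopology (etTop X) :=
    Functor.IsDenseSubsite.instIsContinuous _ _ _
  ((EtOver.ofChart e.hom he).sheafPushforwardContinuous AddCommGrpCat.{u + 1} T.left.smallEtaleTopology (etTop X)).obj F

/-- Etale cohomology of a space with a global chart. -/
theorem nonempty_HEt_equiv_chart (e : (yon S).obj T ≅ X) (he : RepWith @Etale e.hom) (F : AbEt X) (n : ℕ) :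
    Nonempty (HEt X F n ≃+ EtCoh.H T.left (resChart e he F) n) := by
  haveI := isDenseSubsite_ofChart e he
  haveI := isEquivalence_ofChart e he
  haveI : (EtOver.ofChart e.hom he).IsContinuous T.left.smallEtaleTopology (etTop X) :=
    Functor.IsDenseSubsite.instIsContinuous _ _ _
  have hT : IsTerminal (EtCoh.top T.left) := MorphismProperty.Over.mkIdTerminal EtCoh.etaleMP T.left
  exact nonempty_H_equiv_of_equivalence (EtOver.ofChart e.hom he) hT (IsTerminal.isTerminalObj _ _ hT) F n

/-- The ring of an object of a chart. -/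
def toRing (p : (yon S).obj T ⟶ X) (hp : RepWith @Etale p) (V : T.left.Etale) :
    Γ(V.left, ⊤) ≃+* Ring ((EtOver.ofChart p hp).obj V) :=
  (ULift.ringEquiv (R := Γ(V.left, ⊤))).symm

theorem rho_toRing (p : (yon S).obj T ⟶ X) (hp : RepWith @Etale p) {V V' : T.left.Etale} (g : V' ⟶ V)
    (a : Γ(V.left, ⊤)) :
    rho ((EtOver.ofChart p hp).map g) (toRing p hp V a) = toRing p hp V' (GaAux.res g a) := rfl

/-- The sections of a module over the objects of a chart, as modules over functions. -/
def chartMods (p : (yon S).obj T ⟶ X) (hp : RepWith @Etale p) (M : ModEt X) (hM : BC M) : ModsV.{u + 1} T.left where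
  A V := sec M ((EtOver.ofChart p hp).obj V)
  mdl V := Module.compHom (sec M ((EtOver.ofChart p hp).obj V)) (toRing p hp V).toRingHom
  r g := res M ((EtOver.ofChart p hp).map g)
  r_smul {U U'} g a m := (res_smul M ((EtOver.ofChart p hp).map g) (toRing p hp U a) m).trans
    (congrArg (fun t => t • res M ((EtOver.ofChart p hp).map g) m) (rho_toRing p hp g a))
  r_r g h m := by rw [← res_comp, Functor.map_comp]
  r_id {U} m := by
    rw [res_congr M ((EtOver.ofChart p hp).map_id U)]
    exact congrArg (fun f => f m) (congrArg (fun f => f.hom) (M.val.map_id (op ((EtOver.ofChart p hp).obj U))))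
  isBC {U U'} _ _ g _ _ _ halg ψ hψ := by
    let E := (EtOver.ofChart p hp).obj U
    let Z : Over E := Over.mk ((EtOver.ofChart p hp).map g)
    let r : Γ(U.left, ⊤) → Ring E := toRing p hp U
    let r' : Γ(U'.left, ⊤) → Ring Z.left := toRing p hp U'
    let q : Ring E → Γ(U.left, ⊤) := (toRing p hp U).symm
    let q' : Ring Z.left → Γ(U'.left, ⊤) := (toRing p hp U').symm
    have hrq : ∀ a, r (q a) = a := (toRing p hp U).apply_symm_apply
    have hqr : ∀ a, q' (r' a) = a := (toRing p hp U').symm_apply_apply
    have hrq' : ∀ a, r' (q' a) = a := (toRing p hp U').apply_symm_apply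
    have hr'add : ∀ a b, r' (a + b) = r' a + r' b := map_add (toRing p hp U')
    have hq'add : ∀ a b, q' (a + b) = q' a + q' b := map_add (toRing p hp U').symm
    have hr'mul : ∀ a b, r' (a * b) = r' a * r' b := map_mul (toRing p hp U')
    have hq'mul : ∀ a b, q' (a * b) = q' a * q' b := map_mul (toRing p hp U').symm
    have hral : ∀ a, r' (algebraMap Γ(U.left, ⊤) Γ(U'.left, ⊤) a) = algebraMap (Ring E) (Ring Z.left) (r a) :=
      fun a => by rw [halg]; exact (rho_toRing p hp g a).symm
    have hqal : ∀ a, q' (algebraMap (Ring E) (Ring Z.left) a) = algebraMap Γ(U.left, ⊤) Γ(U'.left, ⊤) (q a) :=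
      fun a => by rw [← hqr (algebraMap Γ(U.left, ⊤) Γ(U'.left, ⊤) (q a)), hral, hrq]
    have hE : IsAffine E.obj.left.left := ‹IsAffine U.left›
    have hb : Function.Bijective (ev M Z) := hM E hE Z ‹IsAffine U'.left›
    letI : Module Γ(U.left, ⊤) (sec M E) := Module.compHom (sec M E) (toRing p hp U).toRingHom
    have hsm : ∀ (a : Γ(U.left, ⊤)) (m : sec M E), a • m = r a • m := fun _ _ => rfl
    let θ : Γ(U'.left, ⊤) ⊗[Γ(U.left, ⊤)] sec M E →+ Ring Z.left ⊗[Ring E] sec M E :=
      TensorProduct.liftAddHom
        (AddMonoidHom.mk' (fun b => AddMonoidHom.mk' (fun m => r' b ⊗ₜ[Ring E] m)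
            fun m m' => TensorProduct.tmul_add _ m m')
          fun b b' => AddMonoidHom.ext fun m => (congrArg (· ⊗ₜ[Ring E] m) (hr'add b b')).trans
            (TensorProduct.add_tmul (r' b) (r' b') m))
        fun a b m => by
          change r' (a • b) ⊗ₜ[Ring E] m = r' b ⊗ₜ[Ring E] (a • m)
          rw [hsm, TensorProduct.tmul_smul, TensorProduct.smul_tmul', Algebra.smul_def, Algebra.smul_def, hr'mul, hral]
    let θ' : Ring Z.left ⊗[Ring E] sec M E →+ Γ(U'.left, ⊤) ⊗[Γ(U.left, ⊤)] sec M E :=
      TensorProduct.liftAddHom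
        (AddMonoidHom.mk' (fun b => AddMonoidHom.mk' (fun m => q' b ⊗ₜ[Γ(U.left, ⊤)] m)
            fun m m' => TensorProduct.tmul_add _ m m')
          fun b b' => AddMonoidHom.ext fun m => (congrArg (· ⊗ₜ[Γ(U.left, ⊤)] m) (hq'add b b')).trans
            (TensorProduct.add_tmul (q' b) (q' b') m))
        fun a b m => by
          change q' (a • b) ⊗ₜ[Γ(U.left, ⊤)] m = q' b ⊗ₜ[Γ(U.left, ⊤)] (a • m)
          rw [show a • m = q a • m from by rw [hsm, hrq], TensorProduct.tmul_smul, TensorProduct.smul_tmul',
            Algebra.smul_def, Algebra.smul_def, hq'mul, hqal]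
    have hθ : Function.Bijective θ := Function.bijective_iff_has_inverse.2 ⟨θ',
      fun x => by
        induction x using TensorProduct.induction_on with
        | zero => simp
        | tmul b m => exact congrArg (· ⊗ₜ[Γ(U.left, ⊤)] m) (hqr b)
        | add x y hx hy => simp only [map_add, hx, hy],
      fun x => by
        induction x using TensorProduct.induction_on with
        | zero => simp
        | tmul b m => exact congrArg (· ⊗ₜ[Ring E] m) (hrq' b)
        | add x y hx hy => simp only [map_add, hx, hy]⟩
    letI : Module Γ(U'.left, ⊤) (sec M ((EtOver.ofChart p hp).obj U')) :=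
      Module.compHom (sec M ((EtOver.ofChart p hp).obj U')) (toRing p hp U').toRingHom
    let Φ := LinearMap.liftBaseChange Γ(U'.left, ⊤) ψ
    have key : ∀ x, Φ x = ev M Z (θ x) := fun x => by
      induction x using TensorProduct.induction_on with
      | zero => rw [map_zero, map_zero]; exact (map_zero ((evalMap (M.over E)).app (op Z)).hom).symm
      | tmul b m =>
        show Φ (b ⊗ₜ m) = _
        simp only [Φ, LinearMap.liftBaseChange_tmul, hψ]
        exact (ev_tmul M Z (r' b) m).symm
      | add x y hx hy =>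
        rw [map_add, map_add, hx, hy]
        exact (map_add ((evalMap (M.over E)).app (op Z)).hom _ _).symm
    have hΦ : Function.Bijective Φ := by
      rw [show ⇑Φ = fun x => ev M Z (θ x) from funext key]
      exact hb.comp hθ
    exact IsBaseChange.of_equiv (LinearEquiv.ofBijective Φ hΦ) fun m => by simp [Φ]

/-- A quasi-coherent module restricted to a chart is Čech acyclic on affine objects. -/
theorem cechAcyclicA_resChart (e : (yon S).obj T ≅ X) (he : RepWith @Etale e.hom) (M : ModEt X) (hM : BC M) :
    CechAcyclicA (resChart e he ((toAbEt X).obj M)) :=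
  cechAcyclicA_of_modsV (chartMods e.hom he M hM) (fun V => AddMonoidHom.id _) (fun V => Function.bijective_id)
    fun _ _ => rfl

/-- Quasi-coherent cohomology of an affine space vanishes in positive degrees. -/
theorem subsingleton_HModEt_of_affine [IsAffine T.left] (e : (yon S).obj T ≅ X) (M : ModEt X) [M.IsQuasicoherent]
    {i : ℕ} (hi : 0 < i) : Subsingleton (HModEt X M i) := by
  have he : RepWith @Etale e.hom := AlgSpLib.repWith_of_isIso e.hom
  obtain ⟨f⟩ := nonempty_HEt_equiv_chart e he ((toAbEt X).obj M) i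
  obtain ⟨q, rfl⟩ : ∃ q, i = q + 1 := ⟨i - 1, by omega⟩
  haveI := subsingleton_H_cechAcyclicA (X := T.left) q _ (cechAcyclicA_resChart e he M (bc_of_isQuasicoherent M))
  exact f.toEquiv.subsingleton

end Vanish

end ModEtQc
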