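import Groth.Agent.ModEtQcLib.Exact
import Groth.Agent.AlgSpLib.Noeth
import Mathlib.RingTheory.Finiteness.Basic
import Mathlib.RingTheory.Noetherian.Basic

/-!
# Coherent modules on a locally Noetherian algebraic space
-/

set_option autoImplicit false
set_option backward.isDefEq.respectTransparency false
set_option backward.isDefEq.respectTransparency.types false
universe u
open CategoryTheory CategoryTheory.Limits AlgebraicGeometry Opposite AlgSp TopologicalSpace
open scoped TensorProduct

noncomputable section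

namespace ModEtQc

variable {S : Scheme.{u}} {X : Sp S}

theorem isNoetherianRing_ring (hX : IsLocNoethSp X) (E : EtOver X) [IsAffine E.obj.left.left] :
    IsNoetherianRing (Ring E) := by
  have := AlgSpLib.isLocallyNoetherian_of_chart hX E.property
  have h : IsNoetherianRing Γ(E.obj.left.left, ⊤) :=
    IsLocallyNoetherian.component_noetherian ⟨⊤, isAffineOpen_top E.obj.left.left⟩
  exact isNoetherianRing_of_ringEquiv Γ(E.obj.left.left, ⊤) (ULift.ringEquiv (R := Γ(E.obj.left.left, ⊤))).symm

section Slice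

variable {E₀ : EtOver X}

/-- The free module of functions. -/
abbrev ringMod (E₀ : EtOver X) : ModuleCat.{u + 1} (Ring E₀) := ModuleCat.of (Ring E₀) (Ring E₀)

theorem finite_coprod (I : Type (u + 1)) [Finite I] :
    Module.Finite (Ring E₀) (∐ fun _ : I => ringMod E₀ : ModuleCat.{u + 1} (Ring E₀)) := by
  let N : Submodule (Ring E₀) (∐ fun _ : I => ringMod E₀ : ModuleCat.{u + 1} (Ring E₀)) :=
    Submodule.span (Ring E₀) (Set.range fun i => Sigma.ι (fun _ : I => ringMod E₀) i (1 : Ring E₀))
  have hq : ModuleCat.ofHom N.mkQ = 0 := by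
    refine Sigma.hom_ext _ _ fun i => ModuleCat.hom_ext (LinearMap.ext fun a => ?_)
    rw [comp_zero]
    change N.mkQ (Sigma.ι (fun _ : I => ringMod E₀) i a) = 0
    rw [Submodule.mkQ_apply, Submodule.Quotient.mk_eq_zero]
    have : Sigma.ι (fun _ : I => ringMod E₀) i a = (show Ring E₀ from a) • Sigma.ι (fun _ : I => ringMod E₀) i (1 : Ring E₀) := by
      refine Eq.trans ?_ (map_smul (Sigma.ι (fun _ : I => ringMod E₀) i).hom _ _)
      exact congrArg _ (mul_one (show Ring E₀ from a)).symm
    rw [this]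
    exact N.smul_mem _ (Submodule.subset_span ⟨i, rfl⟩)
  have hN : N = ⊤ := by
    refine eq_top_iff.2 fun x _ => ?_
    rw [← Submodule.Quotient.mk_eq_zero]
    exact congrArg (fun φ => φ x) hq
  exact Module.finite_def.2 (hN ▸ Submodule.fg_span (Set.finite_range _))

theorem finite_of_generators [IsAffine E₀.obj.left.left] {G : ModEtOn E₀} (σ : G.GeneratingSections) [σ.IsFiniteType]
    (h : IsTilde G) : Module.Finite (Ring E₀) ((Γt E₀).obj G) := by
  haveI := isIso_unit (E₀ := E₀)
  haveI := isIso_counit_of_isTilde h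
  haveI := finite_coprod (E₀ := E₀) σ.I
  obtain ⟨e⟩ := isIso_tilde_ring (E₀ := E₀)
  let ψ : (tildeF E₀).obj (∐ fun _ : σ.I => ringMod E₀) ⟶ G :=
    (PreservesCoproduct.iso (tildeF E₀) _ ≪≫ Sigma.mapIso fun _ => e).hom ≫ σ.π
  let a := (tildeAdj E₀).homEquiv _ _ ψ
  have ha : (tildeF E₀).map a ≫ (tildeAdj E₀).counit.app G = ψ := by
    exact ((tildeAdj E₀).homEquiv_counit _ _ a).symm.trans (((tildeAdj E₀).homEquiv _ _).symm_apply_apply ψ)
  haveI : Epi ((tildeF E₀).map a) := by
    rw [show (tildeF E₀).map a = ψ ≫ inv ((tildeAdj E₀).counit.app G) by rw [← ha, Category.assoc, IsIso.hom_inv_id, Category.comp_id]]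
    haveI : Epi σ.π := σ.epi
    infer_instance
  haveI := (tildeAdj E₀).fullyFaithfulLOfIsIsoUnit.faithful
  haveI : Epi a := (tildeF E₀).epi_of_epi_map ‹_›
  exact Module.Finite.of_surjective a.hom ((ModuleCat.epi_iff_surjective a).1 ‹_›)

theorem exists_finite_presentation_of_isTilde [IsNoetherianRing (Ring E₀)] {M : ModEtOn E₀} (h : IsTilde M)
    [Module.Finite (Ring E₀) ((Γt E₀).obj M)] : ∃ P : M.Presentation, P.IsFinite := by
  haveI := isIso_counit_of_isTilde h
  obtain ⟨e⟩ := isIso_tilde_ring (E₀ := E₀)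
  let A := ringMod E₀
  let N : ModuleCat.{u + 1} (Ring E₀) := (Γt E₀).obj M
  obtain ⟨n, s, hs⟩ := Module.Finite.exists_fin (R := Ring E₀) (M := N)
  let J : Type (u + 1) := ULift.{u + 1} (Fin n)
  let π : (∐ fun _ : J => A) ⟶ N := Sigma.desc fun j => ModuleCat.ofHom (LinearMap.toSpanSingleton (Ring E₀) N (s j.down))
  haveI : Epi π := by
    refine (ModuleCat.epi_iff_surjective π).2 (LinearMap.range_eq_top.1 (eq_top_iff.2 (hs.symm.le.trans ?_)))
    rw [Submodule.span_le]
    rintro _ ⟨j, rfl⟩
    refine ⟨Sigma.ι (fun _ : J => A) ⟨j⟩ (1 : Ring E₀), ?_⟩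
    have := congrArg (fun q : A ⟶ N => q (1 : Ring E₀))
      (Sigma.ι_desc (fun j => ModuleCat.ofHom (LinearMap.toSpanSingleton (Ring E₀) N (s j.down))) (⟨j⟩ : J))
    exact this.trans (one_smul _ _)
  let K : ModuleCat.{u + 1} (Ring E₀) := kernel π
  haveI := finite_coprod (E₀ := E₀) J
  haveI : Module.Finite (Ring E₀) K :=
    Module.Finite.of_injective (kernel.ι π).hom ((ModuleCat.mono_iff_injective _).1 inferInstance)
  obtain ⟨m, t, htk⟩ := Module.Finite.exists_fin (R := Ring E₀) (M := K)
  let I : Type (u + 1) := ULift.{u + 1} (Fin m)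
  let κ : (∐ fun _ : I => A) ⟶ K := Sigma.desc fun j => ModuleCat.ofHom (LinearMap.toSpanSingleton (Ring E₀) K (t j.down))
  haveI : Epi κ := by
    refine (ModuleCat.epi_iff_surjective κ).2 (LinearMap.range_eq_top.1 (eq_top_iff.2 (htk.symm.le.trans ?_)))
    rw [Submodule.span_le]
    rintro _ ⟨j, rfl⟩
    refine ⟨Sigma.ι (fun _ : I => A) ⟨j⟩ (1 : Ring E₀), ?_⟩
    have := congrArg (fun q : A ⟶ K => q (1 : Ring E₀))
      (Sigma.ι_desc (fun j => ModuleCat.ofHom (LinearMap.toSpanSingleton (Ring E₀) K (t j.down))) (⟨j⟩ : I))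
    exact this.trans (one_smul _ _)
  have hz : (κ ≫ kernel.ι π) ≫ π = 0 := by rw [Category.assoc, kernel.condition, comp_zero]
  have hc : IsColimit (CokernelCofork.ofπ π hz) :=
    isCokernelEpiComp (c := CokernelCofork.ofπ _ (kernel.condition π))
      (Abelian.epiIsCokernelOfKernel _ (limit.isLimit _)) _ rfl
  let i : ∀ J : Type (u + 1), (tildeF E₀).obj (∐ fun _ : J => A) ≅ SheafOfModules.free (R := OEtOn E₀) J := fun J =>
    PreservesCoproduct.iso (tildeF E₀) _ ≪≫ Sigma.mapIso fun _ => e
  let f := (i I).inv ≫ (tildeF E₀).map (κ ≫ kernel.ι π) ≫ (i J).hom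
  let g := (i J).inv ≫ (tildeF E₀).map π ≫ (tildeAdj E₀).counit.app M
  have hfg : f ≫ g = 0 := by
    simp only [f, g, Category.assoc, Iso.hom_inv_id_assoc, ← Functor.map_comp_assoc, hz]
    simp
  refine ⟨SheafOfModules.presentationOfIsCokernelFree f g hfg
    (IsColimit.equivOfNatIsoOfIso (parallelPair.ext (i I) (i J) (by simp [f]) (by simp)) _ _
      (Cofork.ext (asIso ((tildeAdj E₀).counit.app M)) (Category.assoc _ _ _))
      (isColimitOfPreserves (tildeF E₀) hc)), ?_⟩
  exact { isFiniteType_generators := ⟨inferInstanceAs (Finite J)⟩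
          isFiniteType_relations := ⟨inferInstanceAs (Finite I)⟩ }

end Slice

theorem mkQ_lTensor_mono {A : Type (u + 1)} [CommRing A] {B N : Type (u + 1)} [AddCommGroup B] [Module A B]
    [AddCommGroup N] [Module A N] {P Q : Submodule A N} (h : P ≤ Q) {x : B ⊗[A] N}
    (hx : P.mkQ.lTensor B x = 0) : Q.mkQ.lTensor B x = 0 := by
  rw [← Submodule.factor_comp_mk h, LinearMap.lTensor_comp, LinearMap.comp_apply, hx, map_zero]

theorem exists_fg_mem_range {A : Type (u + 1)} [CommRing A] {B N : Type (u + 1)} [AddCommGroup B] [Module A B]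
    [AddCommGroup N] [Module A N] (x : B ⊗[A] N) :
    ∃ N' : Submodule A N, N'.FG ∧ N'.mkQ.lTensor B x = 0 := by
  induction x using TensorProduct.induction_on with
  | zero => exact ⟨⊥, Submodule.fg_bot, map_zero _⟩
  | tmul b n =>
    refine ⟨Submodule.span A {n}, Submodule.fg_span_singleton n, ?_⟩
    rw [LinearMap.lTensor_tmul, Submodule.mkQ_apply, (Submodule.Quotient.mk_eq_zero _).2 (Submodule.mem_span_singleton_self n),
      TensorProduct.tmul_zero]
  | add x y hx hy =>
    obtain ⟨P, hP, hPx⟩ := hx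
    obtain ⟨Q, hQ, hQy⟩ := hy
    refine ⟨P ⊔ Q, hP.sup hQ, ?_⟩
    rw [map_add, mkQ_lTensor_mono le_sup_left hPx, mkQ_lTensor_mono le_sup_right hQy, add_zero]

theorem evS_smul (M : ModEt X) {E : EtOver X} (Z : Over E) (b : Ring Z.left) (x : Ring Z.left ⊗[Ring E] sec M E) :
    evS M Z (b • x) = b • evS M Z x := by
  induction x using TensorProduct.induction_on with
  | zero => simp
  | tmul r m => rw [TensorProduct.smul_tmul', evS_tmul, evS_tmul, smul_eq_mul, mul_smul]
  | add x y hx hy => rw [smul_add, map_add, map_add, smul_add, hx, hy]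

/-- The sections over affine objects of a quasi-coherent module of finite type are finite. -/
theorem finite_sec (M : ModEt X) [hft : M.IsFiniteType] (h : BC M) (E : EtOver X) [IsAffine E.obj.left.left] :
    Module.Finite (Ring E) (sec M E) := by
  classical
  obtain ⟨σ, hσ⟩ := hft.exists_localGeneratorsData
  obtain ⟨n, Y₀, g₀, hY, hg, hcov⟩ := exists_finite_affine_refinement (σ.coversTop E)
  let Y : Fin n → Over E := fun i => Over.mk (g₀ i)
  haveI : ∀ i, IsAffine (Y i).left.obj.left.left := hY
  have hfin : ∀ i, Module.Finite (Ring (Y i).left) (sec M (Y i).left) := fun i => by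
    obtain ⟨j, ⟨a⟩⟩ := hg i
    haveI : (SheafOfModules.overMap.{u + 1} (OEtRing X) a).IsLeftAdjoint :=
      (SheafOfModules.overMapPushforwardAdj (OEtRing X) a).isLeftAdjoint
    haveI := hσ.isFiniteType j
    exact finite_of_generators
      (((σ.generators j).map (SheafOfModules.overMap (OEtRing X) a) (SheafOfModules.overMapUnitIso a).symm).ofEpi
        ((SheafOfModules.overFunctorMap (OEtRing X) a).app M).hom)
      (h (Y i).left (hY i))
  have hN : ∀ i, ∃ N : Submodule (Ring E) (sec M E), N.FG ∧
      ∀ x : Ring (Y i).left ⊗[Ring E] sec M E, N.mkQ.lTensor (Ring (Y i).left) x = 0 := fun i => by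
    have hev := (isTilde_iff_evS M E).1 (h E ‹_›) (Y i) (hY i)
    obtain ⟨k, s, hs⟩ := (hfin i).exists_fin
    choose x hx using fun l => hev.2 (s l)
    choose P hP hPx using fun l => exists_fg_mem_range (x l)
    refine ⟨⨆ l, P l, Submodule.fg_iSup _ hP, fun y => ?_⟩
    let q : Ring (Y i).left ⊗[Ring E] sec M E →ₗ[Ring (Y i).left] Ring (Y i).left ⊗[Ring E] (sec M E ⧸ ⨆ l, P l) :=
      TensorProduct.AlgebraTensorModule.lTensor (Ring (Y i).left) (Ring (Y i).left) (⨆ l, P l).mkQ
    change q y = 0
    have hq : ∀ l, q (x l) = 0 := fun l => by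
      change (⨆ l, P l).mkQ.lTensor (Ring (Y i).left) (x l) = 0
      exact mkQ_lTensor_mono (le_iSup P l) (hPx l)
    obtain ⟨c, hc⟩ := (Submodule.mem_span_range_iff_exists_fun _).1 (hs ▸ Submodule.mem_top : evS M (Y i) y ∈ _)
    have : y = ∑ l, c l • x l := hev.1 (by simp only [map_sum, evS_smul, hx, hc])
    rw [this, map_sum]
    exact Finset.sum_eq_zero fun l _ => by rw [map_smul, hq, smul_zero]
  choose N hN hNx using hN
  have hfam : FaithfulFamily (Ring E) (fun i => Ring (Y i).left) :=
    faithfulFamily_of_flat _ (fun i => RingHom.flat_algebraMap_iff.1 (flat_rho (Y i).hom))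
      (surjective_comap (fun i => (Y i).left) (fun i => (Y i).hom) hcov)
  refine Module.finite_def.2 (?_ : (⊤ : Submodule (Ring E) (sec M E)).FG)
  rw [show (⊤ : Submodule (Ring E) (sec M E)) = ⨆ i, N i from (eq_top_iff.2 fun m _ => ?_).symm]
  · exact Submodule.fg_iSup _ hN
  · rw [← Submodule.Quotient.mk_eq_zero]
    refine hfam _ _ fun i => ?_
    have e : (⨆ i, N i).mkQ.lTensor (Ring (Y i).left) ((1 : Ring (Y i).left) ⊗ₜ[Ring E] m) = 0 := by
      exact mkQ_lTensor_mono (le_iSup N i) (hNx i _)
    exact e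

/-- On a locally Noetherian space, quasi-coherent modules with finite sections are of finite presentation. -/
theorem isFinitePresentation_of_bc (hX : IsLocNoethSp X) (M : ModEt X) (h : BC M)
    (hf : ∀ E : EtOver X, IsAffine E.obj.left.left → Module.Finite (Ring E) (sec M E)) : M.IsFinitePresentation := by
  have hp : ∀ E : {E : EtOver X // IsAffine E.obj.left.left}, ∃ P : (M.over E.1).Presentation, P.IsFinite := fun E => by
    haveI := E.2
    haveI := isNoetherianRing_ring hX E.1
    haveI : Module.Finite (Ring E.1) ((Γt E.1).obj (M.over E.1)) := hf E.1 E.2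
    exact exists_finite_presentation_of_isTilde (h E.1 E.2)
  choose P hP using hp
  have hc : (etTop X).CoversTop (fun E : {E : EtOver X // IsAffine E.obj.left.left} => E.1) := by
    intro E
    obtain ⟨ι, Y, g, hY, hc⟩ := exists_affine_cover E
    refine (etTop X).superset_covering ?_ (ofArrows_mem_etTop Y g hc)
    rw [Sieve.generate_le_iff]
    intro Y' q hq
    obtain ⟨i⟩ := hq
    exact ⟨⟨_, hY i⟩, ⟨𝟙 _⟩⟩
  let σ : SheafOfModules.QuasicoherentData (J := etTop X) (R := OEtRing X) M :=
    { I := {E : EtOver X // IsAffine E.obj.left.left}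
      X := fun E => E.1
      coversTop := hc
      presentation := P }
  haveI : σ.IsFinitePresentation := { isFinite_presentation := fun i => hP i }
  exact { exists_quasicoherentData := ⟨σ, this⟩ }

variable (hX : IsLocNoethSp X)
include hX

theorem fp_of_mono {M N : ModEt X} [M.IsFinitePresentation] (ι : N ⟶ M) [Mono ι] (hN : BC N) :
    N.IsFinitePresentation :=
  isFinitePresentation_of_bc hX N hN fun E hE => by
    haveI := hE
    haveI := isNoetherianRing_ring hX E
    haveI := finite_sec M (bc_of_isQuasicoherent M) E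
    exact Module.Finite.of_injective (appS ι E) (injective_appS ι E)

theorem fp_of_epi {M Q : ModEt X} [M.IsFinitePresentation] (π : M ⟶ Q) [Epi π] (hQ : BC Q) :
    Q.IsFinitePresentation :=
  isFinitePresentation_of_bc hX Q hQ fun E hE => by
    haveI := hE
    haveI := finite_sec M (bc_of_isQuasicoherent M) E
    have hT : (ShortComplex.mk (kernel.ι π) π (kernel.condition π)).ShortExact :=
      { exact := ShortComplex.exact_kernel π }
    exact Module.Finite.of_surjective (appS π E)
      (surjective_appS hT (bc_left (T := ShortComplex.mk (kernel.ι π) π (kernel.condition π))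
        (ShortComplex.exact_kernel π) (bc_of_isQuasicoherent M) hQ) E)

theorem fp_middle {T : ShortComplex (ModEt X)} (hT : T.ShortExact) [T.X₁.IsFinitePresentation]
    [T.X₃.IsFinitePresentation] : T.X₂.IsFinitePresentation :=
  isFinitePresentation_of_bc hX _ (bc_middle hT (bc_of_isQuasicoherent _) (bc_of_isQuasicoherent _)) fun E hE => by
    haveI := hE
    haveI := hT.mono_f
    haveI := finite_sec T.X₁ (bc_of_isQuasicoherent _) E
    haveI := finite_sec T.X₃ (bc_of_isQuasicoherent _) E
    refine Module.finite_def.2 (Submodule.fg_of_fg_map_of_fg_inf_ker (appS T.g E) ?_ ?_)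
    · rw [Submodule.map_top, LinearMap.range_eq_top.2 (surjective_appS hT (bc_of_isQuasicoherent _) E)]
      exact Module.Finite.fg_top
    · rw [top_inf_eq, (exact_appS hT.exact E).linearMap_ker_eq, ← Submodule.map_top]
      exact Module.Finite.fg_top.map _

end ModEtQc
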