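import Groth.Agent.ModEtQcLib.FP
import Groth.Agent.ModEtQcLib.PushQc
import Groth.Agent.ModEtQcLib.Pullback
import Groth.Agent.AlgSpLib.MorPack
import Groth.Agent.AlgSpLib.EtLocProp
import Mathlib.RingTheory.Finiteness.ModuleFinitePresentation
import Mathlib.AlgebraicGeometry.Morphisms.FinitePresentation

/-!
# Finiteness of direct images along finite morphisms
-/

set_option autoImplicit false
set_option backward.isDefEq.respectTransparency false
set_option backward.isDefEq.respectTransparency.types false
universe u
open CategoryTheory CategoryTheory.Limits AlgebraicGeometry Opposite AlgSp TopologicalSpace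
open scoped TensorProduct

noncomputable section

namespace ModEtQc

theorem fp_iff_of_finite {A B M : Type*} [CommRing A] [CommRing B] [Algebra A B] [AddCommGroup M] [Module A M]
    [Module B M] [IsScalarTower A B M] [Module.Finite A B] [Module.FinitePresentation A B] :
    Module.FinitePresentation A M ↔ Module.FinitePresentation B M := by
  refine ⟨fun h => ?_, fun h => Module.FinitePresentation.trans A M B⟩
  haveI := Module.Finite.of_restrictScalars_finite A B M
  obtain ⟨r, π, hπ⟩ := Module.Finite.exists_fin' B M
  refine Module.finitePresentation_of_surjective π hπ ?_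
  refine Submodule.FG.of_restrictScalars A ?_
  exact Module.FinitePresentation.fg_ker (π.restrictScalars A) hπ

variable {S : Scheme.{u}} {X Y : Sp S} {f : X ⟶ Y} (hf : Representable f)

theorem coversTop_bc (hY : IsAlgSpace Y) :
    (etTop X).CoversTop (fun E : {E : EtOver Y // IsAffine E.obj.left.left} => EtOver.bcObj hf E.1) := by
  intro E
  obtain ⟨U, p, hp, hps⟩ := hY.atlas
  let V₀ : EtOver Y := EtOver.mk p hp
  let W₀ := (EtOver.bc hf).obj V₀
  have hW : RepWith @Surjective W₀.obj.hom :=
    (repWith_isStableUnderBaseChange (S := S) @Surjective).of_isPullback (hf.isPullback p).flip hps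
  have hsurj : Surjective (EtOver.prodFst E W₀).hom.left.left :=
    ((repWith_iff @Surjective W₀.obj.hom).1 hW).2 E.obj.hom _ _ (W₀.property.1.isPullback E.obj.hom)
  refine (etTop X).transitive (ofArrows_mem_etTop (fun _ : PUnit.{1} => EtOver.prodObj E W₀)
    (fun _ => EtOver.prodFst E W₀) (fun x => ⟨⟨⟩, hsurj.surj x⟩) : Sieve.ofArrows _ _ ∈ etTop X E) _ ?_
  rintro Z k ⟨P', a, b, ⟨_⟩, rfl⟩
  obtain ⟨ι, V, g, hV, hc⟩ := exists_affine_cover V₀
  refine (etTop X).superset_covering ?_ ((etTop X).pullback_stable (a ≫ EtOver.prodSnd E W₀)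
    ((coverPreserving_bc hf).cover_preserve (ofArrows_mem_etTop V g hc : Sieve.ofArrows V g ∈ etTop _ V₀)))
  rintro T t ⟨Q, q, c, ⟨Q', j, i₀, ⟨i⟩, rfl⟩, -⟩
  exact ⟨⟨V i, hV i⟩, ⟨c ≫ (EtOver.bc hf).map j⟩⟩

variable (hfin : IsFiniteMor f)

include hfin in
theorem finite_snd (E : EtOver Y) : IsFinite (hf.snd E.obj.hom).left :=
  ((repWith_iff @IsFinite f).1 (AlgSpLib.isFiniteMor_iff.1 hfin)).2 E.obj.hom _ _ (hf.isPullback E.obj.hom)

include hfin in
theorem isAffine_bcObj (E : EtOver Y) [IsAffine E.obj.left.left] : IsAffine (EtOver.bcObj hf E).obj.left.left := by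
  haveI := finite_snd hf hfin E
  exact isAffine_of_isAffineHom (hf.snd E.obj.hom).left

include hfin in
theorem finite_bcRho (E : EtOver Y) [IsAffine E.obj.left.left] : (bcRho hf E).Finite := by
  haveI := isAffine_bcObj hf hfin E
  haveI := finite_snd hf hfin E
  rw [bcRho_eq]
  exact (RingHom.Finite.of_surjective _ (ULift.ringEquiv (R := Γ((EtOver.bcObj hf E).obj.left.left, ⊤))).symm.surjective).comp
    (((HasAffineProperty.iff_of_isAffine (P := @IsFinite)).1 ‹IsFinite (hf.snd E.obj.hom).left›).2.comp
      (RingHom.Finite.of_surjective _ (ULift.ringEquiv (R := Γ(E.obj.left.left, ⊤))).surjective))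

include hfin in
theorem bc_push_finite (F : ModEt X) (hF : BC F) : BC ((pushModEt hf).obj F) :=
  bc_push hf F hF fun E hE => by
    haveI := hE
    haveI := isAffine_bcObj hf hfin E
    exact ⟨inferInstance, inferInstance⟩

include hfin in
theorem finite_push_iff (F : ModEt X) (E : EtOver Y) [IsAffine E.obj.left.left] :
    Module.Finite (Ring E) (sec ((pushModEt hf).obj F) E) ↔
      Module.Finite (Ring (EtOver.bcObj hf E)) (sec F (EtOver.bcObj hf E)) := by
  let A := Ring E
  let B := Ring (EtOver.bcObj hf E)
  letI : Algebra A B := (bcRho hf E).toAlgebra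
  haveI : Module.Finite A B := finite_bcRho hf hfin E
  letI : Module A (sec F (EtOver.bcObj hf E)) := Module.compHom _ (bcRho hf E)
  haveI : IsScalarTower A B (sec F (EtOver.bcObj hf E)) := IsScalarTower.of_algebraMap_smul fun _ _ => rfl
  change Module.Finite A (sec F (EtOver.bcObj hf E)) ↔ _
  exact ⟨fun _ => Module.Finite.of_restrictScalars_finite A B _, fun _ => Module.Finite.trans B _⟩

include hfin in
theorem fp_push_iff (hlfp : RepWith @LocallyOfFinitePresentation f) (F : ModEt X) (E : EtOver Y)
    [IsAffine E.obj.left.left] :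
    Module.FinitePresentation (Ring E) (sec ((pushModEt hf).obj F) E) ↔
      Module.FinitePresentation (Ring (EtOver.bcObj hf E)) (sec F (EtOver.bcObj hf E)) := by
  let A := Ring E
  let B := Ring (EtOver.bcObj hf E)
  haveI := isAffine_bcObj hf hfin E
  haveI : LocallyOfFinitePresentation (hf.snd E.obj.hom).left :=
    ((repWith_iff @LocallyOfFinitePresentation f).1 hlfp).2 E.obj.hom _ _ (hf.isPullback E.obj.hom)
  haveI : IsAffine (hf.pullback E.obj.hom).left := isAffine_bcObj hf hfin E
  haveI : IsAffine E.obj.left.left := ‹_›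
  have hfp : (bcRho hf E).FinitePresentation := by
    rw [bcRho_eq]
    exact (RingHom.FinitePresentation.of_bijective
      (f := (ULift.ringEquiv (R := Γ((EtOver.bcObj hf E).obj.left.left, ⊤))).symm.toRingHom)
      (ULift.ringEquiv (R := Γ((EtOver.bcObj hf E).obj.left.left, ⊤))).symm.bijective).comp
      (((HasRingHomProperty.iff_of_isAffine (P := @LocallyOfFinitePresentation)).1
        ‹LocallyOfFinitePresentation (hf.snd E.obj.hom).left›).comp
        (RingHom.FinitePresentation.of_bijective (f := (ULift.ringEquiv (R := Γ(E.obj.left.left, ⊤))).toRingHom) (ULift.ringEquiv (R := Γ(E.obj.left.left, ⊤))).bijective))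
  letI : Algebra A B := (bcRho hf E).toAlgebra
  haveI : Module.Finite A B := finite_bcRho hf hfin E
  haveI : Algebra.FinitePresentation A B := hfp
  haveI : Module.FinitePresentation A B := Module.FinitePresentation.of_finite_of_finitePresentation A B
  letI : Module A (sec F (EtOver.bcObj hf E)) := Module.compHom _ (bcRho hf E)
  haveI : IsScalarTower A B (sec F (EtOver.bcObj hf E)) := IsScalarTower.of_algebraMap_smul fun _ _ => rfl
  change Module.FinitePresentation A (sec F (EtOver.bcObj hf E)) ↔ _
  exact fp_iff_of_finite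

include hfin in
theorem isFiniteType_push_iff (hY : IsAlgSpace Y) (F : ModEt X) (hF : BC F) :
    F.IsFiniteType ↔ ((pushModEt hf).obj F).IsFiniteType := by
  constructor
  · intro h
    refine isFiniteType_of_cover _ (bc_push_finite hf hfin F hF) _ (fun E => E.2) coversTop_affine fun E => ?_
    haveI := E.2
    haveI := isAffine_bcObj hf hfin E.1
    exact (finite_push_iff hf hfin F E.1).2 (finite_sec F hF _)
  · intro h
    refine isFiniteType_of_cover F hF (fun E : {E : EtOver Y // IsAffine E.obj.left.left} => EtOver.bcObj hf E.1)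
      (fun E => by haveI := E.2; exact isAffine_bcObj hf hfin E.1) (coversTop_bc hf hY) fun E => ?_
    haveI := E.2
    exact (finite_push_iff hf hfin F E.1).1 (finite_sec _ (bc_push_finite hf hfin F hF) E.1)

include hfin in
theorem isFinitePresentation_push_iff (hY : IsAlgSpace Y) (hlfp : RepWith @LocallyOfFinitePresentation f)
    (F : ModEt X) (hF : BC F) : F.IsFinitePresentation ↔ ((pushModEt hf).obj F).IsFinitePresentation := by
  constructor
  · intro h
    refine isFinitePresentation_of_cover _ (bc_push_finite hf hfin F hF) _ (fun E => E.2) coversTop_affine fun E => ?_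
    haveI := E.2
    haveI := isAffine_bcObj hf hfin E.1
    exact (fp_push_iff hf hfin hlfp F E.1).2 (fp_sec F _)
  · intro h
    refine isFinitePresentation_of_cover F hF (fun E : {E : EtOver Y // IsAffine E.obj.left.left} => EtOver.bcObj hf E.1)
      (fun E => by haveI := E.2; exact isAffine_bcObj hf hfin E.1) (coversTop_bc hf hY) fun E => ?_
    haveI := E.2
    exact (fp_push_iff hf hfin hlfp F E.1).1 (fp_sec _ E.1)

end ModEtQc

namespace ModEtQc

variable {S : Scheme.{u}} {X Y : Sp S} {f : X ⟶ Y}

/-- A finite direct image of a coherent module on a locally Noetherian space is coherent. -/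
theorem isFinitePresentation_push_of_locNoeth (hf : Representable f) (hfin : IsFiniteMor f) (hY : IsLocNoethSp Y)
    (F : ModEt X) (hF : BC F) [F.IsFiniteType] : ((pushModEt hf).obj F).IsFinitePresentation := by
  refine isFinitePresentation_of_cover _ (bc_push_finite hf hfin F hF) _ (fun E => E.2) coversTop_affine fun E => ?_
  haveI := E.2
  haveI := isAffine_bcObj hf hfin E.1
  haveI := isNoetherianRing_ring hY E.1
  haveI : Module.Finite (Ring E.1) (sec ((pushModEt hf).obj F) E.1) :=
    (finite_push_iff hf hfin F E.1).2 (finite_sec F hF _)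
  exact Module.finitePresentation_of_finite _ _

end ModEtQc
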