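import Mathlib.CategoryTheory.Abelian.GrothendieckCategory.Subobject
import Mathlib.CategoryTheory.Adjunction.Basic

/-!
# Colimits of cokernels of maps between pullbacks of small subobjects
-/

set_option autoImplicit false
universe u
open CategoryTheory CategoryTheory.Limits

noncomputable section

namespace FpApprox

/-- A small copy of a small type. -/
structure Idx (T : Type (u + 2)) [Small.{u + 1} T] : Type (u + 1) where
  /-- the index -/
  val : Shrink.{u + 1} T

/-- The copy is equivalent. -/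
def idxEquiv (T : Type (u + 2)) [Small.{u + 1} T] : T ≃ Idx T where
  toFun t := ⟨equivShrink T t⟩
  invFun a := (equivShrink T).symm a.val
  left_inv t := (equivShrink T).symm_apply_apply t
  right_inv a := by cases a; simp

section Union

variable {C : Type (u + 2)} [Category.{u + 1} C] [Abelian C] [IsGrothendieckAbelian.{u + 1} C]
  {J : Type (u + 1)} [SmallCategory J] [IsFiltered J] (D : J ⥤ C) {M : C} (ι : D ⟶ (Functor.const J).obj M)
  {P : J → C} (π : ∀ a, P a ⟶ D.obj a) [∀ a, Epi (π a)]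

include π in
/-- A jointly epimorphic compatible family with kernels dying in the colimit is a colimit. -/
theorem nonempty_isColimit (hepi : ∀ (Z : C) (φ : M ⟶ Z), (∀ a, ι.app a ≫ φ = 0) → φ = 0)
    (hker : ∀ a, kernel.ι (π a ≫ ι.app a) ≫ π a ≫ colimit.ι D a = 0) :
    Nonempty (IsColimit (Cocone.mk M ι)) := by
  let t : ∀ a, P a ⟶ M := fun a => π a ≫ ι.app a
  have hfac : ∀ a, ∃ (k : Abelian.coimage (t a) ⟶ colimit D),
      Abelian.coimage.π (t a) ≫ k = π a ≫ colimit.ι D a :=
    fun a => ⟨cokernel.desc _ _ (hker a), cokernel.π_desc _ _ _⟩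
  choose k hk using hfac
  have hfac' : ∀ a, ∃ d : D.obj a ⟶ Abelian.coimage (t a), π a ≫ d = Abelian.coimage.π (t a) := fun a => by
    have hz : kernel.ι (π a) ≫ Abelian.coimage.π (t a) = 0 := by
      rw [← kernel.lift_ι (t a) (kernel.ι (π a)) (by simp [t]), Category.assoc, cokernel.condition, comp_zero]
    exact ⟨Abelian.epiDesc (π a) _ hz, Abelian.comp_epiDesc _ _ _⟩
  choose d hd using hfac'
  have hdm : ∀ a, d a ≫ Abelian.factorThruCoimage (t a) = ι.app a := fun a => by
    rw [← cancel_epi (π a), reassoc_of% hd, Abelian.coimage.fac]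
  have hdk : ∀ a, d a ≫ k a = colimit.ι D a := fun a => by
    rw [← cancel_epi (π a), reassoc_of% hd, hk]
  haveI : ∀ a, Epi (d a) := fun a => epi_of_epi_fac (hd a)
  have hmap : ∀ {a b : J} (g : a ⟶ b), ∃ l : Abelian.coimage (t a) ⟶ Abelian.coimage (t b),
      l ≫ Abelian.factorThruCoimage (t b) = Abelian.factorThruCoimage (t a) ∧ d a ≫ l = D.map g ≫ d b := fun {a b} g => by
    have hz : kernel.ι (d a) ≫ D.map g ≫ d b = 0 := by
      rw [← cancel_mono (Abelian.factorThruCoimage (t b)), Category.assoc, Category.assoc, hdm, zero_comp]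
      have := ι.naturality g
      dsimp at this
      rw [Category.comp_id] at this
      rw [this, ← hdm, kernel.condition_assoc, zero_comp]
    refine ⟨Abelian.epiDesc (d a) _ hz, ?_, Abelian.comp_epiDesc _ _ _⟩
    rw [← cancel_epi (d a), Abelian.comp_epiDesc_assoc, Category.assoc, hdm, hdm]
    simpa using ι.naturality g
  choose l hl hl' using @hmap
  let F : J ⥤ MonoOver M :=
    { obj := fun a => MonoOver.mk (Abelian.factorThruCoimage (t a))
      map := fun g => MonoOver.homMk (l g) (hl g)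
      map_id := fun a => Subsingleton.elim _ _
      map_comp := fun g g' => Subsingleton.elim _ _ }
  let cF : Cocone (F ⋙ MonoOver.forget _) := Cocone.mk (Over.mk (𝟙 M))
    { app := fun j => Over.homMk (F.obj j).obj.hom (Category.comp_id _)
      naturality := fun j j' g => Over.OverMorphism.ext (by simp) }
  haveI : Mono cF.pt.hom := inferInstanceAs (Mono (𝟙 M))
  letI : CompleteLattice (Subobject M) := Subobject.instCompleteLattice.{u + 1}
  have htop : Subobject.mk cF.pt.hom = ⨆ j, Subobject.mk (F.obj j).obj.hom := by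
    let T := ⨆ j, Subobject.mk (F.obj j).obj.hom
    have hT : cokernel.π T.arrow = 0 := hepi _ _ fun a => by
      have e : Subobject.ofMkLE (F.obj a).obj.hom T (le_iSup (fun j => Subobject.mk (F.obj j).obj.hom) a) ≫ T.arrow =
          Abelian.factorThruCoimage (t a) := Subobject.ofMkLE_arrow _
      have h0 : Abelian.factorThruCoimage (t a) ≫ cokernel.π T.arrow = 0 := by
        exact (congrArg (· ≫ cokernel.π T.arrow) e).symm.trans
          ((Category.assoc _ _ _).trans ((congrArg (_ ≫ ·) (cokernel.condition _)).trans comp_zero))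
      rw [← hdm, Category.assoc, h0, comp_zero]
    haveI : Epi T.arrow := Preadditive.epi_of_cokernel_zero hT
    haveI : IsIso T.arrow := isIso_of_mono_of_epi _
    change Subobject.mk (𝟙 M) = T
    exact (Subobject.top_eq_id M).symm.trans (Subobject.eq_top_of_isIso_arrow T).symm
  have hcF := IsGrothendieckAbelian.isColimitMapCoconeOfSubobjectMkEqISup F cF htop
  let cI : Cocone (F ⋙ MonoOver.forget _ ⋙ Over.forget _) := Cocone.mk (colimit D)
    { app := k
      naturality := fun a b g => by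
        change l g ≫ k b = k a ≫ 𝟙 _
        rw [Category.comp_id, ← cancel_epi (d a), reassoc_of% (hl' g), hdk, hdk, colimit.w] }
  let φ : colimit D ⟶ M := colimit.desc D (Cocone.mk M ι)
  let ψ : M ⟶ colimit D := hcF.desc cI
  have hψ : ∀ a, Abelian.factorThruCoimage (t a) ≫ ψ = k a := fun a => hcF.fac cI a
  haveI : IsIso φ := ⟨ψ, colimit.hom_ext fun a => by
      rw [colimit.ι_desc_assoc, Category.comp_id]
      change ι.app a ≫ ψ = _
      rw [← hdm, Category.assoc, hψ, hdk],
    hcF.hom_ext fun a => by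
      change Abelian.factorThruCoimage (t a) ≫ ψ ≫ φ = Abelian.factorThruCoimage (t a) ≫ 𝟙 M
      rw [reassoc_of% hψ, Category.comp_id, ← cancel_epi (d a), reassoc_of% hdk, colimit.ι_desc, hdm]⟩
  exact ⟨IsColimit.ofIsoColimit (colimit.isColimit D) (Cocone.ext (asIso φ) fun a => colimit.ι_desc _ _)⟩

end Union

variable {B C : Type (u + 2)} [Category.{u + 1} B] [Category.{u + 1} C] [Abelian C] [IsGrothendieckAbelian.{u + 1} C]
  [LocallySmall.{u + 1} B] [WellPowered.{u + 1} B] {L : B ⥤ C} {R : C ⥤ B} (adj : L ⊣ R)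
  (P : ObjectProperty B) (M : C)

/-- Subobjects with the property. -/
abbrev PSub (F : B) : Type (u + 2) := {A : Subobject F // P (A : B)}

/-- The transpose. -/
abbrev transp {F : B} {N : C} (a : F ⟶ R.obj N) : L.obj F ⟶ N := (adj.homEquiv F N).symm a

theorem transp_comp {F G : B} {N : C} (l : F ⟶ G) (a : G ⟶ R.obj N) : transp adj (l ≫ a) = L.map l ≫ transp adj a :=
  adj.homEquiv_naturality_left_symm _ _

theorem transp_comp_right {F : B} {N N' : C} (a : F ⟶ R.obj N) (k : N ⟶ N') :
    transp adj (a ≫ R.map k) = transp adj a ≫ k :=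
  adj.homEquiv_naturality_right_symm _ _

theorem transp_ofLE {A A' : Subobject (R.obj M)} (h : A ≤ A') :
    L.map (Subobject.ofLE A A' h) ≫ transp adj A'.arrow = transp adj A.arrow := by
  rw [← transp_comp, Subobject.ofLE_arrow]

/-- Indices. -/
structure Index : Type (u + 2) where
  /-- the subobject -/
  sub : PSub P (R.obj M)
  /-- the relations -/
  rels : PSub P (R.obj (kernel (transp adj sub.1.arrow)))

variable {P M}

/-- The relations. -/
abbrev rel (j : Index adj P M) : L.obj (j.rels.1 : B) ⟶ L.obj (j.sub.1 : B) :=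
  transp adj j.rels.1.arrow ≫ kernel.ι (transp adj j.sub.1.arrow)

/-- The order of indices. -/
def IndexLE (i j : Index adj P M) : Prop :=
  ∃ h : i.sub.1 ≤ j.sub.1, rel adj i ≫ L.map (Subobject.ofLE _ _ h) ≫ cokernel.π (rel adj j) = 0

theorem indexLE_refl (i : Index adj P M) : IndexLE adj i i :=
  ⟨le_refl _, by rw [Subobject.ofLE_refl, CategoryTheory.Functor.map_id, Category.id_comp, cokernel.condition]⟩

theorem indexLE_trans {i j k : Index adj P M} (hij : IndexLE adj i j) (hjk : IndexLE adj j k) : IndexLE adj i k := by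
  obtain ⟨h₁, w₁⟩ := hij
  obtain ⟨h₂, w₂⟩ := hjk
  refine ⟨h₁.trans h₂, ?_⟩
  rw [← Subobject.ofLE_comp_ofLE _ _ _ h₁ h₂, L.map_comp]
  simp only [Category.assoc]
  rw [← cokernel.π_desc (rel adj j) _ w₂]
  simp only [← Category.assoc] at w₁ ⊢
  rw [w₁, zero_comp]

theorem indexLE_of_factor (i : Index adj P M) (B' : PSub P (R.obj M)) (R' : PSub P (R.obj (kernel (transp adj B'.1.arrow))))
    (h : i.sub.1 ≤ B'.1) (k : kernel (transp adj i.sub.1.arrow) ⟶ kernel (transp adj B'.1.arrow))
    (hk : k ≫ kernel.ι _ = kernel.ι _ ≫ L.map (Subobject.ofLE _ _ h)) (r : (i.rels.1 : B) ⟶ (R'.1 : B))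
    (hr : r ≫ R'.1.arrow = i.rels.1.arrow ≫ R.map k) : IndexLE adj i ⟨B', R'⟩ := by
  refine ⟨h, ?_⟩
  rw [Category.assoc, ← reassoc_of% hk, ← reassoc_of% (transp_comp_right adj i.rels.1.arrow k), ← hr, transp_comp,
    Category.assoc]
  exact (congrArg (L.map r ≫ ·) ((Category.assoc _ _ _).symm.trans (cokernel.condition _))).trans comp_zero

/-- The main construction. -/
theorem exists_colimit (P : ObjectProperty B) (M : C) (Q : ObjectProperty C)
    (dirA : ∀ H₁ H₂ : B, P H₁ → P H₂ → ∀ (φ₁ : H₁ ⟶ R.obj M) (φ₂ : H₂ ⟶ R.obj M),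
      ∃ A : PSub P (R.obj M), (∃ l, l ≫ A.1.arrow = φ₁) ∧ ∃ l, l ≫ A.1.arrow = φ₂)
    (neA : Nonempty (PSub P (R.obj M)))
    (genA : ∀ (Z : C) (φ : M ⟶ Z), (∀ A : PSub P (R.obj M), transp adj A.1.arrow ≫ φ = 0) → φ = 0)
    (dirR : ∀ (A : PSub P (R.obj M)) (H₁ H₂ : B), P H₁ → P H₂ → ∀ (φ₁ : H₁ ⟶ R.obj (kernel (transp adj A.1.arrow)))
      (φ₂ : H₂ ⟶ R.obj (kernel (transp adj A.1.arrow))),
      ∃ R' : PSub P (R.obj (kernel (transp adj A.1.arrow))), (∃ l, l ≫ R'.1.arrow = φ₁) ∧ ∃ l, l ≫ R'.1.arrow = φ₂)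
    (neR : ∀ A : PSub P (R.obj M), Nonempty (PSub P (R.obj (kernel (transp adj A.1.arrow)))))
    (genR : ∀ (A : PSub P (R.obj M)) (Z : C) (φ : kernel (transp adj A.1.arrow) ⟶ Z),
      (∀ R' : PSub P (R.obj (kernel (transp adj A.1.arrow))), transp adj R'.1.arrow ≫ φ = 0) → φ = 0)
    (hQ : ∀ (A : PSub P (R.obj M)) (R' : PSub P (R.obj (kernel (transp adj A.1.arrow)))),
      Q (cokernel (rel adj ⟨A, R'⟩))) :
    ∃ (J : Type (u + 1)) (_ : SmallCategory J) (_ : IsFiltered J) (D : J ⥤ C) (ι : D ⟶ (Functor.const J).obj M),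
      (∀ j, Q (D.obj j)) ∧ Nonempty (IsColimit (Cocone.mk M ι)) := by
  haveI : Small.{u + 1} (Index adj P M) :=
    small_of_surjective (f := fun p : Σ A : PSub P (R.obj M), PSub P (R.obj (kernel (transp adj A.1.arrow))) =>
      (⟨p.1, p.2⟩ : Index adj P M)) fun i => ⟨⟨i.sub, i.rels⟩, rfl⟩
  let e := idxEquiv (Index adj P M)
  let J := Idx (Index adj P M)
  letI : Preorder J :=
    { le := fun a b => IndexLE adj (e.symm a) (e.symm b)
      le_refl := fun a => indexLE_refl adj _
      le_trans := fun a b c => indexLE_trans adj }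
  haveI : IsDirectedOrder J := ⟨fun a b => by
    set i := e.symm a with hi
    set i' := e.symm b with hi'
    obtain ⟨B', ⟨l, hl⟩, ⟨l', hl'⟩⟩ := dirA _ _ i.sub.2 i'.sub.2 i.sub.1.arrow i'.sub.1.arrow
    have h : i.sub.1 ≤ B'.1 := Subobject.le_of_comm l hl
    have h' : i'.sub.1 ≤ B'.1 := Subobject.le_of_comm l' hl'
    let k := kernel.map (transp adj i.sub.1.arrow) (transp adj B'.1.arrow) (L.map (Subobject.ofLE _ _ h)) (𝟙 M)
      (by rw [Category.comp_id, transp_ofLE])
    let k' := kernel.map (transp adj i'.sub.1.arrow) (transp adj B'.1.arrow) (L.map (Subobject.ofLE _ _ h')) (𝟙 M)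
      (by rw [Category.comp_id, transp_ofLE])
    obtain ⟨R', ⟨r, hr⟩, ⟨r', hr'⟩⟩ := dirR B' _ _ i.rels.2 i'.rels.2 (i.rels.1.arrow ≫ R.map k) (i'.rels.1.arrow ≫ R.map k')
    refine ⟨e ⟨B', R'⟩, ?_, ?_⟩
    · change IndexLE adj (e.symm a) (e.symm (e ⟨B', R'⟩))
      rw [Equiv.symm_apply_apply, ← hi]
      exact indexLE_of_factor adj i B' R' h k (kernel.lift_ι _ _ _) r hr
    · change IndexLE adj (e.symm b) (e.symm (e ⟨B', R'⟩))
      rw [Equiv.symm_apply_apply, ← hi']
      exact indexLE_of_factor adj i' B' R' h' k' (kernel.lift_ι _ _ _) r' hr'⟩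
  obtain ⟨A₀⟩ := neA
  haveI : Nonempty J := ⟨e ⟨A₀, (neR A₀).some⟩⟩
  haveI : IsFiltered J := inferInstance
  let T : ∀ a : J, L.obj ((e.symm a).sub.1 : B) ⟶ M := fun a => transp adj (e.symm a).sub.1.arrow
  let m : ∀ {a b : J} (_ : a ≤ b), L.obj ((e.symm a).sub.1 : B) ⟶ L.obj ((e.symm b).sub.1 : B) := fun h =>
    L.map (Subobject.ofLE _ _ (Exists.choose h))
  have hm : ∀ {a b : J} (h : a ≤ b), rel adj (e.symm a) ≫ m h ≫ cokernel.π (rel adj (e.symm b)) = 0 := fun h =>
    Exists.choose_spec h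
  let D : J ⥤ C :=
    { obj := fun a => cokernel (rel adj (e.symm a))
      map := fun g => cokernel.desc _ (m (leOfHom g) ≫ cokernel.π _) (hm (leOfHom g))
      map_id := fun a => coequalizer.hom_ext (by
        simp only [m, cokernel.π_desc, Subobject.ofLE_refl, CategoryTheory.Functor.map_id, Category.id_comp,
          Category.comp_id])
      map_comp := fun g g' => coequalizer.hom_ext (by
        simp only [m, cokernel.π_desc, cokernel.π_desc_assoc, Category.assoc, ← Functor.map_comp_assoc,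
          Subobject.ofLE_comp_ofLE]) }
  have hT : ∀ a, rel adj (e.symm a) ≫ T a = 0 := fun a => by rw [Category.assoc, kernel.condition, comp_zero]
  let ι : D ⟶ (Functor.const J).obj M :=
    { app := fun a => cokernel.desc _ (T a) (hT a)
      naturality := fun a b g => coequalizer.hom_ext (by
        simp only [D, m, T, cokernel.π_desc, cokernel.π_desc_assoc, Category.assoc, Functor.const_obj_map,
          transp_ofLE]
        exact (Category.comp_id _).symm) }
  let π : ∀ a, L.obj ((e.symm a).sub.1 : B) ⟶ D.obj a := fun a => cokernel.π _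
  haveI : ∀ a, Epi (π a) := fun a => coequalizer.π_epi
  have hπ : ∀ a, π a ≫ ι.app a = T a := fun a => cokernel.π_desc _ _ _
  refine ⟨J, inferInstance, inferInstance, D, ι, fun a => hQ (e.symm a).sub (e.symm a).rels,
    nonempty_isColimit D ι π (fun Z φ hφ => genA Z φ fun A => ?_) fun a => ?_⟩
  · have h := hφ (e ⟨A, (neR A).some⟩)
    have h2 : π (e ⟨A, (neR A).some⟩) ≫ ι.app _ ≫ φ = 0 := by rw [h, comp_zero]
    rw [reassoc_of% hπ] at h2
    simp only [T] at h2
    rwa [Equiv.symm_apply_apply] at h2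
  · rw [hπ]
    refine genR (e.symm a).sub _ _ fun R' => ?_
    obtain ⟨d, had, hbd⟩ := exists_ge_ge a (e ⟨(e.symm a).sub, R'⟩)
    have hbd' : IndexLE adj (e.symm (e ⟨(e.symm a).sub, R'⟩)) (e.symm d) := hbd
    rw [Equiv.symm_apply_apply] at hbd'
    obtain ⟨h2, w⟩ := hbd'
    rw [← colimit.w D (homOfLE had)]
    have w' := congrArg (· ≫ colimit.ι D d) w
    simp only [rel, Category.assoc, zero_comp] at w'
    simp only [π, D, m, cokernel.π_desc_assoc, Category.assoc]
    exact w'

end FpApprox
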