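import Groth.Agent.ModEtQcLib.AssPush
import Mathlib.RingTheory.QuasiFinite.Basic
import Mathlib.AlgebraicGeometry.Morphisms.Flat

/-!
# Sections of the pullback of a quasi-coherent module over affine objects
-/

set_option autoImplicit false
set_option backward.isDefEq.respectTransparency false
set_option backward.isDefEq.respectTransparency.types false
universe u
open CategoryTheory CategoryTheory.Limits AlgebraicGeometry Opposite AlgSp TopologicalSpace
open scoped TensorProduct

noncomputable section

namespace ModEtQc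

variable {S : Scheme.{u}} {X Y : Sp S} {f : X ⟶ Y} (hf : Representable f)

theorem appP_top_eq {M : ModEt X} {W : EtOver X} {H : ModEtOn W} (k : M.over W ⟶ H) (h : W ⟶ W) (hh : h = 𝟙 W)
    (n : sec M W) (c : secP H.val (top W))
    (h0 : appP k.val (Over.mk h) n = resP H.val (toTop (Over.mk h)) c) : appP k.val (top W) n = c := by
  subst hh
  exact h0.trans ((resP_congr H.val (show toTop (Over.mk (𝟙 W)) = 𝟙 _ from Over.OverMorphism.ext rfl) c).trans
    (resP_id H.val c))

variable [(SheafOfModules.pushforward.{u + 1} (bcRingHom hf)).IsRightAdjoint] (G : ModEt Y) (E : EtOver Y)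

/-- The sections of a pullback over the base change of an affine object. -/
theorem pullSec_bijective [IsAffine E.obj.left.left] [IsAffine (EtOver.bcObj hf E).obj.left.left] (hG : BC G)
    (hP : BC ((pullModEt hf).obj G)) :
    letI : Algebra (Ring E) (Ring (EtOver.bcObj hf E)) := (bcRho hf E).toAlgebra
    ∃ e : Ring (EtOver.bcObj hf E) ⊗[Ring E] sec G E ≃ₗ[Ring (EtOver.bcObj hf E)]
      sec ((pullModEt hf).obj G) (EtOver.bcObj hf E), ∀ m, e (1 ⊗ₜ m) = unitS hf G E m := by
  let A := Ring E
  let B := Ring (EtOver.bcObj hf E)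
  letI : Algebra A B := (bcRho hf E).toAlgebra
  let W := (EtOver.bc hf).obj E
  haveI : IsAffine W.obj.left.left := ‹IsAffine (EtOver.bcObj hf E).obj.left.left›
  letI : Module A (sec ((pullModEt hf).obj G) (EtOver.bcObj hf E)) := Module.compHom _ (bcRho hf E)
  haveI : IsScalarTower A B (sec ((pullModEt hf).obj G) (EtOver.bcObj hf E)) :=
    IsScalarTower.of_algebraMap_smul fun _ _ => rfl
  let u₀ : sec G E →ₗ[A] sec ((pullModEt hf).obj G) (EtOver.bcObj hf E) :=
    { toFun := unitS hf G E, map_add' := map_add _, map_smul' := unitS_smul hf G E }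
  let φ : B ⊗[A] sec G E →ₗ[B] sec ((pullModEt hf).obj G) (EtOver.bcObj hf E) := u₀.liftBaseChange B
  have hφ : ∀ m, φ (1 ⊗ₜ m) = unitS hf G E m := fun m =>
    (LinearMap.liftBaseChange_tmul B u₀ 1 m).trans (one_smul _ _)
  haveI hcE : IsIso ((tildeAdj E).counit.app (G.over E)) := isIso_counit_of_isTilde (hG E ‹_›)
  haveI hc : IsIso ((tildeAdj W).counit.app (((pullModEt hf).obj G).over W)) := isIso_counit_of_isTilde (hP W ‹_›)
  haveI := isIso_unit (E₀ := W)
  suffices Function.Bijective φ from ⟨LinearEquiv.ofBijective φ this, hφ⟩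
  refine ⟨?_, ?_⟩
  · let P : ModuleCat.{u + 1} (Ring W) := ModuleCat.of B (B ⊗[A] sec G E)
    let H : ModEtOn W := (tildeF _).obj P
    let η : P ⟶ (Γt _).obj H := (tildeAdj W).unit.app P
    let W' := (postBc hf E).obj (top E)
    have hW : W'.hom = 𝟙 _ := (Category.id_comp _).trans ((EtOver.bc hf).map_id E)
    let one : sec G E → P := fun m => show B ⊗[A] sec G E from (1 : B) ⊗ₜ[A] m
    let ℓ : sec G E →ₗ[A] secP ((pushOver hf E).obj H).val (top E) :=
      { toFun := fun m => resP H.val (toTop W') (η (one m))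
        map_add' := fun a b => by
          refine (congrArg (fun x => resP H.val (toTop W') (η x)) (TensorProduct.tmul_add (1 : B) a b)).trans ?_
          exact (congrArg (resP H.val (toTop W')) (map_add η.hom _ _)).trans (map_add _ _ _)
        map_smul' := fun r m => by
          refine Eq.trans ?_ (show (bcRho hf E r : Ring W'.left) • resP H.val (toTop W') (η (one m)) = _ from rfl)
          have h1 : ((1 : B) ⊗ₜ[A] (r • m)) = (bcRho hf E r : B) • ((1 : B) ⊗ₜ[A] m) := by
            rw [TensorProduct.tmul_smul, ← algebraMap_smul B]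
            rfl
          refine ((congrArg (resP H.val (toTop W')) ((congrArg η h1).trans
            (map_smul η.hom (bcRho hf E r : B) (one m)))).trans (resP_smul H.val _ _ _)).trans
              (congrArg (· • resP H.val (toTop W') (η (one m))) ?_)
          change rho W'.hom _ = _
          rw [hW]
          exact RingHom.congr_fun (rho_id _) _ }
    obtain ⟨τ, hτ⟩ : ∃ τ : G.over E ⟶ (pushOver hf E).obj H, (Γt E).map τ = ModuleCat.ofHom ℓ :=
      ⟨_, @map_inv_counit_homEquiv _ _ _ _ _ _ (tildeAdj E) _ _ hcE (ModuleCat.ofHom ℓ)⟩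
    let k := (pullOverEquiv hf G E H).symm τ
    have hk : ∀ m, appP k.val (top W) (unitS hf G E m) = η (one m) := fun m => by
      refine appP_top_eq k _ ((EtOver.bc hf).map_id E) _ _ ?_
      refine (pullOverEquiv_top hf G E H k m).symm.trans ?_
      rw [Equiv.apply_symm_apply]
      exact congrArg (fun φ => φ m) hτ
    let ψ : sec ((pullModEt hf).obj G) (EtOver.bcObj hf E) →ₗ[B] secP H.val (top W) := ((Γt W).map k).hom
    have hψ : ∀ x : B ⊗[A] sec G E, ψ (φ x) = η (show P from x) := fun x => by
      induction x using TensorProduct.induction_on with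
      | zero => rw [map_zero, map_zero]; exact (map_zero η.hom).symm
      | tmul b m =>
        rw [show b ⊗ₜ[A] m = b • ((1 : B) ⊗ₜ[A] m) by rw [TensorProduct.smul_tmul', smul_eq_mul, mul_one], map_smul,
          map_smul, hφ]
        exact (congrArg (b • ·) (hk m)).trans (map_smul η.hom b (one m)).symm
      | add x y hx hy => rw [map_add, map_add, hx, hy]; exact (map_add η.hom _ _).symm
    intro a b hab
    have := (hψ a).symm.trans ((congrArg ψ hab).trans (hψ b))
    exact (ConcreteCategory.bijective_of_isIso η).1 this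
  · let N : ModuleCat.{u + 1} (Ring W) := (Γt W).obj (((pullModEt hf).obj G).over W)
    let Q : Submodule (Ring W) N := LinearMap.range φ
    let P : ModuleCat.{u + 1} (Ring W) := ModuleCat.of _ (N ⧸ Q)
    obtain ⟨k, hk⟩ : ∃ k : ((pullModEt hf).obj G).over W ⟶ (tildeF W).obj P,
        (Γt W).map k = ModuleCat.ofHom Q.mkQ ≫ (tildeAdj W).unit.app P :=
      ⟨_, @map_inv_counit_homEquiv _ _ _ _ _ _ (tildeAdj W) _ _ hc _⟩
    have htop : ∀ m, appP k.val (top W) (unitS hf G E m) = 0 := fun m => by
      refine (congrArg (fun φ => φ (unitS hf G E m)) hk).trans ?_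
      refine (congrArg ((tildeAdj W).unit.app P).hom (?_ : Q.mkQ (unitS hf G E m) = 0)).trans
        (map_zero ((tildeAdj W).unit.app P).hom)
      exact (Submodule.Quotient.mk_eq_zero Q).2 ⟨_, hφ m⟩
    have hz : pullOverEquiv hf G E _ k = 0 :=
      eq_zero_of_top (hG E ‹_›) _ fun m => (pullOverEquiv_top hf G E _ k m).trans
        (appP_eq_zero k _ ((EtOver.bc hf).map_id E) _ (htop m))
    have hk0 : k = 0 := (pullOverEquiv hf G E _).injective (hz.trans
      (eq_zero_of_top (hG E ‹_›) _ fun m => (pullOverEquiv_top hf G E _ 0 m).trans rfl).symm)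
    intro n
    have : Q.mkQ n = 0 := by
      refine (ConcreteCategory.bijective_of_isIso ((tildeAdj W).unit.app P)).1 ?_
      refine ((congrArg (fun φ => φ n) hk).symm.trans ?_).trans (map_zero ((tildeAdj W).unit.app P).hom).symm
      rw [hk0]
      rfl
    exact (Submodule.Quotient.mk_eq_zero Q).1 this

variable {hf G}

theorem mem_weakAss_pull_iff (hY : IsAlgSpace Y) (hfin : IsFiniteMor f)
    (hflat : RepWith @Flat f) (hG : BC G) (hP : BC ((pullModEt hf).obj G)) (hX : IsAlgSpace X) (x : Points X) :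
    x ∈ WeakAssEt ((pullModEt hf).obj G) ↔ Points.map f x ∈ WeakAssEt G := by
  obtain ⟨W, hW, w, rfl⟩ := exists_chart hX x
  haveI := hW
  obtain ⟨E, hE, v, hv⟩ := exists_chart hY (Points.map f (Points.ofPt W.obj.hom w))
  haveI := hE
  haveI := isAffine_bcObj hf hfin E
  obtain ⟨z, rfl, hz⟩ := exists_point_bcObj hf W w E v hv.symm
  have h1 : Points.ofPt W.obj.hom w ∈ WeakAssEt ((pullModEt hf).obj G) ↔
      IsWeakAssOn ((pullModEt hf).obj G) (EtOver.bcObj hf E) z :=
    ⟨fun ⟨W', hW', w', he, hw⟩ => by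
      haveI := hW'
      exact (isWeakAssOn_congr _ hP w' z (he.trans hz.symm)).1 hw,
    fun h => ⟨_, ‹_›, z, hz, h⟩⟩
  have h2 : Points.map f (Points.ofPt W.obj.hom w) ∈ WeakAssEt G ↔ IsWeakAssOn G E ((hf.snd E.obj.hom).left z) :=
    ⟨fun ⟨W', hW', w', he, hw⟩ => by
      haveI := hW'
      exact (isWeakAssOn_congr _ hG w' _ (he.trans hv.symm)).1 hw,
    fun h => ⟨_, hE, _, hv, h⟩⟩
  rw [h1, h2, isWeakAssOn_iff, isWeakAssOn_iff]
  let A := Ring E
  let B := Ring (EtOver.bcObj hf E)
  letI : Algebra A B := (bcRho hf E).toAlgebra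
  haveI : Module.Finite A B := finite_bcRho hf hfin E
  haveI : IsAffine (hf.pullback E.obj.hom).left := isAffine_bcObj hf hfin E
  haveI : Flat (hf.snd E.obj.hom).left := ((repWith_iff @Flat f).1 hflat).2 E.obj.hom _ _ (hf.isPullback E.obj.hom)
  have hfl : (bcRho hf E).Flat := by
    rw [bcRho_eq]
    exact RingHom.Flat.comp
      (RingHom.Flat.comp (RingHom.Flat.of_bijective
          (f := (ULift.ringEquiv (R := Γ(E.obj.left.left, ⊤))).toRingHom) (ULift.ringEquiv (R := Γ(E.obj.left.left, ⊤))).bijective)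
        ((HasRingHomProperty.iff_of_isAffine (P := @Flat)).1 ‹Flat (hf.snd E.obj.hom).left›))
      (RingHom.Flat.of_bijective
        (f := (ULift.ringEquiv (R := Γ((EtOver.bcObj hf E).obj.left.left, ⊤))).symm.toRingHom)
        (ULift.ringEquiv (R := Γ((EtOver.bcObj hf E).obj.left.left, ⊤))).symm.bijective)
  haveI : Module.Flat A B := hfl
  haveI : (primeRing (EtOver.bcObj hf E) z).LiesOver (primeRing E ((hf.snd E.obj.hom).left z)) :=
    ⟨(comap_bcRho_primeRing hf E z).symm⟩
  obtain ⟨e, -⟩ := pullSec_bijective hf G E hG hP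
  rw [← WeakBCLib.weakAss_of_linearEquiv e]
  exact ⟨WeakBCLib.weakAss_of_baseChange _ _ _,
    WeakBCLib.baseChange_of_weakAss _ _ _ fun Q hQ hle hQp => by
      haveI := hQ
      exact Algebra.QuasiFinite.eq_of_le_of_under_eq (R := A) Q _ hle
        (hQp.trans (comap_bcRho_primeRing hf E z).symm)⟩

end ModEtQc
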