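import Groth.Agent.ModEtQcLib.CohUnion
import Groth.Agent.ModEtQcLib.FpApprox
import Groth.Agent.ModEtQcLib.PullSec
import Mathlib.RingTheory.TensorProduct.Finite

/-!
# Quasi-coherent modules on a space affine over a Noetherian one are colimits of finitely presented ones
-/

set_option autoImplicit false
set_option backward.isDefEq.respectTransparency false
set_option backward.isDefEq.respectTransparency.types false
universe u
open CategoryTheory CategoryTheory.Limits AlgebraicGeometry Opposite AlgSp TopologicalSpace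
open scoped TensorProduct

noncomputable section

namespace ModEtQc

variable {S : Scheme.{u}} {X Y : Sp S}

theorem bc_kernel {F G : ModEt X} (φ : F ⟶ G) (hF : BC F) (hG : BC G) : BC (kernel φ) :=
  bc_left (T := ShortComplex.mk (kernel.ι φ) φ (kernel.condition φ))
    (ShortComplex.exact_of_f_is_kernel _ (kernelIsKernel _)) hF hG

theorem bc_cokernel {F G : ModEt X} (φ : F ⟶ G) (hF : BC F) (hG : BC G) : BC (cokernel φ) := by
  refine bc_colimit (parallelPair φ 0) ?_
  rintro (_ | _)
  · exact hF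
  · exact hG

theorem surjective_appS_of_epi {F G : ModEt X} (ψ : F ⟶ G) [Epi ψ] (hF : BC F) (hG : BC G) (E : EtOver X)
    [IsAffine E.obj.left.left] : Function.Surjective (appS ψ E) :=
  surjective_appS (T := ShortComplex.mk (kernel.ι ψ) ψ (kernel.condition ψ))
    { exact := ShortComplex.exact_of_f_is_kernel _ (kernelIsKernel _) } (bc_kernel ψ hF hG) E

theorem exact_cokernel_appS {F G : ModEt X} (φ : F ⟶ G) (hF : BC F) (hG : BC G) (E : EtOver X)
    [IsAffine E.obj.left.left] : Function.Exact (appS φ E) (appS (cokernel.π φ) E) := by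
  have hC := bc_cokernel φ hF hG
  intro x
  refine ⟨fun h => ?_, ?_⟩
  · obtain ⟨y, hy⟩ := (exact_appS (T := ShortComplex.mk (kernel.ι (cokernel.π φ)) (cokernel.π φ) (kernel.condition _))
      (ShortComplex.exact_of_f_is_kernel _ (kernelIsKernel _)) E x).1 h
    haveI : Epi (kernel.lift (cokernel.π φ) φ (cokernel.condition φ)) :=
      inferInstanceAs (Epi (Abelian.factorThruImage φ))
    obtain ⟨z, rfl⟩ := surjective_appS_of_epi (kernel.lift (cokernel.π φ) φ (cokernel.condition φ)) hF
      (bc_kernel _ hG hC) E y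
    refine ⟨z, Eq.trans ?_ hy⟩
    exact congrArg (fun ψ => appS ψ E z) (kernel.lift_ι (cokernel.π φ) φ (cokernel.condition φ)).symm
  · rintro ⟨z, rfl⟩
    exact congrArg (fun ψ => appS ψ E z) (cokernel.condition φ)

theorem isFinitePresentation_cokernel {F G : ModEt X} (φ : F ⟶ G) [F.IsFinitePresentation] [G.IsFinitePresentation] :
    (cokernel φ).IsFinitePresentation := by
  have hF := bc_of_isQuasicoherent F
  have hG := bc_of_isQuasicoherent G
  refine isFinitePresentation_of_cover _ (bc_cokernel φ hF hG) _ (fun E => E.2) coversTop_affine fun E => ?_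
  haveI := E.2
  haveI := fp_sec F E.1
  haveI := fp_sec G E.1
  refine Module.finitePresentation_of_surjective (appS (cokernel.π φ) E.1)
    (surjective_appS_of_epi _ hG (bc_cokernel φ hF hG) E.1) ?_
  rw [(exact_cokernel_appS φ hF hG E.1).linearMap_ker_eq, ← Submodule.map_top]
  exact Module.Finite.fg_top.map _

variable {f : X ⟶ Y} (hf : Representable f)

/-- A morphism out of a quasi-coherent module vanishes if it does so on base changes of affine objects. -/
theorem eq_zero_of_bcObj (hY : IsAlgSpace Y)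
    (haff : ∀ E : EtOver Y, IsAffine E.obj.left.left → IsAffine (EtOver.bcObj hf E).obj.left.left) {M Z : ModEt X}
    (hM : BC M) (φ : M ⟶ Z)
    (h : ∀ (E : EtOver Y), IsAffine E.obj.left.left → ∀ t, appS φ (EtOver.bcObj hf E) t = 0) : φ = 0 := by
  refine SheafOfModules.hom_ext (PresheafOfModules.hom_ext fun W => ModuleCat.hom_ext (LinearMap.ext
    fun (x : sec M W.unop) => ?_))
  obtain ⟨ι, U, g, hU, hc⟩ := exists_affine_cover W.unop
  refine eq_of_cover Z U g hc _ _ fun i => ?_
  change res Z (g i) (appS φ _ x) = res Z (g i) 0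
  rw [map_zero, ← appS_res]
  haveI := hU i
  obtain ⟨n, T, k, hT, hk, hcov⟩ := exists_finite_affine_refinement (coversTop_bc hf hY (U i))
  refine eq_of_cover Z T k hcov _ _ fun j => ?_
  rw [map_zero, ← appS_res]
  obtain ⟨E, ⟨c⟩⟩ := hk j
  haveI := hT j
  obtain ⟨y, hy⟩ := ((isTilde_iff_evS M _).1 (hM _ (haff E.1 E.2)) (Over.mk c) (hT j)).2
    (res M (k j) (res M (g i) x))
  rw [← hy]
  clear hy
  induction y using TensorProduct.induction_on with
  | zero => rw [map_zero, map_zero]
  | tmul r m =>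
    rw [evS_tmul, map_smul]
    exact (congrArg (r • ·) ((appS_res φ c m).trans ((congrArg (res Z c) (h E.1 E.2 m)).trans (map_zero _)))).trans (smul_zero r)
  | add p q hp hq => rw [map_add, map_add, hp, hq, add_zero]

variable [(SheafOfModules.pushforward.{u + 1} (bcRingHom hf)).IsRightAdjoint]

theorem isFinitePresentation_pull_of_affine (hY : IsAlgSpace Y)
    (haff : ∀ E : EtOver Y, IsAffine E.obj.left.left → IsAffine (EtOver.bcObj hf E).obj.left.left)
    (A : ModEt Y) [A.IsFinitePresentation] : ((pullModEt hf).obj A).IsFinitePresentation := by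
  have hP := (isQuasicoherent_iff_bc _).1 (isQuasicoherent_pull hf A hY)
  refine isFinitePresentation_of_cover _ hP (fun E : {E : EtOver Y // IsAffine E.obj.left.left} => EtOver.bcObj hf E.1)
    (fun E => haff E.1 E.2) (coversTop_bc hf hY) fun E => ?_
  haveI := E.2
  haveI := haff E.1 E.2
  letI : Algebra (Ring E.1) (Ring (EtOver.bcObj hf E.1)) := (bcRho hf E.1).toAlgebra
  haveI := fp_sec A E.1
  obtain ⟨e, -⟩ := pullSec_bijective hf A E.1 (bc_of_isQuasicoherent A) hP
  exact Module.FinitePresentation.of_equiv e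

theorem transpose_unitS {N : ModEt Y} {M : ModEt X} (a : N ⟶ (pushModEt hf).obj M) (E : EtOver Y) (t : sec N E) :
    appS (((pullPushAdjModEt hf).homEquiv _ _).symm a) (EtOver.bcObj hf E) (unitS hf N E t) = appS a E t :=
  congrArg (fun ψ => appS ψ E t) (((pullPushAdjModEt hf).homEquiv_unit (f := ((pullPushAdjModEt hf).homEquiv _ _).symm a)).symm.trans
    (((pullPushAdjModEt hf).homEquiv _ _).apply_symm_apply a))

/-- Coherent submodules. -/
abbrev CohSub (F : ModEt Y) : Type (u + 2) :=
  {A : Subobject F // (A : ModEt Y).IsFinitePresentation}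

variable [QuasiSeparatedSpace ↥S] (hY : IsAlgSpace Y) (hqs : IsQuasiSeparatedSp Y) (hN : IsLocNoethSp Y)
  {V : EtOver Y} [IsAffine V.obj.left.left] (hV : Function.Surjective (Points.ofPt V.obj.hom))

include hY hqs hN hV in
omit [(SheafOfModules.pushforward.{u + 1} (bcRingHom hf)).IsRightAdjoint] in
theorem cohSub_spec (F : ModEt Y) (hF : BC F) :
    (∀ (H₁ H₂ : ModEt Y) [H₁.IsFinitePresentation] [H₂.IsFinitePresentation] (φ₁ : H₁ ⟶ F) (φ₂ : H₂ ⟶ F),
      ∃ A : CohSub F, (∃ l, l ≫ A.1.arrow = φ₁) ∧ ∃ l, l ≫ A.1.arrow = φ₂) ∧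
    ∀ (E : EtOver Y), IsAffine E.obj.left.left → ∀ s : sec F E, ∃ A : CohSub F, s ∈ Set.range (appS A.1.arrow E) := by
  have mk : ∀ N : Submodule (Ring V) (sec F V), N.FG → ∃ A : CohSub F,
      ∀ (E : EtOver Y) (hE : IsAffine E.obj.left.left),
        Set.range (appS A.1.arrow E) = (pullData F N E hE : Set (sec F E)) := fun N hfg => by
    obtain ⟨F', ι, hι, hfp, hr⟩ := exists_coherent_submodule hY hqs hV F hF hN N hfg
    haveI := hι
    refine ⟨⟨Subobject.mk ι, ObjectProperty.prop_of_iso (SheafOfModules.isFinitePresentation (OEtRing Y))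
      (Subobject.underlyingIso ι).symm hfp⟩, fun E hE => ?_⟩
    refine Eq.trans ?_ (hr E hE)
    ext s
    constructor
    · rintro ⟨x, rfl⟩
      exact ⟨appS (Subobject.underlyingIso ι).hom E x,
        congrArg (fun ψ => appS ψ E x) (Subobject.underlyingIso_hom_comp_eq_mk ι)⟩
    · rintro ⟨x, rfl⟩
      exact ⟨appS (Subobject.underlyingIso ι).inv E x,
        congrArg (fun ψ => appS ψ E x) (Subobject.underlyingIso_arrow ι)⟩
  refine ⟨fun H₁ H₂ _ _ φ₁ φ₂ => ?_, fun E hE s => ?_⟩
  · have h₁ : BC H₁ := bc_of_isQuasicoherent _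
    have h₂ : BC H₂ := bc_of_isQuasicoherent _
    haveI := finite_sec H₁ h₁ V
    haveI := finite_sec H₂ h₂ V
    let N := LinearMap.range (appS φ₁ V) ⊔ LinearMap.range (appS φ₂ V)
    have hfg : N.FG := by
      refine Submodule.FG.sup ?_ ?_ <;> rw [← Submodule.map_top] <;> exact Module.Finite.fg_top.map _
    obtain ⟨A, hA⟩ := mk N hfg
    refine ⟨A, exists_lift_of_range_le A.1.arrow φ₁ fun E hE => ?_, exists_lift_of_range_le A.1.arrow φ₂ fun E hE => ?_⟩
    · rintro _ ⟨x, rfl⟩
      rw [hA E hE]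
      exact range_le_pullData F hF h₁ _ N le_sup_left hE x
    · rintro _ ⟨x, rfl⟩
      rw [hA E hE]
      exact range_le_pullData F hF h₂ _ N le_sup_right hE x
  · obtain ⟨N, hfg, hs⟩ := exists_fg_mem_pullData hY hqs hV F hF hE s
    obtain ⟨A, hA⟩ := mk N hfg
    exact ⟨A, (hA E hE).symm ▸ hs⟩

include hY hqs hN hV in
theorem exists_colimit_fp (haff : ∀ E : EtOver Y, IsAffine E.obj.left.left → IsAffine (EtOver.bcObj hf E).obj.left.left)
    (M : ModEt X) (hM : BC M) :
    ∃ (J : Type (u + 1)) (_ : SmallCategory J) (_ : IsFiltered J) (D : J ⥤ ModEt X)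
      (ι : D ⟶ (Functor.const J).obj M),
      (∀ j, (D.obj j).IsFinitePresentation) ∧ Nonempty (IsColimit (Cocone.mk M ι)) := by
  haveI := isGrothendieckAbelian_modEt (X := X)
  haveI := isGrothendieckAbelian_modEt (X := Y)
  have hpush : ∀ F : ModEt X, BC F → BC ((pushModEt hf).obj F) := fun F hF =>
    bc_push hf F hF fun E hE => by
      haveI := haff E hE
      exact ⟨inferInstance, inferInstance⟩
  have hpullfp : ∀ (A : ModEt Y) [A.IsFinitePresentation], ((pullModEt hf).obj A).IsFinitePresentation := fun A _ =>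
    isFinitePresentation_pull_of_affine hf hY haff A
  have hK : ∀ A : FpApprox.PSub (SheafOfModules.isFinitePresentation (OEtRing Y)) ((pushModEt hf).obj M),
      BC (kernel (((pullPushAdjModEt hf).homEquiv _ _).symm A.1.arrow)) := fun A => by
    haveI := A.2
    haveI := hpullfp (A.1 : ModEt Y)
    exact bc_kernel _ (bc_of_isQuasicoherent _) hM
  have gen : ∀ (F : ModEt X), BC F →
      (∀ H₁ H₂ : ModEt Y, H₁.IsFinitePresentation → H₂.IsFinitePresentation → ∀ (φ₁ : H₁ ⟶ (pushModEt hf).obj F)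
        (φ₂ : H₂ ⟶ (pushModEt hf).obj F), ∃ A : CohSub ((pushModEt hf).obj F), (∃ l, l ≫ A.1.arrow = φ₁) ∧
          ∃ l, l ≫ A.1.arrow = φ₂) ∧
      (∀ (Z : ModEt X) (φ : F ⟶ Z), (∀ A : CohSub ((pushModEt hf).obj F),
        ((pullPushAdjModEt hf).homEquiv _ _).symm A.1.arrow ≫ φ = 0) → φ = 0) ∧
      Nonempty (CohSub ((pushModEt hf).obj F)) := fun F hF => by
    obtain ⟨h1, h2⟩ := cohSub_spec hY hqs hN hV _ (hpush F hF)
    refine ⟨fun H₁ H₂ i₁ i₂ φ₁ φ₂ => @h1 H₁ H₂ i₁ i₂ φ₁ φ₂, fun Z φ hφ => ?_, ⟨(h2 V ‹_› 0).choose⟩⟩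
    refine eq_zero_of_bcObj hf hY haff hF φ fun E hE s => ?_
    obtain ⟨A, x, hx⟩ := h2 E hE (show sec ((pushModEt hf).obj F) E from s)
    have hs : appS (((pullPushAdjModEt hf).homEquiv _ _).symm A.1.arrow) (EtOver.bcObj hf E) (unitS hf _ E x) = s :=
      (transpose_unitS hf A.1.arrow E x).trans hx
    rw [← hs]
    exact congrArg (fun ψ => appS ψ (EtOver.bcObj hf E) (unitS hf _ E x)) (hφ A)
  exact FpApprox.exists_colimit (pullPushAdjModEt hf) (SheafOfModules.isFinitePresentation (OEtRing Y)) M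
    (SheafOfModules.isFinitePresentation (OEtRing X)) (gen M hM).1 (gen M hM).2.2 (gen M hM).2.1
    (fun A => (gen _ (hK A)).1) (fun A => (gen _ (hK A)).2.2) (fun A => (gen _ (hK A)).2.1)
    (fun A R => by
      haveI := @hpullfp (A.1 : ModEt Y) A.2
      haveI := @hpullfp (R.1 : ModEt Y) R.2
      exact isFinitePresentation_cokernel _)

end ModEtQc
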