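import Groth.Agent.ModEtQcLib.Qc
import Groth.Prelude.Def_AlgSpOX2
import Mathlib.Algebra.Category.ModuleCat.Sheaf.PushforwardContinuous

/-!
# The pullback of modules along a representable etale morphism is restriction
-/

set_option autoImplicit false
set_option backward.isDefEq.respectTransparency false
set_option backward.isDefEq.respectTransparency.types false
universe u
open CategoryTheory CategoryTheory.Limits AlgebraicGeometry Opposite AlgSp TopologicalSpace
open scoped TensorProduct

noncomputable section

namespace ModEtQc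

variable {S : Scheme.{u}} {X Y : Sp S} {f : X ⟶ Y} (he : IsEtaleMor f) (hf : Representable f)

/-- Composition with an etale morphism preserves fibre products. -/
theorem isPullback_postcomp {E₁ E₂ E₀ : EtOver X} (g₁ : E₁ ⟶ E₀) (g₂ : E₂ ⟶ E₀) :
    IsPullback ((EtOver.postcomp f he).map (EtOver.pullbackFst g₁ g₂))
      ((EtOver.postcomp f he).map (EtOver.pullbackSnd g₁ g₂)) ((EtOver.postcomp f he).map g₁)
      ((EtOver.postcomp f he).map g₂) := by
  have h := (EtOver.isPullback g₁ g₂).map (EtOver.forget X)
  refine IsPullback.of_map (EtOver.forget Y) ?_ h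
  exact EtOver.hom_ext _ _ (congrArg (fun k => k.hom.left) (EtOver.pullback_condition g₁ g₂))

instance preservesPullbacks_postcomp : PreservesLimitsOfShape WalkingCospan (EtOver.postcomp f he) where
  preservesLimit {K} :=
    haveI := preservesLimit_of_preserves_limit_cone (F := EtOver.postcomp f he)
      (EtOver.pullbackIsLimit (K.map WalkingCospan.Hom.inl) (K.map WalkingCospan.Hom.inr))
      ((isLimitMapConePullbackConeEquiv _ _).symm (isPullback_postcomp he _ _).isLimit)
    preservesLimit_of_iso_diagram _ (diagramIsoCospan K).symm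

theorem etPre_le_comap_postcomp : etPre X ≤ (etPre Y).comap (EtOver.postcomp f he) := by
  intro E R hR
  obtain ⟨ι, Z, g, rfl⟩ := R.exists_eq_ofArrows
  rw [Precoverage.mem_comap_iff, Presieve.map_ofArrows]
  exact (ofArrows_mem_etPre_iff _ _).2 ((ofArrows_mem_etPre_iff Z g).1 hR)

instance isContinuous_postcomp : (EtOver.postcomp f he).IsContinuous (etTop X) (etTop Y) := by
  change (EtOver.postcomp f he).IsContinuous (etPre X).toGrothendieck (etPre Y).toGrothendieck
  exact Functor.isContinuous_toGrothendieck_of_pullbacksPreservedBy _ _ _ (etPre_le_comap_postcomp he)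

/-- A morphism from a composed object to `V` is a morphism to the base change of `V`. -/
def postcompEquiv (E : EtOver X) (V : EtOver Y) :
    ((EtOver.postcomp f he).obj E ⟶ V) ≃ (E ⟶ (EtOver.bc hf).obj V) where
  toFun g := EtOver.homMk (hf.lift E.obj.hom g.hom.left (EtOver.w g).symm) (hf.lift_fst _ _ _)
  invFun k := EtOver.homMk (k.hom.left ≫ hf.snd V.obj.hom) (by
    change (yon S).map (k.hom.left ≫ hf.snd V.obj.hom) ≫ V.obj.hom = E.obj.hom ≫ f
    rw [Functor.map_comp, Category.assoc, ← hf.w, ← Category.assoc]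
    exact congrArg (· ≫ f) (EtOver.w k))
  left_inv g := EtOver.hom_ext _ _ (hf.lift_snd _ _ _)
  right_inv k := EtOver.hom_ext _ _ (hf.hom_ext ((hf.lift_fst _ _ _).trans (EtOver.w k).symm) (hf.lift_snd _ _ _))

/-- Composition with a representable etale morphism is left adjoint to base change. -/
def postcompAdj : EtOver.postcomp f he ⊣ EtOver.bc hf :=
  Adjunction.mkOfHomEquiv
    { homEquiv := postcompEquiv he hf
      homEquiv_naturality_left_symm := fun g k => EtOver.hom_ext _ _ (Category.assoc _ _ _)
      homEquiv_naturality_right := fun {E V V'} g k => EtOver.hom_ext _ _ (hf.hom_ext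
        (by
          refine (hf.lift_fst _ _ _).trans ?_
          symm
          change (yon S).map (_ ≫ (EtOver.bcMap hf k).hom.left) ≫ _ = E.obj.hom
          rw [Functor.map_comp, Category.assoc, EtOver.map_bcMap_fst]
          exact hf.lift_fst _ _ _)
        (by
          refine (hf.lift_snd _ _ _).trans ?_
          symm
          change (_ ≫ (EtOver.bcMap hf k).hom.left) ≫ _ = g.hom.left ≫ k.hom.left
          rw [Category.assoc, EtOver.bcMap_snd, ← Category.assoc]
          exact congrArg (· ≫ k.hom.left) (hf.lift_snd _ _ _))) }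

/-- The structure sheaf restricted along composition with an etale morphism. -/
def postcompRingHom : OEtRing X ⟶
    ((EtOver.postcomp f he).sheafPushforwardContinuous RingCat.{u + 1} (etTop X) (etTop Y)).obj (OEtRing Y) :=
  ObjectProperty.homMk
    { app := fun _ => 𝟙 _
      naturality := fun _ _ g => (Category.comp_id _).trans (Category.id_comp _).symm }

/-- Restriction of modules along an etale morphism. -/
abbrev resEt : ModEt Y ⥤ ModEt X := SheafOfModules.pushforward.{u + 1} (postcompRingHom he)

/-- Restriction along an etale morphism is left adjoint to direct image. -/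
def resEtAdj : resEt he ⊣ pushModEt hf :=
  SheafOfModules.pushforwardPushforwardAdj (postcompAdj he hf) (postcompRingHom he) (bcRingHom hf)
    (by
      ext V : 2
      change (BigSite.ORing Scheme.etalePrecoverage S).obj.map _ = _ ≫ 𝟙 _
      rw [Category.comp_id]
      refine congrArg (BigSite.ORing Scheme.etalePrecoverage S).obj.map (congrArg Quiver.Hom.op ?_)
      exact Category.id_comp _)
    (by
      ext E : 2
      change 𝟙 _ ≫ (BigSite.ORing Scheme.etalePrecoverage S).obj.map _ ≫
        (BigSite.ORing Scheme.etalePrecoverage S).obj.map _ = 𝟙 _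
      rw [Category.id_comp, ← Functor.map_comp]
      refine (congrArg (BigSite.ORing Scheme.etalePrecoverage S).obj.map ?_).trans
        ((BigSite.ORing Scheme.etalePrecoverage S).obj.map_id _)
      exact congrArg Quiver.Hom.op (hf.lift_snd _ _ _))

/-- The pullback along a representable etale morphism is restriction. -/
def pullIsoRes [(SheafOfModules.pushforward.{u + 1} (bcRingHom hf)).IsRightAdjoint] : pullModEt hf ≅ resEt he :=
  (pullPushAdjModEt hf).leftAdjointUniq (resEtAdj he hf)

/-- Restriction preserves base change. -/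
theorem bc_resEt (G : ModEt Y) (h : BC G) : BC ((resEt he).obj G) := fun E hE Z hZ =>
  h ((EtOver.postcomp f he).obj E) hE (Over.mk ((EtOver.postcomp f he).map Z.hom)) hZ

/-- An object over a composed object is composed. -/
theorem exists_over_eq_postcomp {W : EtOver X} (Z : Over ((EtOver.postcomp f he).obj W)) :
    ∃ Z' : Over W, Z = Over.mk ((EtOver.postcomp f he).map Z'.hom) := by
  obtain ⟨⟨⟨L, ⟨⟨⟩⟩, a⟩, ha⟩, ⟨⟨⟩⟩, ⟨⟨kl, kr, kw⟩⟩⟩ := Z
  change L ⟶ W.obj.left at kl
  change (yon S).obj L ⟶ Y at a
  have hkl : RepWith @Etale ((yon S).map kl) :=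
    (repWith_yon_map_iff @Etale _).2 (EtOver.etale_left
      (ObjectProperty.homMk ⟨kl, kr, kw⟩ : (⟨⟨L, ⟨⟨⟩⟩, a⟩, ha⟩ : EtOver Y) ⟶ (EtOver.postcomp f he).obj W))
  obtain rfl : a = ((yon S).map kl ≫ W.obj.hom) ≫ f := by
    rw [Category.assoc]
    exact ((Category.comp_id a).symm.trans (kw : (yon S).map kl ≫ (W.obj.hom ≫ f) = a ≫ 𝟙 Y).symm)
  exact ⟨Over.mk (EtOver.homMk kl rfl :
    EtOver.mk ((yon S).map kl ≫ W.obj.hom) ((repWith_isMultiplicative (S := S) @Etale).comp_mem _ _ hkl W.property) ⟶ W),
    rfl⟩

/-- Base change descends along a surjective etale morphism. -/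
theorem bc_of_resEt (hs : ∀ V : EtOver Y, Function.Surjective (EtOver.bcπ hf V).left) (G : ModEt Y)
    (h : BC ((resEt he).obj G)) : BC G := by
  intro E hE
  haveI : IsAffine E.obj.left.left := hE
  let W := (EtOver.bc hf).obj E
  let c : (EtOver.postcomp f he).obj W ⟶ E := (postcompEquiv he hf W E).symm (𝟙 W)
  have hc : Function.Surjective c.hom.left.left := by
    intro x
    obtain ⟨y, hy⟩ := hs E x
    refine ⟨y, ?_⟩
    change ((𝟙 W : W ⟶ W).hom.left ≫ EtOver.bcπ hf E).left y = x
    rw [show (𝟙 W : W ⟶ W).hom.left = 𝟙 W.obj.left from rfl, Category.id_comp]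
    exact hy
  obtain ⟨n, Y', g, hY, hg, hcov⟩ := exists_finite_affine_refinement
    (E := E) (ofArrows_mem_etTop (fun _ : PUnit.{1} => (EtOver.postcomp f he).obj W) (fun _ => c)
      (fun x => ⟨⟨⟩, hc x⟩) : Sieve.ofArrows _ _ ∈ etTop Y E)
  refine isTilde_of_cover G (fun i => Over.mk (g i)) hY hcov fun i Y'' k hY'' => ?_
  obtain ⟨Z, a, _, ⟨_⟩, -⟩ := hg i
  obtain ⟨E', he'⟩ := exists_over_eq_postcomp he (Over.mk (k ≫ a))
  obtain rfl : Y'' = (EtOver.postcomp f he).obj E'.left := congrArg (fun Z => Z.left) he'
  intro Z₀ hZ₀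
  obtain ⟨Z', rfl⟩ := exists_over_eq_postcomp he Z₀
  exact h E'.left hY'' (Over.mk Z'.hom) hZ₀

end ModEtQc
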