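import Groth.Agent.AlgSpLib.Basic
import Groth.Prelude.Def_AlgSpD
import Mathlib.AlgebraicGeometry.Morphisms.Affine
import Mathlib.AlgebraicGeometry.Morphisms.Flat

/-!
# Affine objects of the small etale site of an algebraic space
-/

set_option autoImplicit false
set_option backward.isDefEq.respectTransparency false
set_option backward.isDefEq.respectTransparency.types false
universe u
open CategoryTheory CategoryTheory.Limits AlgebraicGeometry Opposite AlgSp TopologicalSpace

noncomputable section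

namespace ModEtQc

variable {S : Scheme.{u}} {X : Sp S}

/-- An open subscheme of an object of the site. -/
abbrev openObj (E : EtOver X) (V : E.obj.left.left.Opens) : EtOver X :=
  EtOver.mk ((yon S).map (Over.homMk V.ι rfl : Over.mk (V.ι ≫ E.obj.left.hom) ⟶ E.obj.left) ≫ E.obj.hom)
    ((repWith_isMultiplicative (S := S) @Etale).comp_mem _ _
      ((repWith_yon_map_iff @Etale _).2 (inferInstanceAs (Etale V.ι))) E.property)

/-- Its inclusion. -/
abbrev openHom (E : EtOver X) (V : E.obj.left.left.Opens) : openObj E V ⟶ E :=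
  EtOver.homMk (Over.homMk V.ι rfl) rfl

theorem exists_affine_cover (E : EtOver X) :
    ∃ (ι : Type u) (Y : ι → EtOver X) (g : ∀ i, Y i ⟶ E), (∀ i, IsAffine (Y i).obj.left.left) ∧
      ∀ x, ∃ i, x ∈ Set.range (g i).hom.left.left := by
  choose V hV hx _ using fun x : E.obj.left.left =>
    exists_isAffineOpen_mem_and_subset (X := E.obj.left.left) (x := x) (U := ⊤) trivial
  exact ⟨_, fun x => openObj E (V x), fun x => openHom E (V x), hV, fun x => ⟨x, ⟨x, hx x⟩, rfl⟩⟩

theorem exists_mem_range_of_cover {E : EtOver X} {R : Sieve E} (hR : R ∈ etTop X E) (x : E.obj.left.left) :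
    ∃ (Y : EtOver X) (g : Y ⟶ E) (_ : R g), x ∈ Set.range g.hom.left.left := by
  rw [etTop, Precoverage.mem_toGrothendieck_iff_of_isStableUnderComposition] at hR
  obtain ⟨P, hP, hle⟩ := hR
  obtain ⟨ι, Y, g, rfl⟩ := P.exists_eq_ofArrows
  obtain ⟨i, hi⟩ := (ofArrows_mem_etPre_iff Y g).1 hP x
  exact ⟨Y i, g i, hle _ _ (Presieve.ofArrows.mk i), hi⟩

theorem exists_finite_affine_refinement {E : EtOver X} [IsAffine E.obj.left.left] {R : Sieve E}
    (hR : R ∈ etTop X E) :
    ∃ (n : ℕ) (Y : Fin n → EtOver X) (g : ∀ i, Y i ⟶ E), (∀ i, IsAffine (Y i).obj.left.left) ∧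
      (∀ i, R (g i)) ∧ ∀ x, ∃ i, x ∈ Set.range (g i).hom.left.left := by
  choose Y g hg y hy using fun x : E.obj.left.left => exists_mem_range_of_cover hR x
  choose V hV hyV _ using fun x : E.obj.left.left =>
    exists_isAffineOpen_mem_and_subset (X := (Y x).obj.left.left) (x := y x) (U := ⊤) trivial
  have hop : ∀ x, IsOpen ((g x).hom.left.left '' (V x : Set (Y x).obj.left.left)) := fun x => by
    haveI := EtOver.etale_left (g x)
    exact (g x).hom.left.left.isOpenMap _ (V x).isOpen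
  obtain ⟨t, ht⟩ := CompactSpace.isCompact_univ.elim_finite_subcover _ hop
    fun x _ => Set.mem_iUnion.2 ⟨x, y x, hyV x, hy x⟩
  let e := t.equivFin.symm
  refine ⟨t.card, fun i => openObj (Y (e i)) (V (e i)), fun i => openHom (Y (e i)) (V (e i)) ≫ g (e i),
    fun i => hV _, fun i => R.downward_closed (hg _) _, fun x => ?_⟩
  obtain ⟨a, ha, z, hz, hzx⟩ := Set.mem_iUnion₂.1 (ht (Set.mem_univ x))
  obtain ⟨i, hi⟩ := e.surjective ⟨a, ha⟩
  have hia : ((e i : t) : E.obj.left.left) = a := congrArg Subtype.val hi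
  subst hia
  exact ⟨i, ⟨z, hz⟩, hzx⟩

/-- The ring of functions on an object of the site. -/
abbrev Ring (E : EtOver X) : Type (u + 1) := (OEt X).obj.obj (op E)

/-- Pullback of functions along a morphism of the site. -/
abbrev rho {E E' : EtOver X} (g : E' ⟶ E) : Ring E →+* Ring E' := ((OEt X).obj.map g.op).hom

theorem rho_eq {E E' : EtOver X} (g : E' ⟶ E) :
    rho g = (ULift.ringEquiv (R := Γ(E'.obj.left.left, ⊤))).symm.toRingHom.comp
      (g.hom.left.left.appTop.hom.comp (ULift.ringEquiv (R := Γ(E.obj.left.left, ⊤))).toRingHom) :=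
  RingHom.ext fun s => OEt_map g s

theorem flat_rho {E E' : EtOver X} (g : E' ⟶ E) [IsAffine E.obj.left.left] [IsAffine E'.obj.left.left] :
    (rho g).Flat := by
  haveI := EtOver.etale_left g
  rw [rho_eq]
  exact RingHom.Flat.comp (RingHom.Flat.comp (RingHom.Flat.of_bijective (RingEquiv.bijective _))
    ((HasRingHomProperty.iff_of_isAffine (P := @Flat)).1 (inferInstance : Flat g.hom.left.left)))
    (RingHom.Flat.of_bijective (RingEquiv.bijective _))

theorem surjective_comap {E : EtOver X} [IsAffine E.obj.left.left] {ι : Type*} (Y : ι → EtOver X)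
    (g : ∀ i, Y i ⟶ E) [∀ i, IsAffine (Y i).obj.left.left] (hg : ∀ x, ∃ i, x ∈ Set.range (g i).hom.left.left)
    (p : PrimeSpectrum (Ring E)) : ∃ (i : ι) (q : PrimeSpectrum (Ring (Y i))), q.comap (rho (g i)) = p := by
  let p₀ : PrimeSpectrum Γ(E.obj.left.left, ⊤) :=
    p.comap (ULift.ringEquiv (R := Γ(E.obj.left.left, ⊤))).symm.toRingHom
  obtain ⟨i, y, hy⟩ := hg (E.obj.left.left.isoSpec.inv p₀)
  refine ⟨i, ((Y i).obj.left.left.isoSpec.hom y : PrimeSpectrum _).comap
    (ULift.ringEquiv (R := Γ((Y i).obj.left.left, ⊤))).toRingHom, ?_⟩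
  have h1 : (Spec.map (g i).hom.left.left.appTop) ((Y i).obj.left.left.isoSpec.hom y) = p₀ := by
    rw [← Scheme.Hom.comp_apply, Scheme.isoSpec_hom_naturality, Scheme.Hom.comp_apply, hy]
    exact congrArg (fun f : Spec Γ(E.obj.left.left, ⊤) ⟶ Spec Γ(E.obj.left.left, ⊤) => f p₀)
      E.obj.left.left.isoSpec.inv_hom_id
  refine PrimeSpectrum.ext (Ideal.ext fun s => ?_)
  have h2 := congrArg (fun q : PrimeSpectrum Γ(E.obj.left.left, ⊤) => s.down ∈ q.asIdeal) h1
  rw [rho_eq]
  exact (iff_of_eq h2).trans Iff.rfl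

/-- The ring map lifted one universe. -/
abbrev ul {A B : CommRingCat.{u}} (f : A ⟶ B) : CommRingCat.of (ULift.{u + 1} A) ⟶ CommRingCat.of (ULift.{u + 1} B) :=
  CommRingCat.ofHom ((ULift.ringEquiv (R := B)).symm.toRingHom.comp (f.hom.comp (ULift.ringEquiv (R := A)).toRingHom))

/-- A pushout of rings is a pushout against rings in the next universe. -/
theorem isPushout_ul {R₀ A₀ B₀ C₀ : CommRingCat.{u}} {f : R₀ ⟶ A₀} {g : R₀ ⟶ B₀} {a : A₀ ⟶ C₀} {b : B₀ ⟶ C₀}
    (h : IsPushout f g a b) : IsPushout (ul f) (ul g) (ul a) (ul b) := by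
  have w : ul f ≫ ul a = ul g ≫ ul b := by
    ext x
    exact congrArg (fun φ : R₀ ⟶ C₀ => φ x.down) h.w
  letI := f.hom.toAlgebra; letI := g.hom.toAlgebra; letI := a.hom.toAlgebra; letI := b.hom.toAlgebra
  letI : Algebra R₀ C₀ := (f ≫ a).hom.toAlgebra
  haveI : IsScalarTower R₀ A₀ C₀ := IsScalarTower.of_algebraMap_eq' rfl
  haveI : IsScalarTower R₀ B₀ C₀ := IsScalarTower.of_algebraMap_eq' (congrArg CommRingCat.Hom.hom h.w)
  haveI : Algebra.IsPushout R₀ A₀ B₀ C₀ := CommRingCat.isPushout_iff_isPushout.1 h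
  have hex : ∀ (s : PushoutCocone (ul f) (ul g)), ∃ m : CommRingCat.of (ULift.{u + 1} C₀) ⟶ s.pt,
      ul a ≫ m = s.inl ∧ ul b ≫ m = s.inr := fun s => by
    let iA : A₀ →+* s.pt := s.inl.hom.comp (ULift.ringEquiv (R := A₀)).symm.toRingHom
    let iB : B₀ →+* s.pt := s.inr.hom.comp (ULift.ringEquiv (R := B₀)).symm.toRingHom
    letI : Algebra R₀ s.pt := (iA.comp f.hom).toAlgebra
    have hw : ∀ r, iB (g r) = iA (f r) := fun r =>
      (congrArg (fun φ : CommRingCat.of (ULift.{u + 1} R₀) ⟶ s.pt => φ (ULift.up r)) s.condition).symm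
    let fA : A₀ →ₐ[R₀] s.pt := { iA with commutes' := fun r => rfl }
    let fB : B₀ →ₐ[R₀] s.pt := { iB with commutes' := hw }
    let d := Algebra.pushoutDesc C₀ fA fB fun x y => mul_comm _ _
    refine ⟨CommRingCat.ofHom (d.toRingHom.comp (ULift.ringEquiv (R := C₀)).toRingHom), ?_, ?_⟩
    · ext x
      exact Algebra.pushoutDesc_left C₀ fA fB (fun _ _ => mul_comm _ _) x.down
    · ext x
      exact Algebra.pushoutDesc_right C₀ fA fB (fun _ _ => mul_comm _ _) x.down
  choose m hm₁ hm₂ using hex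
  refine ⟨⟨w⟩, ⟨PushoutCocone.IsColimit.mk w m hm₁ hm₂ fun s k hk₁ hk₂ => ?_⟩⟩
  let k' : C₀ →+* s.pt := k.hom.comp (ULift.ringEquiv (R := C₀)).symm.toRingHom
  let m' : C₀ →+* s.pt := (m s).hom.comp (ULift.ringEquiv (R := C₀)).symm.toRingHom
  letI : Algebra R₀ s.pt := (m'.comp (algebraMap R₀ C₀)).toAlgebra
  have hA : ∀ x, k' (a x) = m' (a x) := fun x =>
    congrArg (fun φ : CommRingCat.of (ULift.{u + 1} A₀) ⟶ s.pt => φ (ULift.up x)) (hk₁.trans (hm₁ s).symm)
  have hB : ∀ x, k' (b x) = m' (b x) := fun x =>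
    congrArg (fun φ : CommRingCat.of (ULift.{u + 1} B₀) ⟶ s.pt => φ (ULift.up x)) (hk₂.trans (hm₂ s).symm)
  let ka : C₀ →ₐ[R₀] s.pt := { k' with commutes' := fun r => hA (f r) }
  let ma : C₀ →ₐ[R₀] s.pt := { m' with commutes' := fun r => rfl }
  have e : ka = ma := Algebra.IsPushout.algHom_ext (S := A₀) (R' := B₀) C₀ (AlgHom.ext hB) (AlgHom.ext hA)
  ext x
  exact congrArg (fun φ : C₀ →ₐ[R₀] s.pt => φ x.down) e

/-- The functions on a fibre product of affine objects. -/
theorem isPushout_rho {E E₁ E₂ : EtOver X} (g₁ : E₁ ⟶ E) (g₂ : E₂ ⟶ E) [IsAffine E.obj.left.left]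
    [IsAffine E₁.obj.left.left] [IsAffine E₂.obj.left.left] :
    IsAffine (EtOver.pullbackObj g₁ g₂).obj.left.left ∧
      IsPushout ((OEt X).obj.map g₁.op) ((OEt X).obj.map g₂.op) ((OEt X).obj.map (EtOver.pullbackFst g₁ g₂).op)
        ((OEt X).obj.map (EtOver.pullbackSnd g₁ g₂).op) := by
  have sq : IsPullback (EtOver.pullbackFst g₁ g₂).hom.left.left (EtOver.pullbackSnd g₁ g₂).hom.left.left
      g₁.hom.left.left g₂.hom.left.left := (EtOver.isPullback g₁ g₂).map (EtOver.toScheme X)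
  haveI : IsAffine (EtOver.pullbackObj g₁ g₂).obj.left.left := IsAffine.of_isIso sq.isoPullback.hom
  refine ⟨inferInstance, ?_⟩
  have h := isPushout_appTop_of_isPullback sq
  exact isPushout_ul h

end ModEtQc
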