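import Mathlib.RingTheory.Flat.FaithfullyFlat.Algebra
import Mathlib.RingTheory.Flat.Basic
import Mathlib.LinearAlgebra.TensorProduct.Quotient
import Mathlib.RingTheory.Spectrum.Prime.Basic
import Mathlib.RingTheory.TensorProduct.Basic
import Mathlib.LinearAlgebra.Pi

/-!
# Descent of modules along finite faithful families of flat algebras
-/

set_option autoImplicit false
universe w

open TensorProduct

noncomputable section

namespace ModEtQc

variable {A : Type w} [CommRing A] {κ : Type*} (R : κ → Type w) [∀ k, CommRing (R k)] [∀ k, Algebra A (R k)]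

variable (A) in
/-- The family detects elements of modules. -/
def FaithfulFamily : Prop :=
  ∀ (Q : Type w) [AddCommGroup Q] [Module A Q] (q : Q), (∀ k, (1 : R k) ⊗ₜ[A] q = 0) → q = 0

theorem faithfulFamily_of_flat (hflat : ∀ k, Module.Flat A (R k))
    (hsurj : ∀ p : PrimeSpectrum A, ∃ (k : κ) (q : PrimeSpectrum (R k)), q.comap (algebraMap A (R k)) = p) :
    FaithfulFamily A R := by
  intro Q _ _ q hq
  by_contra hne
  let f : A →ₗ[A] Q := LinearMap.toSpanSingleton A Q q
  have hI : LinearMap.ker f ≠ ⊤ := fun h => hne (by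
    have h1 : (1 : A) ∈ LinearMap.ker f := by rw [h]; trivial
    simpa [f] using h1)
  obtain ⟨m, hm, hle⟩ := Ideal.exists_le_maximal _ hI
  obtain ⟨k, p, hp⟩ := hsurj ⟨m, hm.isPrime⟩
  have := hflat k
  let g : (A ⧸ LinearMap.ker f) →ₗ[A] Q := (LinearMap.ker f).liftQ f le_rfl
  have hg : Function.Injective g := LinearMap.ker_eq_bot.1 (Submodule.ker_liftQ_eq_bot _ _ _ le_rfl)
  have h0 : (1 : R k) ⊗ₜ[A] Submodule.Quotient.mk (p := LinearMap.ker f) (1 : A) = 0 :=
    Module.Flat.lTensor_preserves_injective_linearMap (M := R k) g hg (by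
      rw [map_zero, LinearMap.lTensor_tmul, Submodule.liftQ_apply]
      change (1 : R k) ⊗ₜ[A] f 1 = 0
      rw [show f 1 = q from one_smul A q]
      exact hq k)
  have h1 := congrArg (tensorQuotEquivQuotSMul (R k) (LinearMap.ker f)) h0
  rw [map_zero, show (Submodule.Quotient.mk (p := LinearMap.ker f) (1 : A)) = Ideal.Quotient.mk (LinearMap.ker f) 1 from rfl,
    tensorQuotEquivQuotSMul_tmul_mk, one_smul, Submodule.Quotient.mk_eq_zero] at h1
  have h2 : (LinearMap.ker f : Ideal A) • (⊤ : Submodule A (R k)) ≤ (p.asIdeal.restrictScalars A) := by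
    refine Submodule.smul_le.2 fun r hr x _ => ?_
    rw [Submodule.restrictScalars_mem, Algebra.smul_def]
    refine Ideal.mul_mem_right _ _ ?_
    have : r ∈ (p.comap (algebraMap A (R k))).asIdeal := by rw [hp]; exact hle hr
    exact this
  exact p.isPrime.ne_top ((Ideal.eq_top_iff_one _).2 (h2 h1))

/-- Descent along a faithful family for modules. -/
theorem family_descent [Finite κ] (hR : FaithfulFamily A R) (M : Type w) [AddCommGroup M] [Module A M]
    (x : ∀ k, R k ⊗[A] M)
    (h : ∀ k l, (Algebra.TensorProduct.includeLeft : R l →ₐ[A] R l ⊗[A] R k).toLinearMap.rTensor M (x l) =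
      (Algebra.TensorProduct.includeRight : R k →ₐ[A] R l ⊗[A] R k).toLinearMap.rTensor M (x k)) :
    ∃ m : M, ∀ k, (1 : R k) ⊗ₜ[A] m = x k := by
  classical
  have : Small.{w} κ := inferInstance
  have := Fintype.ofFinite κ
  let Δ : M →ₗ[A] (∀ k, R k ⊗[A] M) := LinearMap.pi fun k => TensorProduct.mk A (R k) M 1
  let V : Submodule A (∀ k, R k ⊗[A] M) := LinearMap.range Δ
  suffices hx : V.mkQ x = 0 by
    obtain ⟨m, hm⟩ := (Submodule.Quotient.mk_eq_zero V).1 hx
    exact ⟨m, fun k => congrFun hm k⟩
  let e := Shrink.linearEquiv.{w} A ((∀ k, R k ⊗[A] M) ⧸ V)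
  refine e.symm.injective ?_
  rw [map_zero]
  refine hR _ _ fun l => ?_
  have hsum : ∀ z : R l ⊗[A] (∀ k, R k ⊗[A] M),
      z = ∑ k, (LinearMap.single A (fun k => R k ⊗[A] M) k).lTensor (R l) ((LinearMap.proj k).lTensor (R l) z) := by
    intro z
    induction z using TensorProduct.induction_on with
    | zero => simp
    | tmul r y =>
      simp only [LinearMap.lTensor_tmul, ← TensorProduct.tmul_sum]
      congr 1
      exact (Finset.univ_sum_single y).symm
    | add z w hz hw =>
      simp only [map_add, Finset.sum_add_distrib]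
      rw [← hz, ← hw]
  have key : (1 : R l) ⊗ₜ[A] x = Δ.lTensor (R l) (x l) := by
    rw [hsum ((1 : R l) ⊗ₜ[A] x), hsum (Δ.lTensor (R l) (x l))]
    refine Finset.sum_congr rfl fun k _ => congrArg _ ?_
    have e : ∀ (w : R k ⊗[A] M), TensorProduct.assoc A (R l) (R k) M
        ((Algebra.TensorProduct.includeRight : R k →ₐ[A] R l ⊗[A] R k).toLinearMap.rTensor M w) = (1 : R l) ⊗ₜ[A] w := by
      intro w
      induction w using TensorProduct.induction_on with
      | zero => simp
      | tmul b m => simp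
      | add z w hz hw => simp only [map_add, hz, hw, TensorProduct.tmul_add]
    have e' : ∀ (w : R l ⊗[A] M), TensorProduct.assoc A (R l) (R k) M
        ((Algebra.TensorProduct.includeLeft : R l →ₐ[A] R l ⊗[A] R k).toLinearMap.rTensor M w) =
          (LinearMap.proj k : (∀ k, R k ⊗[A] M) →ₗ[A] R k ⊗[A] M).lTensor (R l) (Δ.lTensor (R l) w) := by
      intro w
      induction w using TensorProduct.induction_on with
      | zero => simp
      | tmul b m => simp [Δ]
      | add z w hz hw => simp only [map_add, hz, hw]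
    rw [LinearMap.lTensor_tmul, LinearMap.proj_apply, ← e (x k), ← h k l, e' (x l)]
  have hQ : (e.symm.toLinearMap ∘ₗ V.mkQ).lTensor (R l) (Δ.lTensor (R l) (x l)) = 0 := by
    rw [← LinearMap.comp_apply, ← LinearMap.lTensor_comp, LinearMap.comp_assoc,
      show V.mkQ ∘ₗ Δ = 0 from LinearMap.range_mkQ_comp Δ, LinearMap.comp_zero,
      LinearMap.lTensor_zero, LinearMap.zero_apply]
  rw [← key, LinearMap.lTensor_tmul] at hQ
  exact hQ

end ModEtQc
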