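import Groth.Agent.ModEtQcLib.WeakAss
import Groth.Agent.ModEtQcLib.PushFinite
import Groth.Agent.ModEtQcLib.ClosedImm
import Groth.Agent.AlgSpRegLib.WeakAssBasic
import Groth.Agent.WeakBCLib.Main
import Mathlib.RingTheory.Ideal.MinimalPrime.Colon

/-!
# Weakly associated points of direct and inverse images along affine and finite morphisms
-/

set_option autoImplicit false
set_option backward.isDefEq.respectTransparency false
set_option backward.isDefEq.respectTransparency.types false
universe u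
open CategoryTheory CategoryTheory.Limits AlgebraicGeometry Opposite AlgSp TopologicalSpace
open scoped TensorProduct

noncomputable section

namespace ModEtQc

section Alg

open Groth.Agent.WeakAssLib

variable {A B N : Type (u + 1)} [CommRing A] [CommRing B] [Algebra A B] [AddCommGroup N] [Module A N] [Module B N]
  [IsScalarTower A B N]

theorem exists_weakAss_of_restrict {p : Ideal A} (h : p ∈ FlatCA.weakAss A N) :
    ∃ q ∈ FlatCA.weakAss B N, q.IsPrime ∧ q.comap (algebraMap A B) = p := by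
  obtain ⟨m, hm⟩ := h
  rw [show (Submodule.span A {m}).annihilator = (Submodule.span B {m}).annihilator.comap (algebraMap A B) from
    Ideal.ext fun a => by rw [mem_ann, Ideal.mem_comap, mem_ann, algebraMap_smul]] at hm
  obtain ⟨q, hq, hqp⟩ := Ideal.exists_minimalPrimes_comap_eq _ _ hm
  exact ⟨q, ⟨m, hq⟩, hq.1.1, hqp⟩

theorem weakAss_restrict_of_noetherian [IsNoetherianRing B] {q : Ideal B} (h : q ∈ FlatCA.weakAss B N) :
    q.comap (algebraMap A B) ∈ FlatCA.weakAss A N := by
  obtain ⟨m, hm⟩ := h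
  haveI := hm.1.1
  have e : ∀ y : N, (⊥ : Submodule B N).colon {y} = (Submodule.span B {y}).annihilator := fun y =>
    Ideal.ext fun b => by rw [Submodule.mem_colon_singleton, mem_ann, Submodule.mem_bot]
  rw [← e] at hm
  obtain ⟨y, rfl⟩ := Submodule.exists_eq_colon_of_mem_minimalPrimes hm
  refine ⟨y, ?_⟩
  rw [show (Submodule.span A {y}).annihilator = ((⊥ : Submodule B N).colon {y}).comap (algebraMap A B) from
    Ideal.ext fun a => by rw [mem_ann, Ideal.mem_comap, e, mem_ann, algebraMap_smul],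
    Ideal.minimalPrimes_eq_subsingleton_self]
  rfl

theorem weakAss_restrict_of_finite [Module.Finite A B] {q : Ideal B} (h : q ∈ FlatCA.weakAss B N) :
    q.comap (algebraMap A B) ∈ FlatCA.weakAss A N := by
  have hq : q.IsPrime := ((mem_weakAss_iff q).1 h).1
  haveI : q.LiesOver (q.comap (algebraMap A B)) := ⟨rfl⟩
  obtain ⟨y, h1, h2⟩ := WeakBCLib.exists_element (q.comap (algebraMap A B)) q h
  refine (mem_weakAss_iff _).2 ⟨inferInstance, y, fun r hr => h1 r (by rw [algebraMap_smul]; exact hr),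
    fun x hx => ?_⟩
  obtain ⟨c, hc, k, hk⟩ := h2 x hx
  exact ⟨c, hc, k, by rw [← algebraMap_smul B]; exact hk⟩

end Alg

variable {S : Scheme.{u}} {X Y : Sp S} {f : X ⟶ Y} (hf : Representable f)

theorem comap_bcRho_primeRing (E : EtOver Y) (z : (EtOver.bcObj hf E).obj.left.left) :
    (primeRing (EtOver.bcObj hf E) z).comap (bcRho hf E) = primeRing E ((hf.snd E.obj.hom).left z) := by
  rw [primeRing, primeRing, bcRho_eq, ← comap_primeAtPt, Ideal.comap_comap, Ideal.comap_comap]
  rfl

theorem primeAtPt_injective {U : Scheme.{u}} [IsAffine U] {a b : U} (h : primeAtPt U a = primeAtPt U b) : a = b := by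
  have key : ∀ x : U, ((isAffineOpen_top U).primeIdealOf ⟨x, trivial⟩).asIdeal = primeAtPt U x := fun x => by
    rw [IsAffineOpen.primeIdealOf_eq_map_closedPoint]; rfl
  have e : (isAffineOpen_top U).primeIdealOf ⟨a, trivial⟩ = (isAffineOpen_top U).primeIdealOf ⟨b, trivial⟩ :=
    PrimeSpectrum.ext ((key a).trans (h.trans (key b).symm))
  exact ((isAffineOpen_top U).fromSpec_primeIdealOf ⟨a, trivial⟩).symm.trans
    ((congrArg _ e).trans ((isAffineOpen_top U).fromSpec_primeIdealOf ⟨b, trivial⟩))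

theorem exists_primeRing (E : EtOver X) [IsAffine E.obj.left.left] (q : Ideal (Ring E)) [q.IsPrime] :
    ∃ z, primeRing E z = q := by
  let e := ULift.ringEquiv (R := Γ(E.obj.left.left, ⊤))
  obtain ⟨z, hz⟩ := AlgSpRegLib.exists_primeAtPt_eq E.obj.left.left (q.comap e.symm.toRingHom)
  refine ⟨z, ?_⟩
  rw [primeRing, hz, Ideal.comap_comap]
  exact Ideal.ext fun r => by rw [Ideal.mem_comap]; exact Iff.rfl

/-- The point of the source over a point of a chart of the target. -/
theorem map_ofPt_bcObj (E : EtOver Y) (z : (EtOver.bcObj hf E).obj.left.left) :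
    Points.map f (Points.ofPt (EtOver.bcObj hf E).obj.hom z) =
      Points.ofPt E.obj.hom ((hf.snd E.obj.hom).left z) := by
  rw [Points.map_ofPt]
  exact (congrArg (Points.ofPt · z) (hf.w E.obj.hom)).trans (AlgSpLib.ofPt_yon_comp _ _ _)

/-- A pair of points over one point of the target comes from the base change of a chart. -/
theorem exists_point_bcObj (W : EtOver X) (w : W.obj.left.left) (E : EtOver Y) (v : E.obj.left.left)
    (h : Points.map f (Points.ofPt W.obj.hom w) = Points.ofPt E.obj.hom v) :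
    ∃ z : (EtOver.bcObj hf E).obj.left.left, (hf.snd E.obj.hom).left z = v ∧
      Points.ofPt (EtOver.bcObj hf E).obj.hom z = Points.ofPt W.obj.hom w := by
  rw [Points.map_ofPt] at h
  obtain ⟨T, p, q, sq⟩ := AlgSpLib.exists_isPullback_yon E.obj.hom (W.obj.hom ≫ f) E.property.rep
  obtain ⟨t, h1, h2⟩ := (AlgSpLib.ofPt_eq_ofPt_iff sq v w).1 h.symm
  let l := hf.lift ((yon S).map q ≫ W.obj.hom) p (by rw [Category.assoc]; exact sq.w.symm)
  refine ⟨l.left t, ?_, ?_⟩
  · rw [← h1]
    exact congrArg (fun φ => φ.left t) (hf.lift_snd ((yon S).map q ≫ W.obj.hom) p (by rw [Category.assoc]; exact sq.w.symm))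
  · rw [← h2, ← AlgSpLib.ofPt_yon_comp]
    exact (AlgSpLib.ofPt_yon_comp l _ t).symm.trans (congrArg (Points.ofPt · t) (hf.lift_fst _ _ _))

theorem exists_chart (hY : IsAlgSpace Y) (y : Points Y) :
    ∃ (E : EtOver Y) (_ : IsAffine E.obj.left.left) (v : E.obj.left.left), Points.ofPt E.obj.hom v = y := by
  obtain ⟨U, p, hp, hps⟩ := hY.atlas
  obtain ⟨v, hv⟩ := AlgSpLib.surjective_ofPt hps y
  obtain ⟨E, g, hE, w, hw⟩ := AlgSpRegLib.exists_affine_over (EtOver.mk p hp) v
  refine ⟨E, hE, w, ?_⟩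
  rw [← hv, ← hw, ← EtOver.w g, AlgSpLib.ofPt_yon_comp]
  rfl

theorem isAffine_bcObj_of_affineMor (haff : IsAffineMor f) (E : EtOver Y) [IsAffine E.obj.left.left] :
    IsAffine (EtOver.bcObj hf E).obj.left.left := by
  haveI : IsAffineHom (hf.snd E.obj.hom).left :=
    ((repWith_iff @IsAffineHom f).1 (AlgSpLib.isAffineMor_iff.1 haff)).2 E.obj.hom _ _ (hf.isPullback E.obj.hom)
  exact isAffine_of_isAffineHom (hf.snd E.obj.hom).left

theorem weakAss_push_subset (haff : IsAffineMor f) (M : ModEt X) :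
    WeakAssEt ((pushModEt hf).obj M) ⊆ Points.map f '' WeakAssEt M := by
  rintro y ⟨E, hE, v, rfl, hw⟩
  haveI := hE
  haveI hA := isAffine_bcObj_of_affineMor hf haff E
  rw [isWeakAssOn_iff] at hw
  letI : Algebra (Ring E) (Ring (EtOver.bcObj hf E)) := (bcRho hf E).toAlgebra
  letI : Module (Ring E) (sec M (EtOver.bcObj hf E)) := Module.compHom _ (bcRho hf E)
  haveI : IsScalarTower (Ring E) (Ring (EtOver.bcObj hf E)) (sec M (EtOver.bcObj hf E)) :=
    IsScalarTower.of_algebraMap_smul fun _ _ => rfl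
  obtain ⟨q, hq, hqp, hqv⟩ := exists_weakAss_of_restrict (B := Ring (EtOver.bcObj hf E))
    (N := sec M (EtOver.bcObj hf E)) hw
  haveI := hqp
  obtain ⟨z, rfl⟩ := exists_primeRing (EtOver.bcObj hf E) q
  refine ⟨_, ⟨_, hA, z, rfl, (isWeakAssOn_iff M _ z).2 hq⟩, (map_ofPt_bcObj hf E z).trans (congrArg _ ?_)⟩
  have hz : primeRing E ((hf.snd E.obj.hom).left z) = primeRing E v := (comap_bcRho_primeRing hf E z).symm.trans hqv
  have := congrArg (Ideal.comap (ULift.ringEquiv (R := Γ(E.obj.left.left, ⊤))).symm.toRingHom) hz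
  simp only [primeRing, Ideal.comap_comap] at this
  exact primeAtPt_injective this

theorem weakAss_push_superset (haff : IsAffineMor f) (hY : IsAlgSpace Y) (M : ModEt X) (hM : BC M)
    (halg : ∀ (E : EtOver Y) [IsAffine E.obj.left.left] [IsAffine (EtOver.bcObj hf E).obj.left.left]
      (q : Ideal (Ring (EtOver.bcObj hf E))),
        letI : Module (Ring E) (sec M (EtOver.bcObj hf E)) := Module.compHom _ (bcRho hf E)
        q ∈ FlatCA.weakAss (Ring (EtOver.bcObj hf E)) (sec M (EtOver.bcObj hf E)) →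
          q.comap (bcRho hf E) ∈ FlatCA.weakAss (Ring E) (sec M (EtOver.bcObj hf E))) :
    Points.map f '' WeakAssEt M ⊆ WeakAssEt ((pushModEt hf).obj M) := by
  rintro y ⟨x, ⟨W, hW, w, rfl, hw⟩, rfl⟩
  obtain ⟨E, hE, v, hv⟩ := exists_chart hY (Points.map f (Points.ofPt W.obj.hom w))
  haveI := hE
  haveI := hW
  haveI := isAffine_bcObj_of_affineMor hf haff E
  obtain ⟨z, rfl, hz⟩ := exists_point_bcObj hf W w E v hv.symm
  refine ⟨E, hE, _, hv, (isWeakAssOn_iff _ E _).2 ?_⟩
  have := halg E _ ((isWeakAssOn_iff M _ z).1 ((isWeakAssOn_congr M hM w z hz.symm).1 hw))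
  rw [comap_bcRho_primeRing] at this
  exact this

theorem weakAss_push_of_finite (hfin : IsFiniteMor f) (hY : IsAlgSpace Y) (M : ModEt X) (hM : BC M) :
    WeakAssEt ((pushModEt hf).obj M) = Points.map f '' WeakAssEt M := by
  have haff : IsAffineMor f := AlgSpLib.isAffineMor_iff.2 ((repWith_iff @IsAffineHom f).2 ⟨hf, fun _ _ g a b h =>
    haveI := ((repWith_iff @IsFinite f).1 (AlgSpLib.isFiniteMor_iff.1 hfin)).2 g a b h
    inferInstance⟩)
  refine Set.Subset.antisymm (weakAss_push_subset hf haff M) (weakAss_push_superset hf haff hY M hM ?_)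
  intro E _ _ q hq
  letI : Algebra (Ring E) (Ring (EtOver.bcObj hf E)) := (bcRho hf E).toAlgebra
  haveI : Module.Finite (Ring E) (Ring (EtOver.bcObj hf E)) := finite_bcRho hf hfin E
  letI : Module (Ring E) (sec M (EtOver.bcObj hf E)) := Module.compHom _ (bcRho hf E)
  haveI : IsScalarTower (Ring E) (Ring (EtOver.bcObj hf E)) (sec M (EtOver.bcObj hf E)) :=
    IsScalarTower.of_algebraMap_smul fun _ _ => rfl
  exact weakAss_restrict_of_finite hq

theorem weakAss_push_of_locNoeth (haff : IsAffineMor f) (hY : IsAlgSpace Y) (hX : IsLocNoethSp X) (M : ModEt X)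
    (hM : BC M) : WeakAssEt ((pushModEt hf).obj M) = Points.map f '' WeakAssEt M := by
  refine Set.Subset.antisymm (weakAss_push_subset hf haff M) (weakAss_push_superset hf haff hY M hM ?_)
  intro E _ _ q hq
  haveI := isNoetherianRing_ring hX (EtOver.bcObj hf E)
  letI : Algebra (Ring E) (Ring (EtOver.bcObj hf E)) := (bcRho hf E).toAlgebra
  letI : Module (Ring E) (sec M (EtOver.bcObj hf E)) := Module.compHom _ (bcRho hf E)
  haveI : IsScalarTower (Ring E) (Ring (EtOver.bcObj hf E)) (sec M (EtOver.bcObj hf E)) :=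
    IsScalarTower.of_algebraMap_smul fun _ _ => rfl
  exact weakAss_restrict_of_noetherian hq

end ModEtQc
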