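import Groth.Agent.ModEtQcLib.EtalePull
import Groth.Agent.ModEtQcLib.Exact
import Groth.Agent.AlgSpRegLib.StalkSh
import Groth.Agent.AlgSpRegLib.EnoughPoints
import Groth.Agent.AlgSpLib.GeomLift
import Groth.Agent.S0585
import Groth.Prelude.Def_AlgSpModX
import Mathlib.LinearAlgebra.Finsupp.Defs
import Mathlib.RingTheory.Flat.FaithfullyFlat.Algebra
import Mathlib.LinearAlgebra.TensorProduct.Pi

/-!
# Quasi-coherent modules with projective modules of sections
-/

set_option autoImplicit false
set_option backward.isDefEq.respectTransparency false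
set_option backward.isDefEq.respectTransparency.types false
universe u v
open CategoryTheory CategoryTheory.Limits AlgebraicGeometry Opposite AlgSp TopologicalSpace
open scoped TensorProduct

noncomputable section

namespace ModEtQc

section Alg

theorem projective_trans {B C P : Type v} [CommRing B] [CommRing C] [Algebra B C] [AddCommGroup P] [Module C P]
    [Module B P] [IsScalarTower B C P] [Module.Projective B C] [Module.Projective C P] : Module.Projective B P := by
  classical
  obtain ⟨s, hs⟩ := (Module.projective_def'.1 ‹Module.Projective C P›)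
  haveI : Module.Projective B (P →₀ C) := Module.Projective.of_equiv' (finsuppLequivDFinsupp B).symm
  refine Module.Projective.of_split (M := P →₀ C) (s.restrictScalars B)
    ((Finsupp.linearCombination C id).restrictScalars B) ?_
  exact LinearMap.ext fun x => LinearMap.congr_fun hs x

/-- Projectivity descends along a finite family of flat ring maps covering the spectrum. -/
theorem projective_of_family {A : Type v} [CommRing A] {κ : Type} [Finite κ] (B : κ → Type v) [∀ i, CommRing (B i)]
    [∀ i, Algebra A (B i)] [∀ i, Module.Flat A (B i)]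
    (hsurj : ∀ p : PrimeSpectrum A, ∃ (k : κ) (q : PrimeSpectrum (B k)), q.comap (algebraMap A (B k)) = p)
    (M : Type v) [AddCommGroup M] [Module A M] (h : ∀ i, Module.Projective (B i) (B i ⊗[A] M)) :
    Module.Projective A M := by
  classical
  haveI := Fintype.ofFinite κ
  let C := ∀ i, B i
  haveI : Module.Flat A C :=
    Module.Flat.of_linearEquiv (DFinsupp.linearEquivFunOnFintype (R := A) (M := B)).symm
  haveI : Module.FaithfullyFlat A C := Module.FaithfullyFlat.of_comap_surjective fun p => by
    obtain ⟨k, q, hq⟩ := hsurj p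
    refine ⟨q.comap (Pi.evalRingHom B k), ?_⟩
    rw [← hq]
    rfl
  letI : ∀ i, Algebra C (B i) := fun i => (Pi.evalRingHom B i).toAlgebra
  haveI : ∀ i, IsScalarTower A C (B i) := fun i => IsScalarTower.of_algebraMap_eq fun _ => rfl
  have hB : ∀ i, Module.Projective C (B i) := fun i => by
    let ι : B i →ₗ[C] C :=
      { toFun := fun b => Pi.single i b
        map_add' := fun a b => Pi.single_add i a b
        map_smul' := fun c b => by
          funext j
          rcases eq_or_ne j i with rfl | hj
          · simp only [RingHom.id_apply, smul_eq_mul]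
            rw [Pi.mul_apply, Pi.single_eq_same, Pi.single_eq_same]
            rfl
          · simp only [RingHom.id_apply, smul_eq_mul]
            rw [Pi.mul_apply, Pi.single_eq_of_ne hj, Pi.single_eq_of_ne hj, mul_zero] }
    refine Module.Projective.of_split (M := C) ι (Algebra.linearMap C (B i)) (LinearMap.ext fun b => ?_)
    exact Pi.single_eq_same i b
  have hP : ∀ i, Module.Projective C (B i ⊗[A] M) := fun i => by
    haveI := hB i
    haveI := h i
    haveI : IsScalarTower C (B i) (B i ⊗[A] M) := IsScalarTower.of_algebraMap_smul fun c x => by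
      induction x using TensorProduct.induction_on with
      | zero => rw [smul_zero, smul_zero]
      | tmul b m =>
        rw [TensorProduct.smul_tmul', TensorProduct.smul_tmul', algebraMap_smul]
      | add p q hp hq => rw [smul_add, smul_add, hp, hq]
    exact projective_trans (B := C) (C := B i)
  haveI := hP
  haveI : Module.Projective C (∀ i, B i ⊗[A] M) :=
    Module.Projective.of_equiv' (DFinsupp.linearEquivFunOnFintype (R := C) (M := fun i => B i ⊗[A] M))
  let f : C ⊗[A] M →ₗ[C] ∀ i, B i ⊗[A] M :=
    LinearMap.pi fun i => TensorProduct.AlgebraTensorModule.map (Algebra.linearMap C (B i)) LinearMap.id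
  have hf : Function.Bijective f := by
    let e : C ⊗[A] M ≃ₗ[A] ∀ i, B i ⊗[A] M :=
      TensorProduct.comm A C M ≪≫ₗ TensorProduct.piRight A A M B ≪≫ₗ
        LinearEquiv.piCongrRight fun i => TensorProduct.comm A M (B i)
    have : ∀ x, f x = e x := fun x => by
      induction x using TensorProduct.induction_on with
      | zero => rw [map_zero, map_zero]
      | tmul c m => funext i; simp [f, e]; rfl
      | add p q hp hq => rw [map_add, map_add, hp, hq]
    rw [show (f : C ⊗[A] M → ∀ i, B i ⊗[A] M) = e from funext this]
    exact e.bijective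
  haveI : Module.Projective C (C ⊗[A] M) := Module.Projective.of_equiv' (LinearEquiv.ofBijective f hf).symm
  exact Groth.Agent.S0585.result A C M

end Alg

variable {S : Scheme.{u}} {X : Sp S}

theorem projective_sec_map (F : ModEt X) (hF : BC F) {E Z : EtOver X} [IsAffine E.obj.left.left]
    [IsAffine Z.obj.left.left] (g : Z ⟶ E) (h : Module.Projective (Ring E) (sec F E)) :
    Module.Projective (Ring Z) (sec F Z) := by
  let W : Over E := Over.mk g
  haveI : IsAffine W.left.obj.left.left := ‹IsAffine Z.obj.left.left›
  haveI := h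
  let e : Ring W.left ⊗[Ring E] sec F E ≃ₗ[Ring W.left] sec F W.left :=
    LinearEquiv.ofBijective
      { toFun := evS F W, map_add' := map_add _, map_smul' := fun b x => evS_smul' b x }
      ((isTilde_iff_evS F E).1 (hF E ‹_›) W ‹_›)
  exact (Module.Projective.of_equiv' e : Module.Projective (Ring W.left) (sec F W.left))
where
  evS_smul' {F : ModEt X} {E : EtOver X} {W : Over E} (b : Ring W.left) (x : Ring W.left ⊗[Ring E] sec F E) :
      evS F W (b • x) = b • evS F W x := by
    induction x using TensorProduct.induction_on with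
    | zero => rw [smul_zero, map_zero, smul_zero]
    | tmul r m => rw [TensorProduct.smul_tmul', evS_tmul, evS_tmul, smul_eq_mul, mul_smul]
    | add x y hx hy => rw [smul_add, map_add, hx, hy, map_add, smul_add]

theorem projective_sec_of_cover (F : ModEt X) (hF : BC F) {E : EtOver X} [IsAffine E.obj.left.left] {n : ℕ}
    (Y : Fin n → EtOver X) (g : ∀ i, Y i ⟶ E) (hY : ∀ i, IsAffine (Y i).obj.left.left)
    (hcov : ∀ x, ∃ i, x ∈ Set.range (g i).hom.left.left)
    (h : ∀ i, Module.Projective (Ring (Y i)) (sec F (Y i))) : Module.Projective (Ring E) (sec F E) := by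
  let W : Fin n → Over E := fun i => Over.mk (g i)
  haveI : ∀ i, IsAffine (W i).left.obj.left.left := hY
  haveI : ∀ i, Module.Flat (Ring E) (Ring (W i).left) := fun i => RingHom.flat_algebraMap_iff.1 (flat_rho (W i).hom)
  refine projective_of_family (fun i => Ring (W i).left) ?_ (sec F E) fun i => ?_
  · exact surjective_comap (fun i => (W i).left) (fun i => (W i).hom) hcov
  · let e : Ring (W i).left ⊗[Ring E] sec F E ≃ₗ[Ring (W i).left] sec F (W i).left :=
      LinearEquiv.ofBijective
        { toFun := evS F (W i), map_add' := map_add _, map_smul' := fun b x => projective_sec_map.evS_smul' b x }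
        ((isTilde_iff_evS F E).1 (hF E ‹_›) (W i) (hY i))
    haveI : Module.Projective (Ring (W i).left) (sec F (W i).left) := h i
    exact Module.Projective.of_equiv' e.symm

theorem projective_sec_of_local (hX : IsAlgSpace X) (F : ModEt X) (hF : BC F) {I : Type*} (C : I → EtOver X)
    (hC : ∀ i, IsAffine (C i).obj.left.left) (hcov : ∀ x, ∃ i, x ∈ Set.range (Points.ofPt (C i).obj.hom))
    (h : ∀ i, Module.Projective (Ring (C i)) (sec F (C i))) (E : EtOver X) [IsAffine E.obj.left.left] :
    Module.Projective (Ring E) (sec F E) := by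
  have key : ∀ v : E.obj.left.left, ∃ (Z : EtOver X) (g : Z ⟶ E) (_ : IsAffine Z.obj.left.left),
      v ∈ Set.range g.hom.left.left ∧ Module.Projective (Ring Z) (sec F Z) := fun v => by
    obtain ⟨q, hq, l, hl, hqv⟩ := AlgSpRegLib.exists_geometric_over E v
    obtain ⟨i, z, hz⟩ := hcov (Points.ofPt E.obj.hom v)
    obtain ⟨m, hm, -⟩ := AlgSpLib.exists_geometric_lift (IsAlgSpace.yon_obj (C i).obj.left) hX (C i).obj.hom
      (AlgSpLib.isEtaleMor_of_repWith (C i).property) q hq (Points.schemeHomeo (C i).obj.left z) (by
        rw [hqv, ← hz, AlgSpLib.ofPt_comp_ofScheme]; rfl)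
    obtain ⟨m', rfl⟩ := (yon S).map_surjective m
    haveI := AlgSpLib.isCofiltered_etNbhd hX q hq
    let A : EtNbhd q := ⟨E, l⟩
    let B : EtNbhd q := ⟨C i, ⟨m', hm⟩⟩
    obtain ⟨C', kC, hC'⟩ := AlgSpRegLib.exists_affine_nbhd (IsCofiltered.min A B)
    haveI := hC'
    haveI := hC i
    exact ⟨C'.1, (kC ≫ IsCofiltered.minToLeft A B).1, hC', ⟨C'.2.1.left (IsLocalRing.closedPoint q.K),
      (congrArg (fun t => t.1.left (IsLocalRing.closedPoint q.K)) (kC ≫ IsCofiltered.minToLeft A B).2).trans hl⟩,
      projective_sec_map F hF (kC ≫ IsCofiltered.minToRight A B).1 (h i)⟩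
  choose Z g hZ hg hproj using key
  obtain ⟨n, Y, k, hY, hk, hc⟩ := exists_finite_affine_refinement
    (ofArrows_mem_etTop Z g (fun v => ⟨v, hg v⟩) : Sieve.ofArrows Z g ∈ etTop X E)
  refine projective_sec_of_cover F hF Y k hY hc fun i => ?_
  obtain ⟨W, c, _, ⟨v⟩, -⟩ := hk i
  haveI := hZ v
  haveI := hY i
  exact projective_sec_map F hF c (hproj v)

section Chart

variable {U : Over S} {p : (yon S).obj U ⟶ X} (hp : RepWith @Etale p)

/-- An open of a chart as an object of the small etale site. -/
def chartObj (W : U.left.Opens) : EtOver X :=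
  (EtOver.postcomp p (AlgSpLib.isEtaleMor_of_repWith hp)).obj ((EtOver.ofScheme U).obj (etaleOfOpen U.left W))

theorem isAffine_chartObj {W : U.left.Opens} (hW : IsAffineOpen W) : IsAffine (chartObj hp W).obj.left.left := hW

/-- The ring of an open of a chart. -/
def chartRing (W : U.left.Opens) : Γ(U.left, W) ≃+* Ring (chartObj hp W) :=
  W.topIso.commRingCatIsoToRingEquiv.symm.trans (ULift.ringEquiv (R := Γ((W : Scheme.{u}), ⊤))).symm

variable (hrep : Representable p) [(SheafOfModules.pushforward.{u + 1} (bcRingHom hrep)).IsRightAdjoint]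
  (F : ModEt X) (G : U.left.Modules) (c : ZarCompanion U.left G ((resSchModEt U).obj ((pullModEt hrep).obj F)))

omit p hp hrep in
/-- A companion computes the sections of the module over opens. -/
theorem exists_semilinear {U : Over S} {G : U.left.Modules} (M : ModEt ((yon S).obj U))
    (c : ZarCompanion U.left G ((resSchModEt U).obj M)) (W : U.left.Opens) :
    ∃ e : G.val.obj (op W) ≃+ sec M ((EtOver.ofScheme U).obj (etaleOfOpen U.left W)),
      ∀ (r : Γ(U.left, W)) (m : G.val.obj (op W)), e (r • m) =
        (show Ring ((EtOver.ofScheme U).obj (etaleOfOpen U.left W)) from ⟨W.topIso.inv r⟩) • e m := by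
  let a := c.iso W
  refine ⟨(AddEquiv.ulift (α := (G.val.obj (op W) : Type u))).symm.trans a.symm, fun r m => ?_⟩
  refine a.injective ((a.apply_symm_apply _).trans ?_)
  refine Eq.trans ?_ (c.map_smul W r _).symm
  exact congrArg (fun z : ULift.{u + 1} (G.val.obj (op W) : Type u) => ULift.up (r • z.down))
    (a.apply_symm_apply (⟨m⟩ : ULift.{u + 1} (G.val.obj (op W) : Type u))).symm

omit p hp hrep in
theorem projective_iff_of_semilinear {A B : Type*} [CommRing A] [CommRing B] (σ : A ≃+* B) {M N : Type*}
    [AddCommGroup M] [Module A M] [AddCommGroup N] [Module B N] (e : M ≃+ N) (h : ∀ (r : A) (m : M), e (r • m) = σ r • e m) :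
    Module.Projective A M ↔ Module.Projective B N := by
  letI := RingHomInvPair.of_ringEquiv σ
  haveI := RingHomInvPair.symm (σ : A →+* B) σ.symm
  let e' : M ≃ₛₗ[(σ : A →+* B)] N := { e with map_smul' := h }
  exact ⟨fun _ => Module.Projective.of_equiv e', fun _ => Module.Projective.of_equiv e'.symm⟩

include hrep c in
/-- A companion computes the sections over the opens of a chart. -/
theorem projective_chart_iff (W : U.left.Opens) :
    Module.Projective (U.left.ringCatSheaf.obj.obj (op W)) (G.val.obj (op W)) ↔
      Module.Projective (Ring (chartObj hp W)) (sec F (chartObj hp W)) := by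
  let E' : EtOver ((yon S).obj U) := (EtOver.ofScheme U).obj (etaleOfOpen U.left W)
  obtain ⟨e, he⟩ := exists_semilinear ((pullModEt hrep).obj F) c W
  let θ := (pullIsoRes (AlgSpLib.isEtaleMor_of_repWith hp) hrep).app F
  have hb : Function.Bijective (appS θ.hom E') := by
    refine Function.bijective_iff_has_inverse.2 ⟨fun y => appS θ.inv E' y, fun x => ?_, fun y => ?_⟩
    · exact congrArg (fun ψ => appS ψ E' x) θ.hom_inv_id
    · exact congrArg (fun ψ => appS ψ E' y) θ.inv_hom_id
  let L := LinearEquiv.ofBijective (appS θ.hom E') hb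
  have h1 : Module.Projective (Γ(U.left, W)) (G.val.obj (op W)) ↔
      Module.Projective (Ring E') (sec ((pullModEt hrep).obj F) E') :=
    projective_iff_of_semilinear ((W.topIso.commRingCatIsoToRingEquiv.symm.trans
      (ULift.ringEquiv (R := Γ((W : Scheme.{u}), ⊤))).symm) : Γ(U.left, W) ≃+* Ring E') e he
  have h2 : Module.Projective (Ring E') (sec ((pullModEt hrep).obj F) E') ↔
      Module.Projective (Ring E') (sec ((resEt (AlgSpLib.isEtaleMor_of_repWith hp)).obj F) E') :=
    ⟨fun _ => Module.Projective.of_equiv' L, fun _ => Module.Projective.of_equiv' L.symm⟩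
  exact h1.trans h2

theorem mem_range_chartObj {x : Points X} {W : U.left.Opens} {u : U.left} (hu : u ∈ W) (h : Points.ofPt p u = x) :
    x ∈ Set.range (Points.ofPt (chartObj hp W).obj.hom) := by
  refine ⟨(⟨u, hu⟩ : W), ?_⟩
  rw [← h]
  change Points.ofPt ((yon S).map _ ≫ p) _ = _
  rw [AlgSpLib.ofPt_yon_comp]
  rfl

end Chart

end ModEtQc
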