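import Groth.Agent.ModEtQcLib.Sheaf
import Mathlib.Algebra.Category.ModuleCat.Sheaf.Quasicoherent
import Mathlib.CategoryTheory.Sites.EpiMono

/-!
# Modules on the slice over an affine object are modules over its ring of functions
-/

set_option autoImplicit false
set_option backward.isDefEq.respectTransparency false
set_option backward.isDefEq.respectTransparency.types false
universe u
open CategoryTheory CategoryTheory.Limits AlgebraicGeometry Opposite AlgSp TopologicalSpace
open scoped TensorProduct

noncomputable section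

namespace ModEtQc

variable {S : Scheme.{u}} {X : Sp S} {E₀ : EtOver X}

/-- The identity of the structure presheaf. -/
abbrev idO (E₀ : EtOver X) : (OEtOn E₀).obj ⟶ (OEtOn E₀).obj := 𝟙 _

/-- A morphism from a presheaf of modules into a sheaf, bijective up to refinement, is bijective on affine objects. -/
theorem bijective_of_locally (N : Type (u + 1)) [AddCommGroup N] [Module (Ring E₀) N] (G : ModEtOn E₀)
    (φ : pre N ⟶ G.val)
    [Presheaf.IsLocallyInjective ((etTop X).over E₀) ((PresheafOfModules.toPresheaf _).map φ)]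
    [Presheaf.IsLocallySurjective ((etTop X).over E₀) ((PresheafOfModules.toPresheaf _).map φ)]
    (Z : Over E₀) [IsAffine Z.left.obj.left.left] : Function.Bijective (appP φ Z) := by
  let φ' := (PresheafOfModules.toPresheaf _).map φ
  have hnat : ∀ {A B : Over E₀} (k : B ⟶ A) (x : Ring A.left ⊗[Ring E₀] N),
      appP φ B (preMap N k x) = resP G.val k (appP φ A x) :=
    fun k x => PresheafOfModules.naturality_apply φ k.op x
  have inj : ∀ (A : Over E₀), IsAffine A.left.obj.left.left → ∀ x y : Ring A.left ⊗[Ring E₀] N,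
      appP φ A x = appP φ A y → x = y := by
    intro A hA x y hxy
    obtain ⟨n, Y, g, hY, hg, hcov⟩ := mem_over_refine
      (Presheaf.equalizerSieve_mem ((etTop X).over E₀) φ' (X := op A) x y hxy)
    haveI := hY
    refine sub_eq_zero.1 (eq_zero_of_cover N Y g hcov _ fun i => ?_)
    rw [map_sub]
    exact sub_eq_zero.2 (hg i)
  refine ⟨inj Z inferInstance, fun s => ?_⟩
  obtain ⟨n, Y, g, hY, hg, hcov⟩ := mem_over_refine (Presheaf.imageSieve_mem ((etTop X).over E₀) φ' (U := op Z) s)
  haveI := hY
  choose x hx using hg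
  obtain ⟨y, hy⟩ := exists_glue N Y g hcov x fun i j P a b hP hab => by
    refine inj P hP _ _ ?_
    rw [hnat, hnat]
    refine ((congrArg (resP G.val a) (hx i)).trans ?_).trans (congrArg (resP G.val b) (hx j)).symm
    exact ((resP_comp G.val (g i) a s).symm.trans (resP_congr G.val hab s)).trans (resP_comp G.val (g j) b s)
  refine ⟨y, ?_⟩
  have hsh : Presieve.IsSeparated ((etTop X).over E₀) (G.val.presheaf ⋙ forget AddCommGrpCat.{u + 1}) :=
    (((isSheaf_iff_isSheaf_of_type _ _).1
      ((Presheaf.isSheaf_iff_isSheaf_forget _ G.val.presheaf (forget AddCommGrpCat.{u + 1})).1 G.isSheaf))).isSeparated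
  have hmem : Sieve.ofArrows Y g ∈ (etTop X).over E₀ Z := by
    have key : ∀ i, Sieve.ofArrows Y g (Over.homMk (g i).left rfl : Over.mk ((g i).left ≫ Z.hom) ⟶ Z) := fun i =>
      ⟨Y i, Over.homMk (𝟙 _) (by simpa using (Over.w (g i)).symm), g i, Presieve.ofArrows.mk i,
        Over.OverMorphism.ext (Category.id_comp _)⟩
    rw [GrothendieckTopology.mem_over_iff]
    refine (etTop X).superset_covering ?_ (ofArrows_mem_etTop (fun i => (Y i).left) (fun i => (g i).left) hcov)
    rw [Sieve.generate_le_iff]
    intro P q hq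
    obtain ⟨i⟩ := hq
    rw [Sieve.overEquiv_iff]
    exact key i
  refine (hsh _ hmem).ext fun P k hk => ?_
  obtain ⟨P', a, _, ⟨i⟩, rfl⟩ := hk
  change resP G.val (a ≫ g i) (appP φ Z y) = resP G.val (a ≫ g i) s
  rw [resP_comp, resP_comp, ← hnat, hy i]
  exact congrArg (resP G.val a) (hx i)

/-- The sheaf associated to a module. -/
abbrev tilde (N : Type (u + 1)) [AddCommGroup N] [Module (Ring E₀) N] : ModEtOn E₀ :=
  (PresheafOfModules.sheafification (idO E₀)).obj (pre N)

/-- The unit. -/
abbrev tildeUnit (N : Type (u + 1)) [AddCommGroup N] [Module (Ring E₀) N] : pre (E₀ := E₀) N ⟶ (tilde (E₀ := E₀) N).val :=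
  (PresheafOfModules.sheafificationAdjunction (idO E₀)).unit.app (pre N)

theorem bijective_tildeUnit (N : Type (u + 1)) [AddCommGroup N] [Module (Ring E₀) N]
    (Z : Over E₀) [IsAffine Z.left.obj.left.left] : Function.Bijective (appP (tildeUnit (E₀ := E₀) N) Z) := by
  haveI : Presheaf.IsLocallyInjective ((etTop X).over E₀) ((PresheafOfModules.toPresheaf _).map (tildeUnit N)) :=
    inferInstanceAs (Presheaf.IsLocallyInjective _ (CategoryTheory.toSheafify ((etTop X).over E₀) (pre N).presheaf))
  haveI : Presheaf.IsLocallySurjective ((etTop X).over E₀) ((PresheafOfModules.toPresheaf _).map (tildeUnit N)) :=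
    inferInstanceAs (Presheaf.IsLocallySurjective _ (CategoryTheory.toSheafify ((etTop X).over E₀) (pre N).presheaf))
  exact bijective_of_locally N (tilde N) (tildeUnit N) Z

/-- The module of global sections. -/
abbrev gsecMod (G : ModEtOn E₀) : ModuleCat.{u + 1} (Ring E₀) := ModuleCat.of (Ring E₀) (secP G.val (top E₀))

/-- Global sections of modules on the slice. -/
def Γt (E₀ : EtOver X) : ModEtOn E₀ ⥤ ModuleCat.{u + 1} (Ring E₀) where
  obj G := gsecMod G
  map {G G'} φ := ModuleCat.ofHom
    { toFun := fun x => appP φ.val (top E₀) x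
      map_add' := map_add (φ.val.app (op (top E₀))).hom
      map_smul' := map_smul (φ.val.app (op (top E₀))).hom }

/-- The adjunction bijection. -/
def tildeEquiv (N : ModuleCat.{u + 1} (Ring E₀)) (G : ModEtOn E₀) :
    (tilde (E₀ := E₀) N ⟶ G) ≃ (N ⟶ (Γt E₀).obj G) :=
  ((PresheafOfModules.sheafificationAdjunction (idO E₀)).homEquiv (pre N) G).trans
    ((preEquiv N G.val).trans
      { toFun := fun f => ModuleCat.ofHom f
        invFun := fun f => f.hom
        left_inv := fun _ => rfl
        right_inv := fun _ => rfl })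

theorem tildeEquiv_naturality (N : ModuleCat.{u + 1} (Ring E₀)) {G G' : ModEtOn E₀} (g : G ⟶ G') (h : tilde N ⟶ G) :
    tildeEquiv N G' (h ≫ g) = tildeEquiv N G h ≫ (Γt E₀).map g := by
  refine ModuleCat.hom_ext (LinearMap.ext fun n => ?_)
  change preEquiv N G'.val ((PresheafOfModules.sheafificationAdjunction (idO E₀)).homEquiv _ _ (h ≫ g)) n = _
  rw [Adjunction.homEquiv_naturality_right]
  rfl

/-- The functor of associated sheaves. -/
def tildeF (E₀ : EtOver X) : ModuleCat.{u + 1} (Ring E₀) ⥤ ModEtOn E₀ :=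
  Adjunction.leftAdjointOfEquiv (G := Γt E₀) (F_obj := fun N => tilde N) tildeEquiv
    (fun N G G' g h => tildeEquiv_naturality N g h)

/-- The adjunction. -/
def tildeAdj (E₀ : EtOver X) : tildeF E₀ ⊣ Γt E₀ :=
  Adjunction.adjunctionOfEquivLeft (G := Γt E₀) (F_obj := fun N => tilde N) tildeEquiv
    (fun N G G' g h => tildeEquiv_naturality N g h)

instance : (tildeF E₀).IsLeftAdjoint := (tildeAdj E₀).isLeftAdjoint

theorem unit_tildeAdj_apply (N : ModuleCat.{u + 1} (Ring E₀)) (n : N) :
    (tildeAdj E₀).unit.app N n =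
      appP (tildeUnit N) (top E₀) ((1 : Ring (top E₀).left) ⊗ₜ[Ring E₀] n) := by
  change preEquiv N _ ((PresheafOfModules.sheafificationAdjunction (idO E₀)).homEquiv _ _ (𝟙 _)) n = _
  rw [Adjunction.homEquiv_unit, CategoryTheory.Functor.map_id]
  erw [Category.comp_id]
  rfl

theorem isIso_unit [IsAffine E₀.obj.left.left] : IsIso (tildeAdj E₀).unit := by
  haveI : ∀ N, IsIso ((tildeAdj E₀).unit.app N) := fun N => by
    rw [ConcreteCategory.isIso_iff_bijective]
    haveI : IsAffine (top E₀).left.obj.left.left := ‹IsAffine E₀.obj.left.left›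
    have h : Function.Bijective (fun n : N => (1 : Ring (top E₀).left) ⊗ₜ[Ring E₀] n) := by
      have hb : Function.Bijective (algebraMap (Ring E₀) (Ring (top E₀).left)) := by
        change Function.Bijective (rho (𝟙 E₀))
        rw [rho_id]
        exact Function.bijective_id
      let e : Ring E₀ ≃ₗ[Ring E₀] Ring (top E₀).left :=
        LinearEquiv.ofBijective (Algebra.linearMap (Ring E₀) (Ring (top E₀).left)) hb
      have he : ∀ n : N, (1 : Ring (top E₀).left) ⊗ₜ[Ring E₀] n =
          (LinearEquiv.rTensor N e) ((TensorProduct.lid (Ring E₀) N).symm n) := fun n => by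
        rw [TensorProduct.lid_symm_apply, LinearEquiv.rTensor_tmul]
        change _ = (rho (𝟙 E₀) 1) ⊗ₜ[Ring E₀] n
        rw [map_one]
      rw [show (fun n : N => (1 : Ring (top E₀).left) ⊗ₜ[Ring E₀] n) = _ from funext he]
      exact (LinearEquiv.bijective _).comp (LinearEquiv.bijective _)
    rw [show ⇑((tildeAdj E₀).unit.app N) = _ from funext (unit_tildeAdj_apply N)]
    exact (bijective_tildeUnit N (top E₀)).comp h
  exact NatIso.isIso_of_isIso_app _

end ModEtQc
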