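import Groth.Agent.ModEtQcLib.AssBasic
import Groth.Agent.ModEtQcLib.Supp
import Groth.Agent.ModEtQcLib.AssPush
import Groth.Agent.AlgSpRegLib.DivisorLocal
import Groth.Prelude.Def_AlgSpSub

/-!
# Inverse images of effective Cartier divisors avoiding the weakly associated points
-/

set_option autoImplicit false
set_option backward.isDefEq.respectTransparency false
set_option backward.isDefEq.respectTransparency.types false
universe u
open CategoryTheory CategoryTheory.Limits AlgebraicGeometry Opposite AlgSp TopologicalSpace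

noncomputable section

namespace ModEtQc

variable {S : Scheme.{u}} {X : Sp S}

/-- A function avoiding the weakly associated points is a nonzerodivisor. -/
theorem mem_nonZeroDivisors_of_avoid (E : EtOver X) [IsAffine E.obj.left.left] (g : Γ(E.obj.left.left, ⊤))
    (h : ∀ v, Points.ofPt E.obj.hom v ∈ WeakAssEt (unitModEt X) → g ∉ primeAtPt E.obj.left.left v) :
    g ∈ nonZeroDivisors Γ(E.obj.left.left, ⊤) := by
  refine mem_nonZeroDivisors_iff_right.2 fun a ha => ?_
  by_contra hne
  let t : sec (unitModEt X) E := show Ring E from upΓ E a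
  have ht : t ≠ 0 := fun h0 => hne (congrArg ULift.down h0)
  obtain ⟨q, hq⟩ := exists_weakAss_of_ne_zero (A := Ring E) ht
  haveI := hq.1.1
  obtain ⟨v, rfl⟩ := exists_primeRing E q
  have hw : IsWeakAssOn (unitModEt X) E v := (isWeakAssOn_iff _ E v).2 ⟨t, hq⟩
  refine h v ⟨E, ‹_›, v, rfl, hw⟩ ?_
  have hm : (show Ring E from upΓ E g) ∈ (Submodule.span (Ring E) {t}).annihilator := by
    rw [Submodule.mem_annihilator_span_singleton]
    change (show Ring E from upΓ E g) * (show Ring E from upΓ E a) = 0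
    exact (map_mul (upΓ E) g a).symm.trans ((congrArg (upΓ E) ((mul_comm g a).trans ha)).trans (map_zero _))
  exact hq.1.2 hm

variable {Y D P : Space S}

theorem isEffCartierSub_pull {X : Space S} (f : X ⟶ Y) (i : D ⟶ Y) (hD : IsEffCartierSub i.hom)
    (h : ∀ x ∈ WeakAssEt (unitModEt X.obj), Points.map f.hom x ∉ Set.range (Points.map i.hom))
    (fst : P ⟶ D) (snd : P ⟶ X) (hP : IsPullback fst.hom snd.hom i.hom f.hom) : IsEffCartierSub snd.hom := by
  have hsnd : RepWith @IsClosedImmersion snd.hom := AlgSpLib.repWith_of_isPullback hP hD.1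
  refine AlgSpRegLib.isEffCartierSub_of_local X.property hsnd fun x => ?_
  obtain ⟨U, hU, a, u, g, I, fI, ha, hu, hg, hI, sq⟩ :=
    AlgSpRegLib.exists_affine_chart_principal hD (Points.map fst.hom x)
  haveI := hU
  obtain ⟨U₀, b, hb, hbs⟩ := X.property.atlas
  obtain ⟨u₀, hu₀⟩ := AlgSpLib.surjective_ofPt hbs (Points.map snd.hom x)
  obtain ⟨T, t, t₀, sqT⟩ := AlgSpLib.exists_isPullback_yon a (b ≫ f.hom) ha.rep
  obtain ⟨w, -, hw⟩ := (AlgSpLib.ofPt_eq_ofPt_iff sqT u u₀).1 (by
    rw [hu, ← Points.map_ofPt, hu₀, ← Points.map_comp, ← Points.map_comp, hP.w])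
  haveI : Etale t₀.left := AlgSpLib.etale_left (AlgSpLib.repWith_of_isPullback sqT ha)
  let c : (yon S).obj T ⟶ X.obj := (yon S).map t₀ ≫ b
  have hc : RepWith @Etale c := AlgSpLib.repWith_comp ((repWith_yon_map_iff @Etale t₀).2 ‹_›) hb
  obtain ⟨O, hO, hwO, -⟩ := exists_isAffineOpen_mem_and_subset (X := T.left) (x := w) (U := ⊤) trivial
  let T' : Over S := Over.mk (O.ι ≫ T.hom)
  let j : T' ⟶ T := Over.homMk O.ι rfl
  haveI : Etale j.left := (inferInstance : Etale O.ι)
  haveI : IsAffine T'.left := hO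
  have hjc : RepWith @Etale ((yon S).map j ≫ c) := AlgSpLib.repWith_comp ((repWith_yon_map_iff @Etale j).2 ‹_›) hc
  obtain ⟨J, fJ, sqJ⟩ := AlgSpRegLib.exists_ideal hsnd ((yon S).map j ≫ c)
  refine ⟨T', (yon S).map j ≫ c, (⟨w, hwO⟩ : O), J, fJ, hjc, ?_, ?_, sqJ⟩
  · rw [AlgSpLib.ofPt_yon_comp]
    change Points.ofPt ((yon S).map t₀ ≫ b) w = _
    rw [AlgSpLib.ofPt_yon_comp, hw, hu₀]
  · let s : T' ⟶ U := j ≫ t
    have hJ : I.comap s.left = J := by
      have e := AlgSpRegLib.comap_ideal_eq sq (sqJ.paste_horiz hP) s (𝟙 T') (by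
        simp only [s, c, Functor.map_comp, Category.assoc, CategoryTheory.Functor.map_id, Category.id_comp]
        rw [sqT.w])
      simpa using! e
    have e0 : (⊤ : T'.left.Opens) ≤ s.left ⁻¹ᵁ ⊤ := le_top
    have hideal : J.ideal ⟨⊤, isAffineOpen_top T'.left⟩ = Ideal.span {s.left.appTop.hom g} := by
      rw [← hJ]
      refine (Groth.Agent.S4666.ideal_comap_eq I s.left ⟨⊤, isAffineOpen_top U.left⟩ ⟨⊤, isAffineOpen_top T'.left⟩ e0).trans ?_
      rw [hI, Ideal.map_span, Set.image_singleton]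
      congr 2
      simp [Scheme.Hom.appLE]
    let E : EtOver X.obj := EtOver.mk ((yon S).map j ≫ c) hjc
    haveI : IsAffine E.obj.left.left := hO
    refine fun v => ⟨⟨⊤, isAffineOpen_top T'.left⟩, trivial, _, ?_, hideal⟩
    refine mem_nonZeroDivisors_of_avoid E _ fun v hv hmem => h _ hv ?_
    have hsupp : v ∈ J.support := by
      rw [Scheme.IdealSheafData.mem_support_iff_of_mem (I := J) (U := ⟨⊤, isAffineOpen_top _⟩) trivial, hideal,
        mem_zeroLocus_iff_le, Ideal.span_eq, Ideal.span_singleton_le_iff_mem]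
      exact hmem
    obtain ⟨y, hy⟩ := (AlgSpRegLib.mem_support_iff sqJ v).1 hsupp
    refine ⟨Points.map fst.hom y, ?_⟩
    rw [← Points.map_comp, hP.w, Points.map_comp, hy]
    rfl

end ModEtQc
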