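import Groth.Agent.EtShLib.GaAffine

/-!
# Čech acyclicity of modules of sections in any universe
-/

set_option autoImplicit false
set_option linter.unusedSectionVars false
set_option linter.style.haveILetI false
set_option backward.isDefEq.respectTransparency false
set_option backward.isDefEq.respectTransparency.types false
set_option maxHeartbeats 400000
set_option synthInstance.maxHeartbeats 100000

universe v u

open CategoryTheory CategoryTheory.Limits CategoryTheory.Abelian AlgebraicGeometry Opposite TopologicalSpace TensorProduct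
open Groth.Agent Groth.Agent.EtShLib Groth.Agent.EtShLib.GaAux

noncomputable section

namespace ModEtQc

variable {X : Scheme.{u}}

/-- Modules of sections on the étale site, abstractly. -/
structure ModsV (X : Scheme.{u}) where
  /-- sections -/
  A : X.Etale → Type v
  [grp : ∀ U, AddCommGroup (A U)]
  [mdl : ∀ U : X.Etale, Module Γ(U.left, ⊤) (A U)]
  /-- restriction -/
  r : ∀ {U U' : X.Etale}, (U' ⟶ U) → A U →+ A U'
  r_smul : ∀ {U U' : X.Etale} (g : U' ⟶ U) (a : Γ(U.left, ⊤)) (m : A U), r g (a • m) = res g a • r g m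
  r_r : ∀ {U U' U'' : X.Etale} (g : U' ⟶ U) (h : U'' ⟶ U') (m : A U), r h (r g m) = r (h ≫ g) m
  r_id : ∀ {U : X.Etale} (m : A U), r (𝟙 U) m = m
  isBC : ∀ {U U' : X.Etale} [IsAffine U.left] [IsAffine U'.left] (g : U' ⟶ U)
    [Algebra Γ(U.left, ⊤) Γ(U'.left, ⊤)] [Module Γ(U.left, ⊤) (A U')]
    [IsScalarTower Γ(U.left, ⊤) Γ(U'.left, ⊤) (A U')] (_ : ∀ t, algebraMap Γ(U.left, ⊤) Γ(U'.left, ⊤) t = res g t)
    (ψ : A U →ₗ[Γ(U.left, ⊤)] A U') (_ : ∀ m, ψ m = r g m), IsBaseChange Γ(U'.left, ⊤) ψ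

attribute [instance] ModsV.grp ModsV.mdl

variable (P : ModsV X) {W' W : X.Etale} (π : W' ⟶ W)

/-- The differential. -/
def ModsV.dM (n : ℕ) : P.A (obj π n) →+ P.A (obj π (n + 1)) :=
  ∑ i : Fin (n + 2), ((-1 : ℤ) ^ (i : ℕ)) • P.r (face π n i)

theorem ModsV.dM_apply (n : ℕ) (x : P.A (obj π n)) :
    P.dM π n x = ∑ i : Fin (n + 2), ((-1 : ℤ) ^ (i : ℕ)) • P.r (face π n i) x := by
  simp [ModsV.dM, AddMonoidHom.finsetSum_apply]

/-- The differential without the first face. -/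
def ModsV.dM' (n : ℕ) : P.A (obj π (n + 1)) →+ P.A (obj π (n + 2)) :=
  ∑ i : Fin (n + 2), ((-1 : ℤ) ^ (i : ℕ)) • P.r (face π (n + 1) i.succ)

theorem ModsV.dM'_apply (n : ℕ) (x : P.A (obj π (n + 1))) :
    P.dM' π n x = ∑ i : Fin (n + 2), ((-1 : ℤ) ^ (i : ℕ)) • P.r (face π (n + 1) i.succ) x := by
  simp [ModsV.dM', AddMonoidHom.finsetSum_apply]


theorem ModsV.dM'_exact (n : ℕ) (x : P.A (obj π (n + 2))) (h : P.dM' π (n + 1) x = 0) :
    ∃ y, P.dM' π n y = x := by
  refine ⟨P.r (dup π (n + 1)) x, ?_⟩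
  have h' := congrArg (P.r (dup π (n + 2))) h
  rw [P.dM'_apply, map_sum, map_zero, Fin.sum_univ_succ] at h'
  simp only [map_zsmul, P.r_r, Fin.val_zero, pow_zero, one_smul, Fin.val_succ,
    show (0 : Fin (n + 2 + 1)).succ = 1 from rfl, dup_face_one, P.r_id, dup_face] at h'
  rw [P.dM'_apply, eq_comm, ← sub_eq_zero, sub_eq_add_neg, ← Finset.sum_neg_distrib]
  refine Eq.trans (congrArg (x + ·) (Finset.sum_congr rfl fun i _ => ?_)) h'
  rw [P.r_r, pow_succ, mul_neg_one, neg_smul]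

theorem ModsV.dM_exact [Surjective π.left] [IsAffine W'.left] [IsAffine W.left] (n : ℕ)
    (hdd : ∀ y, P.dM π (n + 1) (P.dM π n y) = 0) (x : P.A (obj π (n + 1))) (hx : P.dM π (n + 1) x = 0) : ∃ y, P.dM π n y = x := by
  let Gf := Scheme.Etale.forget X ⋙ Over.forget X
  have hsq : ∀ m, IsPullback (pr π (m + 1) 0).left (face π m 0).left π.left (EpsLib.pow π m).hom.left := fun m => by
    rw [face_zero_eq]
    exact (IsPullback.of_hasPullback π (EpsLib.pow π m).hom).map Gf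
  have haff : ∀ m, IsAffine (obj π m).left := fun m => pow_isAffine π m
  haveI := haff
  haveI := etale_left π
  letI : Algebra Γ(W.left, ⊤) Γ(W'.left, ⊤) := (res π).toAlgebra
  haveI : Module.FaithfullyFlat Γ(W.left, ⊤) Γ(W'.left, ⊤) :=
    (AlgebraicGeometry.Flat.flat_and_surjective_iff_faithfullyFlat_of_isAffine π.left).1 ⟨inferInstance, inferInstance⟩
  letI : ∀ m, Algebra Γ(W.left, ⊤) Γ((obj π m).left, ⊤) := fun m => (res (pr π m 0 ≫ π)).toAlgebra
  letI : ∀ m, Algebra Γ(W'.left, ⊤) Γ((obj π (m + 1)).left, ⊤) := fun m => (res (pr π (m + 1) 0)).toAlgebra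
  haveI : ∀ m, IsScalarTower Γ(W.left, ⊤) Γ(W'.left, ⊤) Γ((obj π (m + 1)).left, ⊤) := fun m =>
    IsScalarTower.of_algebraMap_eq fun a => (res_comp (pr π (m + 1) 0) π a).symm
  letI : ∀ m, Module Γ(W.left, ⊤) (P.A (obj π m)) := fun m =>
    Module.compHom (P.A (obj π m)) (res (pr π m 0 ≫ π))
  haveI : ∀ m, IsScalarTower Γ(W.left, ⊤) Γ((obj π m).left, ⊤) (P.A (obj π m)) := fun m =>
    IsScalarTower.of_algebraMap_smul fun _ _ => rfl
  have hlin : ∀ m (i : Fin (m + 2)) (a : Γ(W.left, ⊤)) (z : P.A (obj π m)),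
      P.r (face π m i) (a • z) = a • P.r (face π m i) z := fun m i a z => by
    refine (P.r_smul (face π m i) (res (pr π m 0 ≫ π) a) z).trans ?_
    rw [res_comp, face_w]
    rfl
  let D : ∀ m, P.A (obj π m) →ₗ[Γ(W.left, ⊤)] P.A (obj π (m + 1)) := fun m =>
    { toFun := P.dM π m
      map_add' := map_add _
      map_smul' := fun a z => by
        rw [RingHom.id_apply, P.dM_apply, P.dM_apply, Finset.smul_sum]
        exact Finset.sum_congr rfl fun i _ => by rw [hlin, smul_comm] }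
  have hpo : ∀ m, ∃ e : Γ(W'.left, ⊤) ⊗[Γ(W.left, ⊤)] P.A (obj π m) ≃+ P.A (obj π (m + 1)),
      ∀ b z, e (b ⊗ₜ z) = res (pr π (m + 1) 0) b • P.r (face π m 0) z := fun m => by
    letI : Algebra Γ((obj π m).left, ⊤) Γ((obj π (m + 1)).left, ⊤) := (res (face π m 0)).toAlgebra
    haveI : IsScalarTower Γ(W.left, ⊤) Γ((obj π m).left, ⊤) Γ((obj π (m + 1)).left, ⊤) :=
      IsScalarTower.of_algebraMap_eq fun a => by
        show res (pr π (m + 1) 0 ≫ π) a = res (face π m 0) (res (pr π m 0 ≫ π) a)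
        rw [res_comp, face_w]
    haveI : IsAffine (EpsLib.pow π m).left.left := haff m
    have hp := isPushout_appTop_of_isPullback (hsq m)
    have hp' : IsPushout (CommRingCat.ofHom (algebraMap Γ(W.left, ⊤) Γ(W'.left, ⊤)))
        (CommRingCat.ofHom (algebraMap Γ(W.left, ⊤) Γ((obj π m).left, ⊤)))
        (CommRingCat.ofHom (algebraMap Γ(W'.left, ⊤) Γ((obj π (m + 1)).left, ⊤)))
        (CommRingCat.ofHom (algebraMap Γ((obj π m).left, ⊤) Γ((obj π (m + 1)).left, ⊤))) := by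
      have hh : (EpsLib.pow π m).hom = pr π m 0 ≫ π := (EpsLib.powPr_w π m 0).symm
      rw [hh] at hp
      exact hp
    haveI : Algebra.IsPushout Γ(W.left, ⊤) Γ(W'.left, ⊤) Γ((obj π m).left, ⊤) Γ((obj π (m + 1)).left, ⊤) :=
      CommRingCat.isPushout_iff_isPushout.1 hp'
    letI : Module Γ((obj π m).left, ⊤) (P.A (obj π (m + 1))) :=
      Module.compHom (P.A (obj π (m + 1))) (res (face π m 0))
    haveI : IsScalarTower Γ((obj π m).left, ⊤) Γ((obj π (m + 1)).left, ⊤) (P.A (obj π (m + 1))) :=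
      IsScalarTower.of_algebraMap_smul fun _ _ => rfl
    let ψ : P.A (obj π m) →ₗ[Γ((obj π m).left, ⊤)] P.A (obj π (m + 1)) :=
      { toFun := P.r (face π m 0), map_add' := map_add _, map_smul' := fun r z => P.r_smul _ r z }
    have hb := P.isBC (face π m 0) (fun _ => rfl) ψ (fun _ => rfl)
    refine ⟨(Algebra.IsPushout.cancelBaseChangeAux Γ(W.left, ⊤) Γ(W'.left, ⊤) Γ((obj π m).left, ⊤)
      Γ((obj π (m + 1)).left, ⊤) (P.A (obj π m))).symm.toAddEquiv.trans hb.equiv.toAddEquiv, fun b z => ?_⟩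
    show hb.equiv ((Algebra.IsPushout.cancelBaseChangeAux Γ(W.left, ⊤) Γ(W'.left, ⊤) Γ((obj π m).left, ⊤)
      Γ((obj π (m + 1)).left, ⊤) (P.A (obj π m))).symm (b ⊗ₜ z)) = _
    rw [Algebra.IsPushout.cancelBaseChangeAux_symm_tmul, IsBaseChange.equiv_tmul]
    rfl
  choose e he using hpo
  have hcomm : ∀ m z, P.dM' π m (e m z) = e (m + 1) ((D m).lTensor Γ(W'.left, ⊤) z) := fun m z => by
    induction z using TensorProduct.induction_on with
    | zero => simp
    | add z₁ z₂ h₁ h₂ => simp only [map_add, h₁, h₂]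
    | tmul b y =>
      rw [LinearMap.lTensor_tmul, he, he, P.dM'_apply]
      show _ = _ • P.r (face π (m + 1) 0) (P.dM π m y)
      rw [P.dM_apply, map_sum, Finset.smul_sum]
      refine Finset.sum_congr rfl fun i _ => ?_
      rw [P.r_smul, map_zsmul, res_comp, P.r_r, P.r_r, face_succ_pr, face_comm, smul_comm]
  have hex : Function.Exact (D n) (D (n + 1)) := by
    rw [← Module.FaithfullyFlat.lTensor_exact_iff_exact Γ(W.left, ⊤) Γ(W'.left, ⊤)]
    have h2 : (D (n + 1)) ∘ₗ (D n) = 0 := LinearMap.ext hdd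
    intro z
    refine ⟨fun hz => ?_, ?_⟩
    · obtain ⟨y, hy⟩ := P.dM'_exact π n (e (n + 1) z) (by rw [hcomm, hz, map_zero])
      obtain ⟨y', rfl⟩ := (e n).surjective y
      exact ⟨y', (e (n + 1)).injective (by rw [← hcomm, hy])⟩
    · rintro ⟨w, rfl⟩
      rw [← LinearMap.comp_apply, ← LinearMap.lTensor_comp, h2, LinearMap.lTensor_zero, LinearMap.zero_apply]
  exact (hex x).1 hx

theorem cechAcyclicA_of_modsV (P : ModsV X) {G : EtCoh.Ab X} (a : ∀ U, G.obj.obj (op U) →+ P.A U)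
    (ha : ∀ U, Function.Bijective (a U))
    (hr : ∀ {U U' : X.Etale} (g : U' ⟶ U) (t : G.obj.obj (op U)), a U' (G.obj.map g.op t) = P.r g (a U t)) :
    CechAcyclicA G := fun W' W π h1 h2 h3 n s hs => by
  haveI := h1; haveI := h2; haveI := h3
  have key : ∀ m (t : G.obj.obj (op (obj π m))),
      a (obj π (m + 1)) (EpsLib.cechD (EpsLib.nerveOf π) G.obj m t) = P.dM π m (a (obj π m) t) := fun m t => by
    rw [EpsLib.cechD_apply, P.dM_apply, map_sum]
    refine Finset.sum_congr rfl fun i _ => ?_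
    rw [map_zsmul]
    exact congrArg (fun w => ((-1 : ℤ) ^ (i : ℕ)) • w) (hr (face π m i) t)
  obtain ⟨y, hy⟩ := P.dM_exact π n (fun y => by
      obtain ⟨t, rfl⟩ := (ha (obj π n)).2 y
      rw [← key, ← key, EpsLib.cechD_cechD, map_zero]) (a (obj π (n + 1)) s) (by
      rw [← key, hs, map_zero])
  obtain ⟨t, rfl⟩ := (ha (obj π n)).2 y
  exact ⟨t, (ha _).1 ((key n t).trans hy)⟩

end ModEtQc
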