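import Groth.Agent.ModEtQcLib.Affine
import Mathlib.Algebra.Category.ModuleCat.Colimits
import Mathlib.Algebra.Category.ModuleCat.Abelian
import Mathlib.CategoryTheory.Limits.Preserves.Shapes.Products
import Mathlib.CategoryTheory.Limits.Preserves.Shapes.Kernels

/-!
# Presentations of modules on the slice over an affine object
-/

set_option autoImplicit false
set_option backward.isDefEq.respectTransparency false
set_option backward.isDefEq.respectTransparency.types false
universe u
open CategoryTheory CategoryTheory.Limits AlgebraicGeometry Opposite AlgSp TopologicalSpace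
open scoped TensorProduct

noncomputable section

namespace ModEtQc

variable {S : Scheme.{u}} {X : Sp S} {E₀ : EtOver X}

/-- The comparison map `O ⊗ G(E₀) → G`. -/
abbrev evalMap (G : ModEtOn E₀) : pre (secP G.val (top E₀)) ⟶ G.val := extend LinearMap.id

/-- The module is associated to its module of global sections on affine objects. -/
def IsTilde (G : ModEtOn E₀) : Prop :=
  ∀ Z : Over E₀, IsAffine Z.left.obj.left.left → Function.Bijective (appP (evalMap G) Z)

theorem appP_natural {F G : PresheafOfModules.{u + 1} (OEtOn E₀).obj} (φ : F ⟶ G) {A B : Over E₀} (k : B ⟶ A)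
    (x : secP F A) : appP φ B (resP F k x) = resP G k (appP φ A x) :=
  PresheafOfModules.naturality_apply φ k.op x

theorem appP_smul {F G : PresheafOfModules.{u + 1} (OEtOn E₀).obj} (φ : F ⟶ G) {A : Over E₀} (r : Ring A.left)
    (x : secP F A) : appP φ A (r • x) = r • appP φ A x :=
  map_smul (φ.app (op A)).hom r x

theorem resP_pre (N : Type (u + 1)) [AddCommGroup N] [Module (Ring E₀) N] {A B : Over E₀} (k : B ⟶ A)
    (x : Ring A.left ⊗[Ring E₀] N) : resP (pre N) k x = preMap N k x := rfl

theorem smul_one_tmul {N : Type (u + 1)} [AddCommGroup N] [Module (Ring E₀) N] {A : Over E₀} (r : Ring A.left)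
    (n : N) : r • ((1 : Ring A.left) ⊗ₜ[Ring E₀] n) = r ⊗ₜ[Ring E₀] n := by
  rw [TensorProduct.smul_tmul', smul_eq_mul, mul_one]

theorem isTilde_of_iso {G G' : ModEtOn E₀} (e : G ≅ G') (h : IsTilde G) : IsTilde G' := by
  intro Z hZ
  let l : secP G.val (top E₀) ≃ₗ[Ring E₀] secP G'.val (top E₀) := ((Γt E₀).mapIso e).toLinearEquiv
  have hl : ∀ x, l x = appP e.hom.val (top E₀) x := fun x => rfl
  have he : Function.Bijective (appP e.hom.val Z) := by
    refine ⟨Function.LeftInverse.injective (g := appP e.inv.val Z) fun x => ?_,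
      Function.RightInverse.surjective (g := appP e.inv.val Z) fun x => ?_⟩
    · change appP (e.hom ≫ e.inv).val Z x = x
      rw [e.hom_inv_id]; rfl
    · change appP (e.inv ≫ e.hom).val Z x = x
      rw [e.inv_hom_id]; rfl
  have key : ∀ t, appP (evalMap G') Z (LinearEquiv.lTensor (Ring Z.left) l t) = appP e.hom.val Z (appP (evalMap G) Z t) := by
    intro t
    induction t using TensorProduct.induction_on with
    | zero => exact (map_zero _).trans ((map_zero (e.hom.val.app (op Z)).hom).symm.trans (congrArg _ (map_zero _).symm))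
    | tmul r n =>
      rw [LinearEquiv.lTensor_tmul]
      change r • resP G'.val (toTop Z) (l n) = appP e.hom.val Z (r • resP G.val (toTop Z) n)
      rw [appP_smul, appP_natural, hl]
    | add x y hx hy =>
      rw [map_add]
      change extendApp _ Z (_ + _) = appP e.hom.val Z (extendApp _ Z (_ + _))
      rw [map_add, map_add]
      exact (congr_arg₂ (· + ·) hx hy).trans (map_add (e.hom.val.app (op Z)).hom _ _).symm
  refine (Function.Bijective.of_comp_iff _ (LinearEquiv.bijective (LinearEquiv.lTensor (Ring Z.left) l))).1 ?_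
  have := he.comp (h Z hZ)
  rwa [← show appP (evalMap G') Z ∘ ⇑(LinearEquiv.lTensor (Ring Z.left) l) = appP e.hom.val Z ∘ appP (evalMap G) Z from
    funext key] at this

theorem isTilde_tilde [IsAffine E₀.obj.left.left] (N : ModuleCat.{u + 1} (Ring E₀)) :
    IsTilde ((tildeF E₀).obj N) := by
  intro Z hZ
  haveI := isIso_unit (E₀ := E₀)
  let l : N ≃ₗ[Ring E₀] secP (tilde N).val (top E₀) := (asIso ((tildeAdj E₀).unit.app N)).toLinearEquiv
  have key : ∀ t, appP (evalMap (tilde N)) Z (LinearEquiv.lTensor (Ring Z.left) l t) = appP (tildeUnit N) Z t := by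
    intro t
    induction t using TensorProduct.induction_on with
    | zero => exact (map_zero _).trans (map_zero ((tildeUnit N).app (op Z)).hom).symm
    | tmul r n =>
      rw [LinearEquiv.lTensor_tmul]
      change r • resP (tilde N).val (toTop Z) ((tildeAdj E₀).unit.app N n) = _
      rw [unit_tildeAdj_apply, ← appP_natural, ← appP_smul, resP_pre, preMap_tmul, map_one, smul_one_tmul]
    | add x y hx hy =>
      rw [map_add]
      change extendApp _ Z (_ + _) = _
      rw [map_add]
      exact (congr_arg₂ (· + ·) hx hy).trans (map_add ((tildeUnit N).app (op Z)).hom _ _).symm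
  haveI : IsAffine Z.left.obj.left.left := hZ
  refine (Function.Bijective.of_comp_iff _ (LinearEquiv.bijective (LinearEquiv.lTensor (Ring Z.left) l))).1 ?_
  have := bijective_tildeUnit N Z
  rwa [← show appP (evalMap (tilde N)) Z ∘ ⇑(LinearEquiv.lTensor (Ring Z.left) l) = appP (tildeUnit N) Z from
    funext key] at this

theorem mem_over_of_cover {Z : Over E₀} {ι : Type*} (Y : ι → Over E₀) (g : ∀ i, Y i ⟶ Z)
    (hcov : ∀ x, ∃ i, x ∈ Set.range (g i).left.hom.left.left) : Sieve.ofArrows Y g ∈ (etTop X).over E₀ Z := by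
  have key : ∀ i, Sieve.ofArrows Y g (Over.homMk (g i).left rfl : Over.mk ((g i).left ≫ Z.hom) ⟶ Z) := fun i =>
    ⟨Y i, Over.homMk (𝟙 _) (by simpa using (Over.w (g i)).symm), g i, Presieve.ofArrows.mk i,
      Over.OverMorphism.ext (Category.id_comp _)⟩
  rw [GrothendieckTopology.mem_over_iff]
  refine (etTop X).superset_covering ?_ (ofArrows_mem_etTop (fun i => (Y i).left) (fun i => (g i).left) hcov)
  rw [Sieve.generate_le_iff]
  intro P q hq
  obtain ⟨i⟩ := hq
  rw [Sieve.overEquiv_iff]
  exact key i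

theorem exists_affine_cover_over (Z : Over E₀) :
    ∃ (ι : Type u) (Y : ι → Over E₀) (g : ∀ i, Y i ⟶ Z), (∀ i, IsAffine (Y i).left.obj.left.left) ∧
      ∀ x, ∃ i, x ∈ Set.range (g i).left.hom.left.left := by
  obtain ⟨ι, Y, g, hY, hc⟩ := exists_affine_cover Z.left
  exact ⟨ι, fun i => Over.mk (g i ≫ Z.hom), fun i => Over.homMk (g i) rfl, hY, hc⟩

/-- A morphism bijective on affine objects is an isomorphism. -/
theorem isIso_of_bijective_affine {G G' : ModEtOn E₀} (φ : G ⟶ G')
    (h : ∀ Z : Over E₀, IsAffine Z.left.obj.left.left → Function.Bijective (appP φ.val Z)) : IsIso φ := by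
  let ψ := (SheafOfModules.toSheaf (OEtOn E₀)).map φ
  have hinj : ∀ Z : Over E₀, Function.Injective (appP φ.val Z) := by
    intro Z x y hxy
    obtain ⟨ι, Y, g, hY, hc⟩ := exists_affine_cover_over Z
    have hsh : Presieve.IsSeparated ((etTop X).over E₀) (G.val.presheaf ⋙ forget AddCommGrpCat.{u + 1}) :=
      (((isSheaf_iff_isSheaf_of_type _ _).1
        ((Presheaf.isSheaf_iff_isSheaf_forget _ G.val.presheaf (forget AddCommGrpCat.{u + 1})).1 G.isSheaf))).isSeparated
    refine (hsh _ (mem_over_of_cover Y g hc)).ext fun P k hk => ?_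
    obtain ⟨P', a, _, ⟨i⟩, rfl⟩ := hk
    change resP G.val (a ≫ g i) x = resP G.val (a ≫ g i) y
    rw [resP_comp, resP_comp]
    refine congrArg _ ((h _ (hY i)).1 ?_)
    rw [appP_natural, appP_natural, hxy]
  haveI : Mono ψ := by
    haveI : ∀ Z, Mono (ψ.hom.app Z) := fun Z => (AddCommGrpCat.mono_iff_injective _).2 (hinj Z.unop)
    exact (sheafToPresheaf _ _).mono_of_mono_map (f := ψ) (NatTrans.mono_of_mono_app ψ.hom)
  haveI : Epi ψ := by
    rw [← Sheaf.isLocallySurjective_iff_epi']
    refine ⟨fun {Z} s => ?_⟩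
    obtain ⟨ι, Y, g, hY, hc⟩ := exists_affine_cover_over Z
    refine ((etTop X).over E₀).superset_covering ?_ (mem_over_of_cover Y g hc)
    rw [Sieve.generate_le_iff]
    intro P q hq
    obtain ⟨i⟩ := hq
    exact (h _ (hY i)).2 (resP G'.val (g i) s)
  haveI : IsIso ψ := isIso_of_mono_of_epi ψ
  exact isIso_of_reflects_iso φ (SheafOfModules.toSheaf (OEtOn E₀))

theorem isIso_counit_of_isTilde {G : ModEtOn E₀} (h : IsTilde G) : IsIso ((tildeAdj E₀).counit.app G) := by
  refine isIso_of_bijective_affine _ fun Z hZ => ?_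
  haveI : IsAffine Z.left.obj.left.left := hZ
  have e : ((tildeUnit (gsecMod G)) ≫ ((tildeAdj E₀).counit.app G).val) = evalMap G := by
    apply (preEquiv (gsecMod G) G.val).injective
    have h1 := (tildeAdj E₀).right_triangle_components G
    refine LinearMap.ext fun n => ?_
    have h2 := congrArg (fun q : (Γt E₀).obj G ⟶ (Γt E₀).obj G => q n) h1
    refine Eq.trans ?_ (Eq.trans h2 ?_)
    · change appP ((tildeAdj E₀).counit.app G).val (top E₀) (appP (tildeUnit (gsecMod G)) (top E₀) _) =
        appP ((tildeAdj E₀).counit.app G).val (top E₀) ((tildeAdj E₀).unit.app (gsecMod G) n)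
      rw [unit_tildeAdj_apply]
    · exact (congrFun (congrArg DFunLike.coe ((preEquiv (gsecMod G) G.val).apply_symm_apply LinearMap.id)) n).symm
  have h3 : appP (evalMap G) Z = appP ((tildeAdj E₀).counit.app G).val Z ∘ appP (tildeUnit (gsecMod G)) Z := by
    rw [← e]; rfl
  have h4 := h Z hZ
  rw [h3] at h4
  exact (Function.Bijective.of_comp_iff _ (bijective_tildeUnit (gsecMod G) Z)).1 h4

/-- `O ⊗ A` is the structure presheaf. -/
theorem isIso_tilde_ring :
    Nonempty ((tildeF E₀).obj (ModuleCat.of (Ring E₀) (Ring E₀)) ≅ SheafOfModules.unit (OEtOn E₀)) := by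
  let f : Ring E₀ →ₗ[Ring E₀] secP (SheafOfModules.unit (OEtOn E₀)).val (top E₀) :=
    LinearMap.toSpanSingleton (Ring E₀) (secP (SheafOfModules.unit (OEtOn E₀)).val (top E₀)) (1 : Ring (top E₀).left)
  let φ : pre (Ring E₀) ⟶ (SheafOfModules.unit (OEtOn E₀)).val := extend f
  have hφ : ∀ Z : Over E₀, Function.Bijective (appP φ Z) := fun Z => by
    have e : appP φ Z = ⇑(TensorProduct.rid (Ring E₀) (Ring Z.left)) := by
      funext t
      induction t using TensorProduct.induction_on with
      | zero => exact (map_zero _).trans (map_zero _).symm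
      | tmul r a =>
        rw [TensorProduct.rid_tmul, Algebra.smul_def]
        change r * rho (toTop Z).left (a * (1 : Ring E₀)) = rho Z.hom a * r
        rw [mul_one, mul_comm]
        rfl
      | add x y hx hy =>
        change extendApp f Z (x + y) = _
        rw [map_add, map_add]
        exact congr_arg₂ (· + ·) hx hy
    rw [e]
    exact LinearEquiv.bijective _
  haveI : IsIso φ := by
    haveI : ∀ Z, IsIso (((PresheafOfModules.toPresheaf _).map φ).app Z) := fun Z => by
      rw [ConcreteCategory.isIso_iff_bijective]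
      exact hφ Z.unop
    haveI := NatIso.isIso_of_isIso_app ((PresheafOfModules.toPresheaf _).map φ)
    exact isIso_of_reflects_iso φ (PresheafOfModules.toPresheaf _)
  exact ⟨(PresheafOfModules.sheafification (idO E₀)).mapIso (asIso φ) ≪≫
    asIso ((PresheafOfModules.sheafificationAdjunction (idO E₀)).counit.app (SheafOfModules.unit (OEtOn E₀)))⟩

/-- The free sheaf is associated to a free module. -/
theorem exists_free_iso (I : Type (u + 1)) :
    ∃ F : ModuleCat.{u + 1} (Ring E₀), Nonempty ((tildeF E₀).obj F ≅ SheafOfModules.free (R := OEtOn E₀) I) := by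
  obtain ⟨e⟩ := isIso_tilde_ring (E₀ := E₀)
  exact ⟨∐ fun _ : I => ModuleCat.of (Ring E₀) (Ring E₀),
    ⟨PreservesCoproduct.iso (tildeF E₀) _ ≪≫ Sigma.mapIso fun _ => e⟩⟩

theorem isTilde_of_presentation [IsAffine E₀.obj.left.left] {M : ModEtOn E₀} (P : M.Presentation) : IsTilde M := by
  haveI := isIso_unit (E₀ := E₀)
  let hF := (tildeAdj E₀).fullyFaithfulLOfIsIsoUnit
  obtain ⟨F₁, ⟨e₁⟩⟩ := exists_free_iso (E₀ := E₀) P.relations.I
  obtain ⟨F₀, ⟨e₀⟩⟩ := exists_free_iso (E₀ := E₀) P.generators.I
  let f := (SheafOfModules.freeHomEquiv _).symm P.relations.s ≫ kernel.ι P.generators.π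
  let a : F₁ ⟶ F₀ := hF.preimage (e₁.hom ≫ f ≫ e₀.inv)
  have w : (tildeF E₀).map a ≫ e₀.hom = e₁.hom ≫ f := by
    rw [hF.map_preimage, Category.assoc, Category.assoc, Iso.inv_hom_id, Category.comp_id]
  refine isTilde_of_iso (PreservesCokernel.iso (tildeF E₀) a ≪≫ cokernel.mapIso _ _ e₁ e₀ w ≪≫ ?_) (isTilde_tilde _)
  exact (colimit.isColimit _).coconePointUniqueUpToIso P.isColimit

theorem exists_presentation_of_isTilde {M : ModEtOn E₀} (h : IsTilde M) : Nonempty M.Presentation := by
  haveI := isIso_counit_of_isTilde h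
  obtain ⟨e⟩ := isIso_tilde_ring (E₀ := E₀)
  let A := ModuleCat.of (Ring E₀) (Ring E₀)
  let N : ModuleCat.{u + 1} (Ring E₀) := (Γt E₀).obj M
  let π : (∐ fun _ : N => A) ⟶ N := Sigma.desc fun n => ModuleCat.ofHom (LinearMap.toSpanSingleton (Ring E₀) N n)
  haveI : Epi π := (ModuleCat.epi_iff_surjective π).2 fun n =>
    ⟨Sigma.ι (fun _ : N => A) n (1 : Ring E₀), by
      have := congrArg (fun q : A ⟶ N => q (1 : Ring E₀))
        (Sigma.ι_desc (fun n => ModuleCat.ofHom (LinearMap.toSpanSingleton (Ring E₀) N n)) n)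
      exact this.trans (one_smul _ n)⟩
  let K : ModuleCat.{u + 1} (Ring E₀) := kernel π
  let κ : (∐ fun _ : K => A) ⟶ K := Sigma.desc fun n => ModuleCat.ofHom (LinearMap.toSpanSingleton (Ring E₀) K n)
  haveI : Epi κ := (ModuleCat.epi_iff_surjective κ).2 fun n =>
    ⟨Sigma.ι (fun _ : K => A) n (1 : Ring E₀), by
      have := congrArg (fun q : A ⟶ K => q (1 : Ring E₀))
        (Sigma.ι_desc (fun n => ModuleCat.ofHom (LinearMap.toSpanSingleton (Ring E₀) K n)) n)
      exact this.trans (one_smul _ n)⟩
  have hz : (κ ≫ kernel.ι π) ≫ π = 0 := by rw [Category.assoc, kernel.condition, comp_zero]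
  have hc : IsColimit (CokernelCofork.ofπ π hz) :=
    isCokernelEpiComp (c := CokernelCofork.ofπ _ (kernel.condition π))
      (Abelian.epiIsCokernelOfKernel _ (limit.isLimit _)) _ rfl
  let i : ∀ J : Type (u + 1), (tildeF E₀).obj (∐ fun _ : J => A) ≅ SheafOfModules.free (R := OEtOn E₀) J := fun J =>
    PreservesCoproduct.iso (tildeF E₀) _ ≪≫ Sigma.mapIso fun _ => e
  let f := (i K).inv ≫ (tildeF E₀).map (κ ≫ kernel.ι π) ≫ (i N).hom
  let g := (i N).inv ≫ (tildeF E₀).map π ≫ (tildeAdj E₀).counit.app M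
  have hfg : f ≫ g = 0 := by
    simp only [f, g, Category.assoc, Iso.hom_inv_id_assoc, ← Functor.map_comp_assoc, hz]
    simp
  refine ⟨SheafOfModules.presentationOfIsCokernelFree f g hfg ?_⟩
  refine IsColimit.equivOfNatIsoOfIso (parallelPair.ext (i K) (i N) (by simp [f]) (by simp))
    _ _ (Cofork.ext (asIso ((tildeAdj E₀).counit.app M)) ?_) (isColimitOfPreserves (tildeF E₀) hc)
  exact Category.assoc _ _ _

end ModEtQc
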