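import Groth.Agent.ModEtQcLib.ClosedImm
import Groth.Agent.EtThickLib.PushDense

/-!
# Direct image along a closed immersion is fully faithful on all modules
-/

set_option autoImplicit false
set_option backward.isDefEq.respectTransparency false
set_option backward.isDefEq.respectTransparency.types false
universe u
open CategoryTheory CategoryTheory.Limits AlgebraicGeometry Opposite AlgSp TopologicalSpace

noncomputable section

namespace ModEtQc

variable {S : Scheme.{u}} {Z X : Sp S} {i : Z ⟶ X} (hi : RepWith @IsClosedImmersion i) (hX : IsAlgSpace X)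
include hX

theorem faithful_push : (pushModEt hi.1).Faithful := by
  haveI := EtThickLib.isCoverDense_bc hi.1 hX (EtThickLib.isIR_of_closedImmersion hi)
  haveI := EtThickLib.isLocallyFull_bc hi.1 (EtThickLib.isIR_of_closedImmersion hi)
  refine ⟨fun {G G'} α β h => (toAbEt Z).map_injective ?_⟩
  refine ((EtOver.bc hi.1).sheafPushforwardContinuous AddCommGrpCat.{u + 1} (etTop X) (etTop Z)).map_injective ?_
  exact congrArg (toAbEt X).map h

/-- Additive maps commuting with functions on base changes commute with functions. -/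
theorem smul_comm_of_bc (G G' : ModEt Z) (ψ : (toAbEt Z).obj G ⟶ (toAbEt Z).obj G')
    (φ : (pushModEt hi.1).obj G ⟶ (pushModEt hi.1).obj G')
    (hψ : ∀ (E : EtOver X) (y : sec G (EtOver.bcObj hi.1 E)),
      (ψ.hom.app (op (EtOver.bcObj hi.1 E))).hom y = appS φ E y)
    (W : EtOver Z) (a : Ring W) (x : sec G W) :
    (show sec G' W from (ψ.hom.app (op W)).hom (a • x)) = a • (show sec G' W from (ψ.hom.app (op W)).hom x) := by
  haveI := EtThickLib.isCoverDense_bc hi.1 hX (EtThickLib.isIR_of_closedImmersion hi)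
  have hnat : ∀ {W' : EtOver Z} (k : W' ⟶ W) (t : sec G W),
      res G' k (show sec G' W from (ψ.hom.app (op W)).hom t) = (ψ.hom.app (op W')).hom (res G k t) := fun k t =>
    (ConcreteCategory.congr_hom (ψ.hom.naturality k.op) t).symm
  have key : ∀ (E : EtOver X) (b : Ring (EtOver.bcObj hi.1 E)) (y : sec G (EtOver.bcObj hi.1 E)),
      appS φ E (show sec ((pushModEt hi.1).obj G) E from b • y) =
        (show sec ((pushModEt hi.1).obj G') E from b • (show sec G' (EtOver.bcObj hi.1 E) from appS φ E y)) := by
    intro E b y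
    obtain ⟨ι, Y, g, hY, hc⟩ := exists_affine_cover E
    refine eq_of_cover ((pushModEt hi.1).obj G') Y g hc _ _ fun j => ?_
    haveI := hY j
    obtain ⟨-, hs⟩ := closedImm_bcObj hi (Y j)
    obtain ⟨c, hc'⟩ := hs (rho ((EtOver.bc hi.1).map (g j)) b)
    rw [← appS_res]
    have h1 : res ((pushModEt hi.1).obj G) (g j) (show sec ((pushModEt hi.1).obj G) E from b • y) =
        c • res ((pushModEt hi.1).obj G) (g j) y := by
      change res G ((EtOver.bc hi.1).map (g j)) (b • y) = bcRho hi.1 (Y j) c • res G ((EtOver.bc hi.1).map (g j)) y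
      rw [hc']
      exact res_smul G _ b y
    rw [h1, map_smul, appS_res]
    change bcRho hi.1 (Y j) c • res G' ((EtOver.bc hi.1).map (g j)) _ = res G' ((EtOver.bc hi.1).map (g j)) _
    rw [hc']
    exact (res_smul G' ((EtOver.bc hi.1).map (g j)) b _).symm
  refine Functor.IsCoverDense.ext (EtOver.bc hi.1)
    ((sheafCompose (etTop Z) (forget AddCommGrpCat.{u + 1})).obj ((toAbEt Z).obj G')) W fun E k => ?_
  change res G' k _ = res G' k _
  rw [hnat, res_smul, res_smul, hnat]
  exact ((hψ E _).trans (key E _ _)).trans (congrArg (rho k a • ·) (hψ E _).symm)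

theorem full_push : (pushModEt hi.1).Full := by
  haveI := EtThickLib.isCoverDense_bc hi.1 hX (EtThickLib.isIR_of_closedImmersion hi)
  haveI := EtThickLib.isLocallyFull_bc hi.1 (EtThickLib.isIR_of_closedImmersion hi)
  refine ⟨fun {G G'} φ => ?_⟩
  let P := (EtOver.bc hi.1).sheafPushforwardContinuous AddCommGrpCat.{u + 1} (etTop X) (etTop Z)
  obtain ⟨ψ, hψ⟩ := P.map_surjective (show P.obj ((toAbEt Z).obj G) ⟶ P.obj ((toAbEt Z).obj G') from
    (toAbEt X).map φ)
  have h : ∀ (E : EtOver X) (y : sec G (EtOver.bcObj hi.1 E)),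
      (ψ.hom.app (op (EtOver.bcObj hi.1 E))).hom y = appS φ E y := fun E y =>
    congrArg (fun q => (q.hom.app (op E)).hom y) hψ
  refine ⟨⟨PresheafOfModules.homMk ψ.hom fun W a x => smul_comm_of_bc hi hX G G' ψ φ h W.unop a x⟩, ?_⟩
  refine (toAbEt X).map_injective ?_
  exact hψ

theorem isIso_counit_closedImm_all [(SheafOfModules.pushforward.{u + 1} (bcRingHom hi.1)).IsRightAdjoint] (G : ModEt Z) :
    IsIso ((pullPushAdjModEt hi.1).counit.app G) := by
  haveI := faithful_push hi hX
  haveI := full_push hi hX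
  haveI : IsIso (pullPushAdjModEt hi.1).counit := (pullPushAdjModEt hi.1).counit_isIso_of_R_fully_faithful
  infer_instance

end ModEtQc
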