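import Groth.Agent.ModEtQcLib.Tilde
import Mathlib.RingTheory.IsTensorProduct

/-!
# `O ⊗ N` satisfies descent on affine objects
-/

set_option autoImplicit false
set_option backward.isDefEq.respectTransparency false
set_option backward.isDefEq.respectTransparency.types false
universe u
open CategoryTheory CategoryTheory.Limits AlgebraicGeometry Opposite AlgSp TopologicalSpace
open scoped TensorProduct

noncomputable section

namespace ModEtQc

variable {S : Scheme.{u}} {X : Sp S} {E₀ : EtOver X}

theorem mem_over_refine {Z : Over E₀} [IsAffine Z.left.obj.left.left] {R : Sieve Z}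
    (hR : R ∈ (etTop X).over E₀ Z) :
    ∃ (n : ℕ) (Y : Fin n → Over E₀) (g : ∀ i, Y i ⟶ Z), (∀ i, IsAffine (Y i).left.obj.left.left) ∧
      (∀ i, R (g i)) ∧ ∀ x, ∃ i, x ∈ Set.range (g i).left.hom.left.left := by
  rw [GrothendieckTopology.mem_over_iff] at hR
  obtain ⟨n, Y, g, hY, hg, hcov⟩ := exists_finite_affine_refinement hR
  exact ⟨n, fun i => Over.mk (g i ≫ Z.hom), fun i => Over.homMk (g i) rfl, hY,
    fun i => (Sieve.overEquiv_iff R (g i)).1 (hg i), hcov⟩

variable (N : Type (u + 1)) [AddCommGroup N] [Module (Ring E₀) N]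

section Local

variable {Z : Over E₀} {ι : Type} (Y : ι → Over E₀) (g : ∀ i, Y i ⟶ Z)

/-- The algebras of a family over an object. -/
@[reducible] def algFam (i : ι) : Algebra (Ring Z.left) (Ring (Y i).left) := (rho (g i).left).toAlgebra

theorem tower (i : ι) : letI := algFam Y g i
    IsScalarTower (Ring E₀) (Ring Z.left) (Ring (Y i).left) := by
  letI := algFam Y g i
  exact IsScalarTower.of_algebraMap_eq' (rhoAlg (g i)).comp_algebraMap.symm

/-- The comparison with a two-step base change. -/
def cancel (i : ι) : letI := algFam Y g i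
    Ring (Y i).left ⊗[Ring Z.left] (Ring Z.left ⊗[Ring E₀] N) ≃ₗ[Ring (Y i).left] Ring (Y i).left ⊗[Ring E₀] N :=
  letI := algFam Y g i
  haveI := tower Y g i
  TensorProduct.AlgebraTensorModule.cancelBaseChange (Ring E₀) (Ring Z.left) (Ring (Y i).left) (Ring (Y i).left) N

theorem cancel_one_tmul (i : ι) (x : Ring Z.left ⊗[Ring E₀] N) :
    letI := algFam Y g i
    cancel N Y g i ((1 : Ring (Y i).left) ⊗ₜ[Ring Z.left] x) = preMap N (g i) x := by
  letI := algFam Y g i
  haveI := tower Y g i
  induction x using TensorProduct.induction_on with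
  | zero => simp
  | tmul r n =>
    rw [cancel, TensorProduct.AlgebraTensorModule.cancelBaseChange_tmul, preMap_tmul, Algebra.smul_def, mul_one]
    rfl
  | add x y hx hy => rw [TensorProduct.tmul_add, map_add, map_add, hx, hy]

theorem faithful [IsAffine Z.left.obj.left.left] [∀ i, IsAffine (Y i).left.obj.left.left]
    (hcov : ∀ x, ∃ i, x ∈ Set.range (g i).left.hom.left.left) :
    letI := fun i => algFam Y g i
    FaithfulFamily (Ring Z.left) (fun i => Ring (Y i).left) := by
  letI := fun i => algFam Y g i
  refine faithfulFamily_of_flat _ (fun i => ?_) (surjective_comap (fun i => (Y i).left) (fun i => (g i).left) hcov)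
  exact RingHom.flat_algebraMap_iff.1 (flat_rho (g i).left)

theorem eq_zero_of_cover [IsAffine Z.left.obj.left.left] [∀ i, IsAffine (Y i).left.obj.left.left]
    (hcov : ∀ x, ∃ i, x ∈ Set.range (g i).left.hom.left.left) (x : Ring Z.left ⊗[Ring E₀] N)
    (hx : ∀ i, preMap N (g i) x = 0) : x = 0 := by
  letI := fun i => algFam Y g i
  refine faithful Y g hcov _ x fun i => (cancel N Y g i).injective ?_
  rw [cancel_one_tmul, hx, map_zero]

theorem exists_glue [Finite ι] [IsAffine Z.left.obj.left.left] [∀ i, IsAffine (Y i).left.obj.left.left]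
    (hcov : ∀ x, ∃ i, x ∈ Set.range (g i).left.hom.left.left) (x : ∀ i, Ring (Y i).left ⊗[Ring E₀] N)
    (hx : ∀ (i j : ι) (P : Over E₀) (a : P ⟶ Y i) (b : P ⟶ Y j), IsAffine P.left.obj.left.left →
      a ≫ g i = b ≫ g j → preMap N a (x i) = preMap N b (x j)) :
    ∃ y : Ring Z.left ⊗[Ring E₀] N, ∀ i, preMap N (g i) y = x i := by
  letI := fun i => algFam Y g i
  haveI := fun i => tower Y g i
  let M := Ring Z.left ⊗[Ring E₀] N
  obtain ⟨y, hy⟩ := family_descent (fun i => Ring (Y i).left) (faithful Y g hcov) M
    (fun i => (cancel N Y g i).symm (x i)) fun k l => by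
    let P₀ := EtOver.pullbackObj (g l).left (g k).left
    let p₁ := EtOver.pullbackFst (g l).left (g k).left
    let p₂ := EtOver.pullbackSnd (g l).left (g k).left
    let P : Over E₀ := Over.mk (p₁ ≫ (Y l).hom)
    let a : P ⟶ Y l := Over.homMk p₁ rfl
    let b : P ⟶ Y k := Over.homMk p₂ (by
      change p₂ ≫ (Y k).hom = p₁ ≫ (Y l).hom
      rw [← Over.w (g k), ← Over.w (g l), ← Category.assoc, ← Category.assoc, EtOver.pullback_condition])
    have hab : a ≫ g l = b ≫ g k := Over.OverMorphism.ext (EtOver.pullback_condition _ _)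
    obtain ⟨haff, hpo⟩ := isPushout_rho (g l).left (g k).left
    letI algZP : Algebra (Ring Z.left) (Ring P.left) := (rho (a ≫ g l).left).toAlgebra
    letI algLP : Algebra (Ring (Y l).left) (Ring P.left) := (rho a.left).toAlgebra
    letI algKP : Algebra (Ring (Y k).left) (Ring P.left) := (rho b.left).toAlgebra
    haveI t₁ : IsScalarTower (Ring Z.left) (Ring (Y l).left) (Ring P.left) :=
      IsScalarTower.of_algebraMap_eq' (rho_comp (g l).left a.left)
    haveI t₂ : IsScalarTower (Ring Z.left) (Ring (Y k).left) (Ring P.left) :=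
      IsScalarTower.of_algebraMap_eq' ((congrArg rho (congrArg (fun q : P ⟶ Z => q.left) hab)).trans
        (rho_comp (g k).left b.left))
    haveI : IsScalarTower (Ring E₀) (Ring Z.left) (Ring P.left) :=
      IsScalarTower.of_algebraMap_eq' (rhoAlg (a ≫ g l)).comp_algebraMap.symm
    haveI : Algebra.IsPushout (Ring Z.left) (Ring (Y l).left) (Ring (Y k).left) (Ring P.left) :=
      CommRingCat.isPushout_iff_isPushout.1 hpo
    let e := Algebra.IsPushout.equiv (Ring Z.left) (Ring (Y l).left) (Ring (Y k).left) (Ring P.left)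
    let e' : Ring (Y l).left ⊗[Ring Z.left] Ring (Y k).left ≃ₗ[Ring Z.left] Ring P.left :=
      e.toLinearEquiv.restrictScalars (Ring Z.left)
    let Φ : (Ring (Y l).left ⊗[Ring Z.left] Ring (Y k).left) ⊗[Ring Z.left] M →+ Ring P.left ⊗[Ring E₀] N :=
      (TensorProduct.AlgebraTensorModule.cancelBaseChange (Ring E₀) (Ring Z.left) (Ring P.left) (Ring P.left) N).toAddMonoidHom.comp
        (e'.toLinearMap.rTensor M).toAddMonoidHom
    have hΦ : Function.Injective Φ := fun z z' h =>
      (LinearEquiv.rTensor M e').injective ((TensorProduct.AlgebraTensorModule.cancelBaseChange (Ring E₀) (Ring Z.left) (Ring P.left) (Ring P.left) N).injective h)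
    have hΦt : ∀ (p : Ring (Y l).left) (q : Ring (Y k).left) (s : Ring Z.left) (n : N),
        Φ ((p ⊗ₜ[Ring Z.left] q) ⊗ₜ[Ring Z.left] (s ⊗ₜ[Ring E₀] n)) =
          (algebraMap (Ring Z.left) (Ring P.left) s * (rho a.left p * rho b.left q)) ⊗ₜ[Ring E₀] n := by
      intro p q s n
      change TensorProduct.AlgebraTensorModule.cancelBaseChange _ _ _ _ N
        (e (p ⊗ₜ[Ring Z.left] q) ⊗ₜ[Ring Z.left] (s ⊗ₜ[Ring E₀] n)) = _
      rw [TensorProduct.AlgebraTensorModule.cancelBaseChange_tmul, Algebra.smul_def, Algebra.IsPushout.equiv_tmul]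
      rfl
    refine hΦ ?_
    have hl : ∀ z, Φ ((Algebra.TensorProduct.includeLeft : Ring (Y l).left →ₐ[Ring Z.left] Ring (Y l).left ⊗[Ring Z.left]
        Ring (Y k).left).toLinearMap.rTensor M z) = preMap N a (cancel N Y g l z) := fun z => by
      induction z using TensorProduct.induction_on with
      | zero => simp
      | tmul r m =>
        induction m using TensorProduct.induction_on with
        | zero => simp
        | tmul s n =>
          refine (hΦt r 1 s n).trans ?_
          rw [map_one, mul_one]
          change _ = preMap N a (cancel N Y g l _)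
          rw [cancel, TensorProduct.AlgebraTensorModule.cancelBaseChange_tmul, preMap_tmul, Algebra.smul_def, map_mul]
          exact congrArg (fun c => (c * rho a.left r) ⊗ₜ[Ring E₀] n)
            (RingHom.congr_fun (rho_comp (g l).left a.left) s)
        | add m m' hm hm' => simp only [TensorProduct.tmul_add, map_add, hm, hm']
      | add z z' hz hz' => simp only [map_add, hz, hz']
    have hk : ∀ z, Φ ((Algebra.TensorProduct.includeRight : Ring (Y k).left →ₐ[Ring Z.left] Ring (Y l).left ⊗[Ring Z.left]
        Ring (Y k).left).toLinearMap.rTensor M z) = preMap N b (cancel N Y g k z) := fun z => by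
      induction z using TensorProduct.induction_on with
      | zero => simp
      | tmul r m =>
        induction m using TensorProduct.induction_on with
        | zero => simp
        | tmul s n =>
          refine (hΦt 1 r s n).trans ?_
          rw [map_one, one_mul]
          change _ = preMap N b (cancel N Y g k _)
          rw [cancel, TensorProduct.AlgebraTensorModule.cancelBaseChange_tmul, preMap_tmul, Algebra.smul_def, map_mul]
          exact congrArg (fun c => (c * rho b.left r) ⊗ₜ[Ring E₀] n)
            (RingHom.congr_fun ((congrArg rho (congrArg (fun q : P ⟶ Z => q.left) hab)).trans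
              (rho_comp (g k).left b.left)) s)
        | add m m' hm hm' => simp only [TensorProduct.tmul_add, map_add, hm, hm']
      | add z z' hz hz' => simp only [map_add, hz, hz']
    rw [hl, hk, LinearEquiv.apply_symm_apply, LinearEquiv.apply_symm_apply]
    exact hx l k P a b haff hab
  refine ⟨y, fun i => ?_⟩
  rw [← cancel_one_tmul N Y g i y, hy i, LinearEquiv.apply_symm_apply]

end Local

end ModEtQc
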