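import Groth.Agent.ModEtQcLib.Site
import Groth.Agent.ModEtQcLib.Descent
import Mathlib.Algebra.Category.ModuleCat.Sheaf.Abelian
import Mathlib.Algebra.Category.ModuleCat.Presheaf.Sheafification

/-!
# The sheaf associated to a module over the functions on an affine object
-/

set_option autoImplicit false
set_option backward.isDefEq.respectTransparency false
set_option backward.isDefEq.respectTransparency.types false
universe u
open CategoryTheory CategoryTheory.Limits AlgebraicGeometry Opposite AlgSp TopologicalSpace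
open scoped TensorProduct

noncomputable section

namespace ModEtQc

variable {S : Scheme.{u}} {X : Sp S} {E₀ : EtOver X}

/-- The final object of the slice. -/
abbrev top (E₀ : EtOver X) : Over E₀ := Over.mk (𝟙 E₀)

/-- The structure map to the final object. -/
abbrev toTop (Z : Over E₀) : Z ⟶ top E₀ := Over.homMk Z.hom

instance algebraOver (Z : Over E₀) : Algebra (Ring E₀) (Ring Z.left) := (rho Z.hom).toAlgebra

theorem rho_comp {E E' E'' : EtOver X} (g : E' ⟶ E) (h : E'' ⟶ E') : rho (h ≫ g) = (rho h).comp (rho g) := by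
  rw [rho, op_comp, Functor.map_comp]
  rfl

theorem rho_id (E : EtOver X) : rho (𝟙 E) = RingHom.id _ := by
  rw [rho, op_id, CategoryTheory.Functor.map_id]
  rfl

/-- Restriction of functions as a map of algebras over the base. -/
def rhoAlg {Z Z' : Over E₀} (k : Z' ⟶ Z) : Ring Z.left →ₐ[Ring E₀] Ring Z'.left :=
  { rho k.left with
    commutes' := fun a => by
      change rho k.left (rho Z.hom a) = rho Z'.hom a
      rw [← Over.w k, rho_comp]
      rfl }

theorem rhoAlg_apply {Z Z' : Over E₀} (k : Z' ⟶ Z) (r : Ring Z.left) : rhoAlg k r = rho k.left r := rfl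

variable (N : Type (u + 1)) [AddCommGroup N] [Module (Ring E₀) N]

/-- Transition maps of the presheaf `Z ↦ O(Z) ⊗ N`. -/
def preMap {Z Z' : Over E₀} (k : Z' ⟶ Z) : Ring Z.left ⊗[Ring E₀] N →ₗ[Ring E₀] Ring Z'.left ⊗[Ring E₀] N :=
  (rhoAlg k).toLinearMap.rTensor N

theorem preMap_tmul {Z Z' : Over E₀} (k : Z' ⟶ Z) (r : Ring Z.left) (n : N) :
    preMap N k (r ⊗ₜ n) = rho k.left r ⊗ₜ n := LinearMap.rTensor_tmul _ _ _ _

theorem preMap_smul {Z Z' : Over E₀} (k : Z' ⟶ Z) (a : Ring Z.left) (x : Ring Z.left ⊗[Ring E₀] N) :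
    preMap N k (a • x) = rho k.left a • preMap N k x := by
  induction x using TensorProduct.induction_on with
  | zero => simp
  | tmul r n =>
    rw [TensorProduct.smul_tmul', preMap_tmul, preMap_tmul, TensorProduct.smul_tmul', smul_eq_mul, smul_eq_mul,
      map_mul]
  | add x y hx hy => rw [smul_add, map_add, map_add, smul_add, hx, hy]

instance preModule (Z : (Over E₀)ᵒᵖ) : Module ((OEtOn E₀).obj.obj Z) (Ring Z.unop.left ⊗[Ring E₀] N) :=
  (TensorProduct.leftModule : Module (Ring Z.unop.left) (Ring Z.unop.left ⊗[Ring E₀] N))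

/-- The presheaf `Z ↦ O(Z) ⊗ N`. -/
def pre : PresheafOfModules.{u + 1} (OEtOn E₀).obj where
  obj Z := ModuleCat.of ((OEtOn E₀).obj.obj Z) (Ring Z.unop.left ⊗[Ring E₀] N)
  map {Z Z'} k := ModuleCat.ofHom
    (Y := (ModuleCat.restrictScalars ((OEtOn E₀).obj.map k).hom).obj
      (ModuleCat.of ((OEtOn E₀).obj.obj Z') (Ring Z'.unop.left ⊗[Ring E₀] N)))
    { toFun := preMap N k.unop
      map_add' := map_add _
      map_smul' := fun a x => preMap_smul N k.unop a x }
  map_id Z := by
    ext (x : Ring Z.unop.left ⊗[Ring E₀] N)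
    change preMap N (𝟙 Z.unop) x = x
    induction x using TensorProduct.induction_on with
    | zero => exact map_zero _
    | tmul r n => rw [preMap_tmul, Over.id_left, rho_id]; rfl
    | add x y hx hy => exact (map_add _ x y).trans (congr_arg₂ (· + ·) hx hy)
  map_comp {Z Z' Z''} k k' := by
    ext (x : Ring Z.unop.left ⊗[Ring E₀] N)
    change preMap N (k'.unop ≫ k.unop) x = preMap N k'.unop (preMap N k.unop x)
    induction x using TensorProduct.induction_on with
    | zero => simp
    | tmul r n => rw [preMap_tmul, preMap_tmul, preMap_tmul, Over.comp_left, rho_comp]; rfl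
    | add x y hx hy => rw [map_add, map_add, map_add, hx, hy]

variable (G : PresheafOfModules.{u + 1} (OEtOn E₀).obj)

/-- Sections. -/
abbrev secP (Z : Over E₀) : Type (u + 1) := G.obj (op Z)

instance secPModule (Z : Over E₀) : Module (Ring Z.left) (secP G Z) :=
  inferInstanceAs (Module ((OEtOn E₀).obj.obj (op Z)) (G.obj (op Z)))

instance secTopModule : Module (Ring E₀) (secP G (top E₀)) := secPModule G (top E₀)

/-- Restriction of sections. -/
def resP {Z Z' : Over E₀} (k : Z' ⟶ Z) : secP G Z →+ secP G Z' :=
  AddMonoidHom.mk' (fun x => G.map k.op x) (fun x y => map_add (G.map k.op).hom x y)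

theorem resP_smul {Z Z' : Over E₀} (k : Z' ⟶ Z) (a : Ring Z.left) (x : secP G Z) :
    resP G k (a • x) = rho k.left a • resP G k x := PresheafOfModules.map_smul G k.op a x

theorem resP_comp {Z Z' Z'' : Over E₀} (k : Z' ⟶ Z) (k' : Z'' ⟶ Z') (x : secP G Z) :
    resP G (k' ≫ k) x = resP G k' (resP G k x) := PresheafOfModules.map_comp_apply G k.op k'.op x

theorem resP_congr {Z Z' : Over E₀} {k k' : Z' ⟶ Z} (h : k = k') (x : secP G Z) : resP G k x = resP G k' x := by
  rw [h]

theorem resP_id {Z : Over E₀} (x : secP G Z) : resP G (𝟙 Z) x = x := by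
  change (G.map (𝟙 (op Z))) x = x
  rw [PresheafOfModules.map_id]
  rfl

variable {N G}

/-- Extension of a linear map to the sections over an object. -/
def extendApp (f : N →ₗ[Ring E₀] secP G (top E₀)) (Z : Over E₀) : Ring Z.left ⊗[Ring E₀] N →+ secP G Z :=
  TensorProduct.liftAddHom
    (AddMonoidHom.mk' (fun r => AddMonoidHom.mk' (fun n => r • resP G (toTop Z) (f n))
      (fun n n' => by rw [map_add, map_add, smul_add]))
      (fun r r' => AddMonoidHom.ext fun n => add_smul _ _ _))
    (fun a r n => by
      change (a • r) • resP G (toTop Z) (f n) = r • resP G (toTop Z) (f (a • n))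
      rw [map_smul, resP_smul, smul_smul, Algebra.smul_def, mul_comm]
      rfl)

theorem extendApp_tmul (f : N →ₗ[Ring E₀] secP G (top E₀)) (Z : Over E₀) (r : Ring Z.left) (n : N) :
    extendApp f Z (r ⊗ₜ n) = r • resP G (toTop Z) (f n) := rfl

theorem extendApp_smul (f : N →ₗ[Ring E₀] secP G (top E₀)) (Z : Over E₀) (a : Ring Z.left)
    (x : Ring Z.left ⊗[Ring E₀] N) : extendApp f Z (a • x) = a • extendApp f Z x := by
  induction x using TensorProduct.induction_on with
  | zero => simp
  | tmul r n => rw [TensorProduct.smul_tmul', extendApp_tmul, extendApp_tmul, smul_eq_mul, mul_smul]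
  | add x y hx hy => rw [smul_add, map_add, map_add, smul_add, hx, hy]

/-- The morphism out of `O ⊗ N` given by a linear map into the global sections. -/
def extend (f : N →ₗ[Ring E₀] secP G (top E₀)) : pre N ⟶ G where
  app Z := ModuleCat.ofHom
    { toFun := extendApp f Z.unop
      map_add' := map_add _
      map_smul' := fun a x => extendApp_smul f Z.unop a x }
  naturality {Z Z'} k := by
    ext (x : Ring Z.unop.left ⊗[Ring E₀] N)
    change extendApp f Z'.unop (preMap N k.unop x) = resP G k.unop (extendApp f Z.unop x)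
    induction x using TensorProduct.induction_on with
    | zero => simp
    | tmul r n =>
      rw [preMap_tmul, extendApp_tmul, extendApp_tmul, resP_smul, ← resP_comp]
      exact congrArg _ (resP_congr G (Over.OverMorphism.ext (Over.w k.unop).symm) _)
    | add x y hx hy => rw [map_add, map_add, map_add, map_add, hx, hy]

/-- The value of a morphism on sections. -/
abbrev appP {F : PresheafOfModules.{u + 1} (OEtOn E₀).obj} (φ : F ⟶ G) (Z : Over E₀) (x : secP F Z) : secP G Z :=
  φ.app (op Z) x

variable (N G) in
/-- `O ⊗ -` is left adjoint to global sections. -/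
def preEquiv : (pre N ⟶ G) ≃ (N →ₗ[Ring E₀] secP G (top E₀)) where
  toFun φ :=
    { toFun := fun n => φ.app (op (top E₀)) ((1 : Ring E₀) ⊗ₜ[Ring E₀] n : Ring (top E₀).left ⊗[Ring E₀] N)
      map_add' := fun n n' => by
        rw [TensorProduct.tmul_add]
        exact map_add (φ.app (op (top E₀))).hom _ _
      map_smul' := fun a n => by
        have h : ((1 : Ring (top E₀).left) ⊗ₜ[Ring E₀] (a • n)) =
            (show Ring (top E₀).left from a) • ((1 : Ring (top E₀).left) ⊗ₜ[Ring E₀] n) := by
          rw [TensorProduct.tmul_smul, TensorProduct.smul_tmul', Algebra.smul_def]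
        exact (congrArg (φ.app (op (top E₀))) h).trans (map_smul (φ.app (op (top E₀))).hom a _) }
  invFun := extend
  left_inv φ := by
    ext Z (x : Ring Z.unop.left ⊗[Ring E₀] N)
    change extendApp _ Z.unop x = appP φ Z.unop x
    induction x using TensorProduct.induction_on with
    | zero => rw [map_zero]; exact (map_zero (φ.app Z).hom).symm
    | tmul r n =>
      rw [extendApp_tmul]
      have h := PresheafOfModules.naturality_apply φ (toTop Z.unop).op
        ((1 : Ring E₀) ⊗ₜ[Ring E₀] n : Ring (top E₀).left ⊗[Ring E₀] N)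
      change φ.app Z (preMap N (toTop Z.unop) _) = resP G (toTop Z.unop) _ at h
      refine (congrArg (r • ·) h.symm).trans ?_
      rw [preMap_tmul, map_one]
      refine ((map_smul (φ.app Z).hom r _).symm.trans ?_)
      refine congrArg (φ.app Z) ?_
      change r • ((1 : Ring Z.unop.left) ⊗ₜ[Ring E₀] n) = r ⊗ₜ n
      rw [TensorProduct.smul_tmul', smul_eq_mul, mul_one]
    | add x y hx hy => rw [map_add, hx, hy]; exact (map_add (φ.app Z).hom x y).symm
  right_inv f := by
    refine LinearMap.ext fun n => ?_
    change (1 : Ring E₀) • resP G (toTop (top E₀)) (f n) = f n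
    rw [one_smul, resP_congr G (show toTop (top E₀) = 𝟙 _ from Over.OverMorphism.ext rfl), resP_id]

end ModEtQc
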